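import Cfsg.Agent.H52.DihSq.Steps

/-!
The orbit subgroup depends only on the first reflection, and it is never trivial when `G` has no
normal subgroup of index 2.
-/

set_option autoImplicit false

namespace Cfsg.Agent.H52.DihSq

open Subgroup
open Cfsg.Agent
open scoped commutatorElement

universe u

variable {G : Type u} [Group G] [Finite G] {S : Sylow 2 G} {d : DD (S : Subgroup G)}
  {s t s' t' : G}

namespace Frame

theorem active_of_map (h : Frame d s t) (h' : Frame d s' t') {g : G}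
    (hg : ∀ a, a ∈ d.E s t ↔ g * a * g⁻¹ ∈ d.E s' t')
    (hgood : d.k2 = 0 ∨ g * d.z1 * g⁻¹ = d.z1 ∨ g * d.z2 * g⁻¹ = d.z2)
    (ha : Active (d.E s t) d.z1) : Active (d.E s' t') d.z1 := by
  by_contra hn
  obtain ⟨n, hn1, hne⟩ := ha
  have h1 := h.W_map h' hg hgood (mem_W (z := d.z1) hn1)
  have h2 := h.W_map h' hg hgood (self_mem_W (d.E s t) d.z1)
  rw [W_eq_of_not_active hn, mem_zpowers_iff] at h1 h2
  obtain ⟨i, hi⟩ := h1
  obtain ⟨j, hj⟩ := h2
  have key : ∀ i : ℤ, d.z1 ^ i = 1 ∨ d.z1 ^ i = d.z1 := fun i => by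
    rcases Int.even_or_odd i with ⟨m, rfl⟩ | ⟨m, rfl⟩
    · left; rw [← two_mul, zpow_mul, zpow_two, d.dih1.z_mul_self, one_zpow]
    · right; rw [zpow_add, zpow_mul, zpow_two, d.dih1.z_mul_self, one_zpow, one_mul, zpow_one]
  have hj' : g * d.z1 * g⁻¹ = d.z1 := by
    rcases key j with e | e
    · exfalso
      rw [e] at hj
      exact d.dih1.z_ne_one (by simpa using hj.symm)
    · exact hj.symm.trans e
  rcases key i with e | e <;> rw [e] at hi
  · have e1 : n * d.z1 * n⁻¹ = 1 := by simpa using hi.symm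
    exact d.dih1.z_ne_one (by simpa using e1)
  · exact hne (mul_left_cancel (mul_right_cancel (hi.symm.trans hj'.symm)))

theorem inv_good {g : G}
    (hgood : d.k2 = 0 ∨ g * d.z1 * g⁻¹ = d.z1 ∨ g * d.z2 * g⁻¹ = d.z2) :
    d.k2 = 0 ∨ g⁻¹ * d.z1 * g⁻¹⁻¹ = d.z1 ∨ g⁻¹ * d.z2 * g⁻¹⁻¹ = d.z2 := by
  rcases hgood with e | e | e
  · exact .inl e
  · exact .inr (.inl (by conv_lhs => rw [← e]
                         group))
  · exact .inr (.inr (by conv_lhs => rw [← e]
                         group))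

theorem active_iff (h : Frame d s t) (h' : Frame d s' t') {g : G}
    (hg : ∀ a, a ∈ d.E s t ↔ g * a * g⁻¹ ∈ d.E s' t')
    (hgood : d.k2 = 0 ∨ g * d.z1 * g⁻¹ = d.z1 ∨ g * d.z2 * g⁻¹ = d.z2) :
    Active (d.E s t) d.z1 ↔ Active (d.E s' t') d.z1 :=
  ⟨h.active_of_map h' hg hgood, h'.active_of_map h (conj_iff_symm hg) (inv_good hgood)⟩

/-- The orbit subgroup does not depend on the second reflection. -/
theorem W_indep (h : Frame d s t) (h' : Frame d s t') :
    W (d.E s t) d.z1 = W (d.E s t') d.z1 := by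
  haveI : Fact (Nat.Prime 2) := ⟨Nat.prime_two⟩
  rcases Nat.eq_zero_or_pos d.k2 with hk | hk
  · have hd := d.dih2
    rw [hk] at hd
    have e1 : four d.z2 t = d.D2 := by
      rw [DD.z2, hk]; exact hd.four_eq h.t_mem (by exact h.t_refl)
    have e2 : four d.z2 t' = d.D2 := by
      rw [DD.z2, hk]; exact hd.four_eq h'.t_mem (by exact h'.t_refl)
    rw [DD.E, DD.E, e1, e2]
  suffices key : ∀ t t' : G, Frame d s t → Frame d s t' → Active (d.E s t) d.z1 →
      W (d.E s t) d.z1 = W (d.E s t') d.z1 by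
    by_cases ha : Active (d.E s t) d.z1
    · exact key t t' h h' ha
    by_cases ha' : Active (d.E s t') d.z1
    · exact (key t' t h' h ha').symm
    rw [W_eq_of_not_active ha, W_eq_of_not_active ha']
  clear h h'
  intro t t' h h' ha
  obtain ⟨w, hwE, hw1, hw2, hW, n, hnN, hnw⟩ := h.W_cases.resolve_left (fun hn => hn ha)
  have hwS := hwE.1
  have hz2 : d.pr2 w = 1 ∨ d.pr2 w = d.z2 :=
    d.dih2.eq_one_or_z (hw2 hk) (d.dih2.pow_two_eq_one_four h.t_mem h.t_refl hwE.2.2)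
  have hwc : ∀ x ∈ d.T1 s, x * w = w * x := fun x hx =>
    (d.commute_iff hx.1 hwS).mpr ⟨d.dih1.four_comm h.s_mem h.s_refl hx.2.1 hwE.2.1, by
      rcases hz2 with e | e <;> rw [e]
      · simp
      · exact (d.dih2.z_comm (d.pr2_mem hx.1)).symm⟩
  set C := centralizer ({d.z1} : Set G) with hC
  have hSC : (S : Subgroup G) ≤ C := fun x hx => mem_centralizer_singleton_iff.mpr (d.z1_comm hx).symm
  obtain ⟨R, hR, hle⟩ := H48.exists_isSylowIn_ge S.isPGroup' hSC
  have hRS : R = (S : Subgroup G) := S.is_maximal' hR.isPGroup hle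
  rw [hRS] at hR
  have hTC : (d.T1 s).map (MulAut.conj n⁻¹).toMonoidHom ≤ C := by
    rintro _ ⟨x, hx, rfl⟩
    refine mem_centralizer_singleton_iff.mpr ?_
    show n⁻¹ * x * n⁻¹⁻¹ * d.z1 = d.z1 * (n⁻¹ * x * n⁻¹⁻¹)
    have e := hwc x hx
    rw [← hnw] at e
    calc n⁻¹ * x * n⁻¹⁻¹ * d.z1 = n⁻¹ * (x * (n * d.z1 * n⁻¹)) * n := by group
      _ = n⁻¹ * (n * d.z1 * n⁻¹ * x) * n := by rw [e]
      _ = _ := by group
  obtain ⟨c, hc, hcS⟩ := hR.exists_cj_le ((S.isPGroup'.to_le (d.prod_le _ _)).map _) hTC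
  set g := c * n⁻¹ with hg
  have hgS : ∀ x ∈ d.T1 s, g * x * g⁻¹ ∈ (S : Subgroup G) := fun x hx => by
    have := H48.cj_le.mp hcS _ ⟨x, hx, rfl⟩
    rwa [show c * (MulAut.conj n⁻¹).toMonoidHom x * c⁻¹ = g * x * g⁻¹ by
      show c * (n⁻¹ * x * n⁻¹⁻¹) * c⁻¹ = _
      rw [hg]; group] at this
  have hgw : g * w * g⁻¹ = d.z1 := by
    have hcz := mem_centralizer_singleton_iff.mp hc
    calc g * w * g⁻¹ = c * (n⁻¹ * (n * d.z1 * n⁻¹) * n) * c⁻¹ := by rw [hnw, hg]; group
      _ = c * d.z1 * c⁻¹ := by group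
      _ = d.z1 := by rw [hcz, mul_assoc, mul_inv_cancel, mul_one]
  have hx2T : d.x2 ∈ d.T1 s := d.mem_prod_right d.x2_mem d.x2_mem
  have htT : t ∈ d.T1 s := d.mem_prod_right h.t_mem h.t_mem
  have hz1T : d.z1 ∈ d.T1 s := d.mem_prod_left d.dih1.z_mem (left_mem_four _ _)
  have ha' := hgS _ hx2T
  have hb' := hgS _ htT
  set a := g * d.x2 * g⁻¹ with hadef
  set b := g * t * g⁻¹ with hbdef
  set c2 := g * d.z2 * g⁻¹ with hc2
  have hab : ⁅a, b⁆ = c2 := by
    rw [hc2, ← x2_t_comm d hk h.t_mem h.t_refl, hadef, hbdef, commutatorElement_def,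
      commutatorElement_def]
    group
  have hcc : c2 * c2 = 1 := by
    rw [hc2, show g * d.z2 * g⁻¹ * (g * d.z2 * g⁻¹) = g * (d.z2 * d.z2) * g⁻¹ by group,
      d.dih2.z_mul_self]; simp
  have hfix : c2 = d.z2 := by
    obtain ⟨o1, o2⟩ := comm_invol d ha' hb' hab hcc
    have e := (d.pr1_mul_pr2 c2).symm
    rcases o1 with e1 | e1 <;> rcases o2 with e2 | e2 <;> rw [e1, e2] at e
    · exact absurd (show d.z2 = 1 by simpa [hc2] using e) d.dih2.z_ne_one
    · exact e.trans (one_mul _)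
    · exfalso
      rw [mul_one, hc2, ← hgw] at e
      have e' : d.z2 = w := mul_left_cancel (mul_right_cancel e)
      refine hw1 ?_
      rw [← e', (d.pr_of_mem2 d.dih2.z_mem).1]
      exact one_mem _
    · exfalso
      obtain ⟨p1, p2⟩ := pr_comm d ha' hb'
      rw [hab, e1] at p1
      rw [hab, e2] at p2
      have n1 : d.pr1 a * d.pr1 b ≠ d.pr1 b * d.pr1 a := fun hh => d.dih1.z_ne_one (by
        rw [hh, mul_assoc (d.pr1 b), mul_inv_cancel, mul_one, mul_inv_cancel] at p1; exact p1)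
      have n2 : d.pr2 a * d.pr2 b ≠ d.pr2 b * d.pr2 a := fun hh => d.dih2.z_ne_one (by
        rw [hh, mul_assoc (d.pr2 b), mul_inv_cancel, mul_one, mul_inv_cancel] at p2; exact p2)
      set q := g * d.z1 * g⁻¹ with hq
      have hqS := hgS _ hz1T
      have hqq : q * q = 1 := by
        rw [hq, show g * d.z1 * g⁻¹ * (g * d.z1 * g⁻¹) = g * (d.z1 * d.z1) * g⁻¹ by group,
          d.dih1.z_mul_self]; simp
      have hqa : q * a = a * q := by
        rw [hq, hadef, show g * d.z1 * g⁻¹ * (g * d.x2 * g⁻¹) = g * (d.z1 * d.x2) * g⁻¹ by group,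
          d.z1_comm hx2T.1]
        group
      have hqb : q * b = b * q := by
        rw [hq, hbdef, show g * d.z1 * g⁻¹ * (g * t * g⁻¹) = g * (d.z1 * t) * g⁻¹ by group,
          d.z1_comm htT.1]
        group
      obtain ⟨qa1, qa2⟩ := (d.commute_iff hqS ha').mp hqa
      obtain ⟨qb1, qb2⟩ := (d.commute_iff hqS hb').mp hqb
      have r1 := d.dih1.center_of_pair (d.pr1_mem hqS) (d.pr1_mem ha') (d.pr1_mem hb')
        (by rw [← d.pr1_hom hqS hqS, hqq, (d.pr_of_mem1 (one_mem _)).1]) qa1 qb1 n1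
      have r2 := d.dih2.center_of_pair (d.pr2_mem hqS) (d.pr2_mem ha') (d.pr2_mem hb')
        (by rw [← d.pr2_hom hqS hqS, hqq, (d.pr_of_mem1 (one_mem _)).2]) qa2 qb2 n2
      have e' := (d.pr1_mul_pr2 q).symm
      rcases r1 with u1 | u1 <;> rcases r2 with u2 | u2 <;> rw [u1, u2] at e'
      · exact d.dih1.z_ne_one (show d.z1 = 1 by simpa [hq] using e')
      · rw [one_mul] at e'
        have e3 : g * d.z2 * g⁻¹ = g * (w * d.z1) * g⁻¹ := by
          rw [← hc2, e, show g * (w * d.z1) * g⁻¹ = g * w * g⁻¹ * (g * d.z1 * g⁻¹) by group, hgw,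
            ← hq, e']
        have e4 : d.z2 = w * d.z1 := mul_left_cancel (mul_right_cancel e3)
        refine hw1 ?_
        rw [show w = d.z2 * d.z1 by rw [e4, mul_assoc, d.dih1.z_mul_self, mul_one],
          ← d.comm d.dih1.z_mem d.dih2.z_mem, (d.pr_eq d.dih1.z_mem d.dih2.z_mem).1]
        exact Dih.z_mem_zpowers
      · rw [mul_one, hq] at e'
        have e4 : d.z1 = w := mul_left_cancel (mul_right_cancel (e'.trans hgw.symm))
        refine hw1 ?_
        rw [← e4, (d.pr_of_mem1 d.dih1.z_mem).1]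
        exact Dih.z_mem_zpowers
      · rw [← e, hq, hc2] at e'
        exact d.z1_ne_z2 (mul_left_cancel (mul_right_cancel e'))
  have hle' : ∀ e ∈ d.E s t', e ∈ d.T1 s := fun e he => ⟨he.1, he.2.1, d.pr2_mem he.1⟩
  obtain ⟨s1, hs1, hs1', t1, ht1, ht1', hmap⟩ :=
    exists_image d h'.s_mem h'.s_refl h'.t_mem h'.t_refl fun a ha => hgS a (hle' a ha)
  have h1 : Frame d s1 t1 := ⟨h.k1, hs1, hs1', ht1, ht1'⟩
  have hmem : w ∈ W (d.E s t') d.z1 := by
    have := h1.W_map h' (conj_iff_symm hmap) (inv_good (.inr (.inr hfix)))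
      (self_mem_W (d.E s1 t1) d.z1)
    rwa [show g⁻¹ * d.z1 * g⁻¹⁻¹ = w by rw [← hgw]; group] at this
  rcases h'.W_cases with hn' | ⟨w', hwE', hw1', -, hW', -⟩
  · exfalso
    rw [W_eq_of_not_active hn', mem_zpowers_iff] at hmem
    obtain ⟨i, hi⟩ := hmem
    refine hw1 ?_
    rw [← hi, (d.pr_of_mem1 (zpow_mem d.dih1.z_mem i)).1]
    exact zpow_mem Dih.z_mem_zpowers i
  · rw [hW, hW']
    rw [hW', mem_four_iff d.dih1.z_mul_self ((d.E_elem h'.s_mem h'.s_refl h'.t_mem h'.t_refl).sq w' hwE')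
      (d.z1_comm hwE'.1)] at hmem
    rcases hmem with e | e | e | e
    · exact absurd (by rw [e, (d.pr_of_mem1 (one_mem _)).1]; exact one_mem _) hw1
    · exact absurd (by rw [e, (d.pr_of_mem1 d.dih1.z_mem).1]; exact Dih.z_mem_zpowers) hw1
    · rw [e]
    · rw [e]
      refine le_antisymm (four_le (left_mem_four _ _) ?_) (four_le (left_mem_four _ _) ?_)
      · exact mul_mem (left_mem_four _ _) (right_mem_four _ _)
      · have hh : d.z1 * (d.z1 * w') = w' := by rw [← mul_assoc, d.dih1.z_mul_self, one_mul]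
        have := mul_mem (left_mem_four d.z1 (d.z1 * w')) (right_mem_four d.z1 (d.z1 * w'))
        rwa [hh] at this

end Frame

end Cfsg.Agent.H52.DihSq
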