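import Cfsg.Agent.H52.DihSq.Active

/-!
Without a normal subgroup of index 2 the central involution is moved in every `N(E)`.
-/

set_option autoImplicit false

namespace Cfsg.Agent.H52.DihSq

open Subgroup
open Cfsg.Agent

universe u

variable {G : Type u} [Group G] [Finite G] {S : Sylow 2 G} {d : DD (S : Subgroup G)}
  {s t s' t' : G}

/-- The conjugate of `E` by an element of the first factor. -/
theorem conj_E {r e : G} (hr : r ∈ d.D1) (hs : s ∈ d.D1) (he : e ∈ d.E s t) :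
    r * e * r⁻¹ ∈ d.E (r * s * r⁻¹) t := by
  have hrS := d.le1 hr
  refine ⟨mul_mem (mul_mem hrS he.1) (inv_mem hrS), ?_, ?_⟩
  · rw [d.pr1_hom (mul_mem hrS he.1) (inv_mem hrS), d.pr1_hom hrS he.1, (d.pr_inv hrS).1,
      (d.pr_of_mem1 hr).1]
    have hz : r * d.z1 * r⁻¹ = d.z1 := by
      rw [← d.z1_comm hrS, mul_assoc, mul_inv_cancel, mul_one]
    have h0 : four d.z1 s ≤ (four d.z1 (r * s * r⁻¹)).comap (MulAut.conj r).toMonoidHom :=
      four_le (by show r * d.z1 * r⁻¹ ∈ four d.z1 _; rw [hz]; exact left_mem_four _ _)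
        (right_mem_four d.z1 (r * s * r⁻¹))
    exact h0 he.2.1
  · rw [d.pr2_hom (mul_mem hrS he.1) (inv_mem hrS), d.pr2_hom hrS he.1, (d.pr_inv hrS).2,
      (d.pr_of_mem1 hr).2]
    simpa using he.2.2

theorem conj_E_iff {r : G} (hr : r ∈ d.D1) (hs : s ∈ d.D1) (a : G) :
    a ∈ d.E s t ↔ r * a * r⁻¹ ∈ d.E (r * s * r⁻¹) t := by
  refine ⟨conj_E hr hs, fun h => ?_⟩
  have := conj_E (inv_mem hr) (mul_mem (mul_mem hr hs) (inv_mem hr)) h
  simpa [mul_assoc] using this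

/-- Reflections congruent modulo squares behave alike. -/
theorem active_class (h : Frame d s t) (h' : Frame d s' t) (hq : s' * s ∈ Dih.sq d.ρ1) :
    Active (d.E s t) d.z1 ↔ Active (d.E s' t) d.z1 := by
  obtain ⟨r, hr, hrs⟩ := d.dih1.exists_conj h.s_mem h.s_refl hq
  have hrD := d.dih1.zpowers_le hr
  refine h.active_iff h' (g := r) (hrs ▸ conj_E_iff hrD h.s_mem) (.inr (.inl ?_))
  rw [← d.z1_comm (d.le1 hrD), mul_assoc, mul_inv_cancel, mul_one]

namespace Frame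

theorem silent_fixed (h : Frame d s t) (ha : ¬ Active (d.E s t) d.z1) {n : G}
    (hn : n ∈ normalizer (d.E s t : Set G)) : n * d.z1 * n⁻¹ = d.z1 :=
  by_contra fun e => ha ⟨n, hn, e⟩

theorem silent_fix (h : Frame d s t) (h' : Frame d s' t') {g : G}
    (hg : ∀ a, a ∈ d.E s t ↔ g * a * g⁻¹ ∈ d.E s' t')
    (hgood : d.k2 = 0 ∨ g * d.z1 * g⁻¹ = d.z1 ∨ g * d.z2 * g⁻¹ = d.z2)
    (ha' : ¬ Active (d.E s' t') d.z1) {e : G} (he : e ∈ d.E s t) (hf : d.x1 * e * d.x1⁻¹ = e) :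
    d.x1 * (g * e * g⁻¹) * d.x1⁻¹ = g * e * g⁻¹ := by
  classical
  obtain ⟨m, hm, hgz⟩ := h.natural h' hg hgood
  rw [h'.silent_fixed ha' hm] at hgz
  set n : normalizer (d.E s' t' : Set G) :=
    ⟨g * h.nx * g⁻¹, conj_mem_normalizer hg h.nx.2⟩ with hn
  have htv : IsTv (d.act s' t' n) h'.p1 := by
    have := transport hg (m := h.nx) h.X_tv
    rwa [show (⟨g * (h.p1 : G) * g⁻¹, (hg _).mp h.p1.2⟩ : d.E s' t') = h'.p1 from Subtype.ext hgz]
      at this
  obtain ⟨c, hc⟩ := h'.exists_act_eq n (isPGroup_conj (d.le1 d.x1_mem) _)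
  have hq : IsTv (d.act s' t' (c * n * c⁻¹)) (d.act s' t' c h'.p1) := h'.point_conj htv
  rw [show d.act s' t' c h'.p1 = h'.p1 from Subtype.ext (h'.silent_fixed ha' c.2)] at hq
  have hX : d.act s' t' (c * n * c⁻¹) = h'.X := by
    rcases hc with e | e | e | e
    · obtain ⟨a, ha⟩ := hq.moves; exact absurd (by rw [e]; rfl) ha
    · exact e
    · rcases Nat.eq_zero_or_pos d.k2 with hk | hk
      · rw [e, h'.Y_eq_one hk] at hq
        obtain ⟨a, ha⟩ := hq.moves; exact absurd rfl ha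
      · exact absurd (congrArg Subtype.val ((e ▸ hq).unique (h'.Y_tv hk))) d.z1_ne_z2
    · rcases Nat.eq_zero_or_pos d.k2 with hk | hk
      · rw [e, h'.Y_eq_one hk, mul_one]
      · exact absurd (e ▸ hq) (h'.XY_not_tv hk _)
  have hnC : d.act s' t' n ∈ h'.C := ⟨c⁻¹, by
    rw [← hX]; simp only [map_mul, map_inv]; group⟩
  have hXC : h'.X ∈ h'.C := ⟨1, by rw [map_one, one_mul, inv_one, mul_one]⟩
  have heq : d.act s' t' n = h'.X := h'.tvClass.eq_of_point hnC hXC htv h'.X_tv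
  have h1 := congrArg Subtype.val (DFunLike.congr_fun heq ⟨g * e * g⁻¹, (hg e).mp he⟩)
  change g * d.x1 * g⁻¹ * (g * e * g⁻¹) * (g * d.x1 * g⁻¹)⁻¹ =
    d.x1 * (g * e * g⁻¹) * d.x1⁻¹ at h1
  rw [← h1]
  calc g * d.x1 * g⁻¹ * (g * e * g⁻¹) * (g * d.x1 * g⁻¹)⁻¹ = g * (d.x1 * e * d.x1⁻¹) * g⁻¹ := by
        group
    _ = _ := by rw [hf]

end Frame

/-- The central involution of the first factor is moved everywhere. -/
theorem active_all (h2 : ∀ N : Subgroup G, N.Normal → N.index ≠ 2) (h : Frame d s t) :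
    Active (d.E s t) d.z1 := by
  classical
  by_contra hna
  have hk1 := h.k1
  obtain ⟨t₀, ht₀, ht₀'⟩ := d.dih2.exists_refl
  have mk : ∀ {s t : G}, s ∈ d.D1 → s ∉ zpowers d.ρ1 → t ∈ d.D2 → t ∉ zpowers d.ρ2 → Frame d s t :=
    fun {s t} h1 h2 h3 h4 => ⟨hk1, h1, h2, h3, h4⟩
  have hind : ∀ {s t : G} (h : Frame d s t), Active (d.E s t) d.z1 ↔ Active (d.E s t₀) d.z1 := by
    intro s t h
    have h' : Frame d s t₀ := mk h.s_mem h.s_refl ht₀ ht₀'
    have e := h.W_indep h'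
    constructor <;> intro ha <;> by_contra hn
    · obtain ⟨n, hn1, hne⟩ := ha
      have := mem_W (z := d.z1) hn1
      rw [e, W_eq_of_not_active hn, mem_zpowers_iff] at this
      obtain ⟨i, hi⟩ := this
      refine (h.orbit hn1 hne).1 ?_
      rw [← hi, (d.pr_of_mem1 (zpow_mem d.dih1.z_mem i)).1]
      exact zpow_mem Dih.z_mem_zpowers i
    · obtain ⟨n, hn1, hne⟩ := ha
      have := mem_W (z := d.z1) hn1
      rw [← e, W_eq_of_not_active hn, mem_zpowers_iff] at this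
      obtain ⟨i, hi⟩ := this
      refine (h'.orbit hn1 hne).1 ?_
      rw [← hi, (d.pr_of_mem1 (zpow_mem d.dih1.z_mem i)).1]
      exact zpow_mem Dih.z_mem_zpowers i
  have hs0 : ¬ Active (d.E s t₀) d.z1 := fun ha => hna ((hind h).mpr ha)
  -- an index 2 subgroup of `D₁` whose reflections are the active ones
  obtain ⟨K₁, hK₁, hK₁z, hK₁par, hK₁act, a, ha, haK⟩ : ∃ K₁ : Subgroup G, K₁ ≤ d.D1 ∧ d.z1 ∈ K₁ ∧
      (∀ x ∈ d.D1, ∀ y ∈ d.D1, x * y ∈ K₁ ↔ (x ∈ K₁ ↔ y ∈ K₁)) ∧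
      (∀ v ∈ d.D1, v ∉ zpowers d.ρ1 → (v ∈ K₁ ↔ Active (d.E v t₀) d.z1)) ∧
      ∃ a ∈ d.D1, a ∉ K₁ := by
    by_cases hex : ∃ s₀ ∈ d.D1, s₀ ∉ zpowers d.ρ1 ∧ Active (d.E s₀ t₀) d.z1
    · obtain ⟨s₀, hs₀, hs₀', hact⟩ := hex
      refine ⟨d.dih1.half hs₀ hs₀', fun x hx => hx.1, d.dih1.z_mem_half hk1 hs₀ hs₀',
        fun x hx y hy => d.dih1.half_parity hs₀ hs₀' hx hy, fun v hv hv' => ⟨fun hm => ?_, fun hm => ?_⟩,
        s, h.s_mem, fun hm => ?_⟩
      · rcases hm.2 with e | e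
        · exact absurd (Dih.sq_le_zpowers e) hv'
        · exact (active_class (mk hs₀ hs₀' ht₀ ht₀') (mk hv hv' ht₀ ht₀') e).mp hact
      · refine ⟨hv, .inr ?_⟩
        have hm' : v * s₀ ∈ zpowers d.ρ1 :=
          (d.dih1.mul_mem_zpowers_iff hv hs₀).mpr (iff_of_false hv' hs₀')
        by_contra hne
        -- then `v` lies in the class of `s`, which is not active
        have hsq : ¬ s * s₀ ∈ Dih.sq d.ρ1 := fun e =>
          hs0 ((active_class (mk hs₀ hs₀' ht₀ ht₀') (mk h.s_mem h.s_refl ht₀ ht₀') e).mp hact)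
        have h1 := (Dih.sq_cases hm').resolve_left hne
        have h2' := (Dih.sq_cases
          ((d.dih1.mul_mem_zpowers_iff h.s_mem hs₀).mpr (iff_of_false h.s_refl hs₀'))).resolve_left hsq
        have h3 : v * s ∈ Dih.sq d.ρ1 := by
          have hss := d.dih1.refl_inv h.s_mem h.s_refl
          have := mul_mem h1 (inv_mem h2')
          rw [show v * s₀ * d.ρ1 * (s * s₀ * d.ρ1)⁻¹ = v * s⁻¹ by group, hss] at this
          exact this
        exact hs0 ((active_class (mk h.s_mem h.s_refl ht₀ ht₀') (mk hv hv' ht₀ ht₀') h3).mpr hm)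
      · rcases hm.2 with e | e
        · exact h.s_refl (Dih.sq_le_zpowers e)
        · exact hs0 ((active_class (mk hs₀ hs₀' ht₀ ht₀') (mk h.s_mem h.s_refl ht₀ ht₀') e).mp hact)
    · push Not at hex
      exact ⟨zpowers d.ρ1, d.dih1.zpowers_le, Dih.z_mem_zpowers,
        fun x hx y hy => d.dih1.mul_mem_zpowers_iff hx hy,
        fun v hv hv' => iff_of_false hv' (hex v hv hv'), s, h.s_mem, h.s_refl⟩
  set K := d.prod K₁ d.D2 with hK
  have hmemK : ∀ x ∈ (S : Subgroup G), x ∈ K ↔ d.pr1 x ∈ K₁ := fun x hx =>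
    ⟨fun hh => hh.2.1, fun hh => ⟨hx, hh, d.pr2_mem hx⟩⟩
  have hpar : ∀ x ∈ (S : Subgroup G), ∀ y ∈ (S : Subgroup G), x * y ∈ K ↔ (x ∈ K ↔ y ∈ K) := by
    intro x hx y hy
    rw [hmemK _ (mul_mem hx hy), hmemK _ hx, hmemK _ hy, d.pr1_hom hx hy]
    exact hK₁par _ (d.pr1_mem hx) _ (d.pr1_mem hy)
  have hstep : ∀ H, Step d H → ∀ g ∈ normalizer (H : Set G), ∀ x ∈ H,
      (x ∈ K ↔ g * x * g⁻¹ ∈ K) := by
    intro H hH g hg
    have hgood := (fix_of_step d hH hg).good hk1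
    let J : Subgroup G :=
    { carrier := {x | x ∈ H ∧ (x ∈ K ↔ g * x * g⁻¹ ∈ K)}
      one_mem' := ⟨one_mem H, by simp [K.one_mem]⟩
      mul_mem' := fun {x y} hx hy => ⟨mul_mem hx.1 hy.1, by
        rw [hpar x (hH.le hx.1) y (hH.le hy.1),
          show g * (x * y) * g⁻¹ = g * x * g⁻¹ * (g * y * g⁻¹) by group,
          hpar _ (hH.le (Coprime.conj_mem hg hx.1)) _ (hH.le (Coprime.conj_mem hg hy.1)), hx.2, hy.2]⟩
      inv_mem' := fun {x} hx => ⟨inv_mem hx.1, by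
        rw [show g * x⁻¹ * g⁻¹ = (g * x * g⁻¹)⁻¹ by group, inv_mem_iff, inv_mem_iff]; exact hx.2⟩ }
    have hgen : H ≤ J := hH.gen fun s hs hs' t ht ht' hle e he => by
      refine ⟨hle he, ?_⟩
      obtain ⟨s1, hs1, hs1', t1, ht1, ht1', hmap⟩ := exists_image d hs hs' ht ht'
        fun a ha => hH.le (Coprime.conj_mem hg (hle ha))
      have hf : Frame d s t := mk hs hs' ht ht'
      have hf1 : Frame d s1 t1 := mk hs1 hs1' ht1 ht1'
      have hiff := hf.active_iff hf1 hmap hgood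
      have hact : ∀ {s t : G}, Frame d s t → Active (d.E s t) d.z1 → ∀ e ∈ d.E s t, e ∈ K := by
        intro s t hf ha e he
        refine (hmemK e he.1).mpr ?_
        have hsK : s ∈ K₁ := (hK₁act s hf.s_mem hf.s_refl).mpr ((hind hf).mp ha)
        exact four_le hK₁z hsK he.2.1
      have hsil : ∀ {s t : G}, Frame d s t → ¬ Active (d.E s t) d.z1 → ∀ e ∈ d.E s t,
          (e ∈ K ↔ d.x1 * e * d.x1⁻¹ = e) := by
        intro s t hf ha e he
        rw [hmemK e he.1]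
        have hsK : s ∉ K₁ := fun hm => ha ((hind hf).mpr ((hK₁act s hf.s_mem hf.s_refl).mp hm))
        have hz : d.pr1 e ∈ K₁ ↔ d.pr1 e ∈ zpowers d.ρ1 := by
          rcases (mem_four_iff d.dih1.z_mul_self (d.dih1.refl_mul_self hf.s_mem hf.s_refl)
            (d.dih1.z_comm hf.s_mem)).mp he.2.1 with e' | e' | e' | e' <;> rw [e']
          · exact iff_of_true (one_mem _) (one_mem _)
          · exact iff_of_true hK₁z Dih.z_mem_zpowers
          · exact iff_of_false hsK hf.s_refl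
          · refine iff_of_false (fun hc => hsK ?_) (fun hc => hf.s_refl ?_)
            · simpa using mul_mem (inv_mem hK₁z) hc
            · simpa using mul_mem (inv_mem (Dih.z_mem_zpowers (ρ := d.ρ1) (k := d.k1))) hc
        rw [hz]
        obtain ⟨c1, c2⟩ := d.conj_x1 he.1
        refine ⟨c1, fun hc => by_contra fun hne => ?_⟩
        rw [c2 hne, mul_eq_right, DD.x1, d.dih1.rot_sq hk1] at hc
        exact d.dih1.z_ne_one hc
      by_cases ha : Active (d.E s t) d.z1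
      · exact iff_of_true (hact hf ha e he) (hact hf1 (hiff.mp ha) _ ((hmap e).mp he))
      · have ha1 := mt hiff.mpr ha
        rw [hsil hf ha e he, hsil hf1 ha1 _ ((hmap e).mp he)]
        refine ⟨hf.silent_fix hf1 hmap hgood ha1 he, fun hc => ?_⟩
        have h3 := hf1.silent_fix hf (conj_iff_symm hmap) (Frame.inv_good hgood) ha
          ((hmap e).mp he) hc
        rwa [show g⁻¹ * (g * e * g⁻¹) * g⁻¹⁻¹ = e by group] at h3
    exact fun x hx => (hgen hx).2
  have hSstep : Step d (S : Subgroup G) := .inl rfl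
  obtain ⟨N, hN, hN2⟩ := exists_index_two (S := S) (K := K) (d.prod_le _ _)
    (relIndex_eq_two (d.le1 ha) (fun hc => haK (by
      have := hc.2.1
      rwa [(d.pr_of_mem1 ha).1] at this)) hpar) (fun x hx g hgx =>
    ⟨fun hP => invariant_of_steps (S := S) (fun a => a ∈ K)
        (fun g hg x hx hP => (hstep _ hSstep g hg x hx).mp hP)
        (fun H hH g hg x hx hP => (hstep H (hH.cases d) g hg x hx).mp hP) hx hgx hP,
      fun hP => by_contra fun hn => invariant_of_steps (S := S) (fun a => a ∉ K)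
        (fun g hg x hx hP => mt (hstep _ hSstep g hg x hx).mpr hP)
        (fun H hH g hg x hx hP => mt (hstep H (hH.cases d) g hg x hx).mpr hP) hx hgx hn hP⟩)
  exact h2 N hN hN2

end Cfsg.Agent.H52.DihSq
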