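import Mathlib.GroupTheory.Sylow

/-!
Classes of transvections of elementary abelian 2-groups in which commuting members are equal.
-/

set_option autoImplicit false

namespace Cfsg.Agent.H52.DihSq

open Subgroup

universe u

variable {A : Type u} [Group A]

/-- `f` is a transvection with point `p`. -/
structure IsTv (f : MulAut A) (p : A) : Prop where
  ne : p ≠ 1
  fix : f p = p
  disp : ∀ a, f a = a ∨ f a = a * p
  moves : ∃ a, f a ≠ a

namespace IsTv

variable {f g : MulAut A} {p q : A}

theorem conj (h : IsTv f p) (g : MulAut A) : IsTv (g * f * g⁻¹) (g p) where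
  ne e := h.ne (g.injective (by rw [e, map_one]))
  fix := by simp [h.fix]
  disp a := by
    rcases h.disp (g⁻¹ a) with e | e
    · left; simp only [MulAut.mul_apply, e, MulAut.apply_inv_self]
    · right; simp only [MulAut.mul_apply, e, map_mul, MulAut.apply_inv_self]
  moves := by
    obtain ⟨a, ha⟩ := h.moves
    exact ⟨g a, fun e => ha (g.injective (by simpa using e))⟩

theorem unique (h : IsTv f p) (h' : IsTv f q) : p = q := by
  obtain ⟨a, ha⟩ := h.moves
  exact mul_left_cancel (((h.disp a).resolve_left ha).symm.trans ((h'.disp a).resolve_left ha))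

theorem commute_of_fix (h : IsTv f p) (h' : IsTv g q) (h1 : f q = q) (h2 : g p = p)
    (hc : ∀ a b : A, a * b = b * a) : f * g = g * f := by
  ext a
  simp only [MulAut.mul_apply]
  rcases h.disp a with e | e <;> rcases h'.disp a with e' | e' <;>
    simp only [e, e', map_mul, h1, h2]
  rw [mul_assoc, mul_assoc, hc p q]

end IsTv

/-- A class of transvections closed under conjugation in which commuting members are equal. -/
structure TvClass (C : Set (MulAut A)) : Prop where
  sq : ∀ a : A, a * a = 1
  tv : ∀ f ∈ C, ∃ p, IsTv f p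
  conj : ∀ f ∈ C, ∀ g ∈ C, f * g * f⁻¹ ∈ C
  comm : ∀ f ∈ C, ∀ g ∈ C, f * g = g * f → f = g

namespace TvClass

variable {C : Set (MulAut A)} {f g t : MulAut A} {p q r : A}

theorem abelian (h : TvClass C) (a b : A) : a * b = b * a := by
  have h1 := inv_eq_of_mul_eq_one_right (h.sq (a * b))
  rwa [mul_inv_rev, inv_eq_of_mul_eq_one_right (h.sq a), inv_eq_of_mul_eq_one_right (h.sq b),
    eq_comm] at h1

theorem eq_of_point (h : TvClass C) (hf : f ∈ C) (hg : g ∈ C) (hp : IsTv f p) (hq : IsTv g p) :
    f = g :=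
  h.comm f hf g hg (hp.commute_of_fix hq hp.fix hq.fix h.abelian)

theorem move (h : TvClass C) (hf : f ∈ C) (hg : g ∈ C) (hp : IsTv f p) (hq : IsTv g q)
    (hne : f ≠ g) : f q = q * p := by
  refine (hp.disp q).resolve_left fun e => hne (h.comm f hf g hg ?_)
  have h1 : f * g * f⁻¹ = g := h.eq_of_point (h.conj f hf g hg) hg (by
    have := hq.conj f
    rwa [e] at this) hq
  exact mul_inv_eq_iff_eq_mul.mp h1

theorem point_cases (h : TvClass C) (hf : f ∈ C) (hg : g ∈ C) (ht : t ∈ C) (hp : IsTv f p)
    (hq : IsTv g q) (hr : IsTv t r) (hne : f ≠ g) : r = p ∨ r = q ∨ r = p * q := by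
  by_contra hc
  push Not at hc
  obtain ⟨h1, h2, h3⟩ := hc
  have hm := h.move hf hg hp hq hne
  have hu : IsTv (f * g * f⁻¹) (p * q) := by
    have := hq.conj f
    rwa [hm, h.abelian q p] at this
  have hne1 : t ≠ f := fun e => h1 (hr.unique (e ▸ hp))
  have hne2 : t ≠ g := fun e => h2 (hr.unique (e ▸ hq))
  have hne3 : t ≠ f * g * f⁻¹ := fun e => h3 (hr.unique (e ▸ hu))
  have e1 := h.move ht (h.conj f hf g hg) hr hu hne3
  rw [map_mul, h.move ht hf hr hp hne1, h.move ht hg hr hq hne2] at e1
  refine hr.ne ?_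
  calc r = (p * q)⁻¹ * (p * q * r) := by group
    _ = (p * q)⁻¹ * (p * r * (q * r)) := by rw [← e1]
    _ = (p * q)⁻¹ * (p * (r * r) * q) := by rw [h.abelian q r]; group
    _ = 1 := by rw [h.sq r, mul_one, inv_mul_cancel]

end TvClass

end Cfsg.Agent.H52.DihSq
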