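import Cfsg.Agent.H52.DihSq.Subgroups
import Cfsg.Agent.H52.DihSq.Transvection
import Mathlib.GroupTheory.Subgroup.Centralizer

/-!
The orbit of a central involution in the normalizer of an elementary subgroup of order 16.
-/

set_option autoImplicit false

namespace Cfsg.Agent.H52.DihSq

open Subgroup
open Cfsg.Agent
open scoped commutatorElement

universe u

variable {G : Type u} [Group G]

/-- The subgroup generated by the orbit of `z` under the normalizer of `A`. -/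
def W (A : Subgroup G) (z : G) : Subgroup G :=
  closure {w | ∃ n ∈ normalizer (A : Set G), n * z * n⁻¹ = w}

theorem mem_W {A : Subgroup G} {z n : G} (hn : n ∈ normalizer (A : Set G)) :
    n * z * n⁻¹ ∈ W A z :=
  subset_closure ⟨n, hn, rfl⟩

theorem self_mem_W (A : Subgroup G) (z : G) : z ∈ W A z := by
  simpa using mem_W (z := z) (one_mem (normalizer (A : Set G)))

theorem W_le {A : Subgroup G} {z : G} (hz : z ∈ A) : W A z ≤ A :=
  (closure_le _).mpr (by rintro w ⟨n, hn, rfl⟩; exact Coprime.conj_mem hn hz)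

theorem conj_mem_normalizer {A B : Subgroup G} {g n : G} (h : ∀ a, a ∈ A ↔ g * a * g⁻¹ ∈ B)
    (hn : n ∈ normalizer (A : Set G)) : g * n * g⁻¹ ∈ normalizer (B : Set G) := by
  rw [mem_normalizer_iff]
  intro b
  have key : ∀ b, b ∈ B ↔ g⁻¹ * b * g ∈ A := fun b => by
    rw [h, show g * (g⁻¹ * b * g) * g⁻¹ = b by group]
  rw [key, key]
  have h2 := (mem_normalizer_iff.mp hn) (g⁻¹ * b * g)
  rw [show g⁻¹ * (g * n * g⁻¹ * b * (g * n * g⁻¹)⁻¹) * g = n * (g⁻¹ * b * g) * n⁻¹ by group]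
  exact h2

theorem conj_iff_symm {A B : Subgroup G} {g : G} (h : ∀ a, a ∈ A ↔ g * a * g⁻¹ ∈ B) :
    ∀ b, b ∈ B ↔ g⁻¹ * b * g⁻¹⁻¹ ∈ A := fun b => by
  rw [inv_inv, h, show g * (g⁻¹ * b * g) * g⁻¹ = b by group]

/-- The orbit subgroups are carried along by conjugation. -/
theorem conj_mem_W {A B : Subgroup G} {g z n₀ : G} (h : ∀ a, a ∈ A ↔ g * a * g⁻¹ ∈ B)
    (hn₀ : n₀ ∈ normalizer (B : Set G)) (hz : g * z * g⁻¹ = n₀ * z * n₀⁻¹) {x : G}
    (hx : x ∈ W A z) : g * x * g⁻¹ ∈ W B z := by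
  have h0 : W A z ≤ (W B z).comap (MulAut.conj g).toMonoidHom := (closure_le _).mpr (by
    rintro w ⟨n, hn, rfl⟩
    show g * (n * z * n⁻¹) * g⁻¹ ∈ W B z
    rw [show g * (n * z * n⁻¹) * g⁻¹ = (g * n * g⁻¹) * (g * z * g⁻¹) * (g * n * g⁻¹)⁻¹ by group, hz,
      show g * n * g⁻¹ * (n₀ * z * n₀⁻¹) * (g * n * g⁻¹)⁻¹ =
        (g * n * g⁻¹ * n₀) * z * (g * n * g⁻¹ * n₀)⁻¹ by group]
    exact mem_W (mul_mem (conj_mem_normalizer h hn) hn₀))
  exact h0 hx

variable [Finite G]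

/-- An elementary subgroup of order 16 of `S`. -/
structure Elem16 (S A : Subgroup G) : Prop where
  le : A ≤ S
  card : Nat.card A = 16
  sq : ∀ a ∈ A, a * a = 1

theorem Elem16.map {S A : Subgroup G} (hA : Elem16 S A) {g : G}
    (hg : ∀ a ∈ A, g * a * g⁻¹ ∈ S) : Elem16 S (A.map (MulAut.conj g).toMonoidHom) where
  le := by rintro _ ⟨a, ha, rfl⟩; exact hg a ha
  card := by rw [Subgroup.card_map_of_injective (MulAut.conj g).injective]; exact hA.card
  sq := by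
    rintro _ ⟨a, ha, rfl⟩
    rw [← map_mul, hA.sq a ha, map_one]

theorem mem_map_conj_iff {A : Subgroup G} {g a : G} :
    a ∈ A ↔ g * a * g⁻¹ ∈ A.map (MulAut.conj g).toMonoidHom := by
  refine ⟨fun h => ⟨a, h, rfl⟩, ?_⟩
  rintro ⟨b, hb, e⟩
  have : b = a := by simpa using e
  exact this ▸ hb

namespace Dih

variable {D : Subgroup G} {ρ : G} {k : ℕ}

theorem card_four (h : Dih D ρ k) {s : G} (hs : s ∈ D) (hs' : s ∉ zpowers ρ) :
    Nat.card (four (zinv ρ k) s) = 4 := by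
  classical
  have hset : ((four (zinv ρ k) s : Subgroup G) : Set G) =
      ((({1, zinv ρ k, s, zinv ρ k * s} : Finset G)) : Set G) := by
    ext x
    simp only [SetLike.mem_coe, mem_four_iff h.z_mul_self (h.refl_mul_self hs hs') (h.z_comm hs)]
    simp
  have h1 : s ≠ 1 := fun e => hs' (e ▸ one_mem _)
  have h2 : s ≠ zinv ρ k := fun e => hs' (e ▸ z_mem_zpowers)
  have h3 : zinv ρ k * s ≠ 1 := fun e => h2 (by
    rw [← mul_right_inj (zinv ρ k), e, h.z_mul_self])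
  have h4 : zinv ρ k * s ≠ zinv ρ k := fun e => h1 (mul_eq_left.mp e)
  have h5 : zinv ρ k * s ≠ s := fun e => h.z_ne_one (mul_eq_right.mp e)
  calc Nat.card (four (zinv ρ k) s) = ((four (zinv ρ k) s : Subgroup G) : Set G).ncard :=
        Nat.card_coe_set_eq _
    _ = ({1, zinv ρ k, s, zinv ρ k * s} : Finset G).card := by rw [hset, Set.ncard_coe_finset]
    _ = 4 := by
      rw [Finset.card_insert_of_notMem (by simp [h.z_ne_one.symm, h1.symm, h3.symm]),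
        Finset.card_insert_of_notMem (by simp [h2.symm, h4.symm]),
        Finset.card_insert_of_notMem (by simp [h5.symm]), Finset.card_singleton]

theorem elementary_le_four (h : Dih D ρ k) {Q : Set G} (hQ : ∀ q ∈ Q, q ∈ D)
    (hsq : ∀ q ∈ Q, q * q = 1) (hc : ∀ p ∈ Q, ∀ q ∈ Q, p * q = q * p) :
    ∃ s ∈ D, s ∉ zpowers ρ ∧ ∀ q ∈ Q, q ∈ four (zinv ρ k) s := by
  by_cases hr : ∃ s ∈ Q, s ∉ zpowers ρ
  · obtain ⟨s, hs, hs'⟩ := hr
    exact ⟨s, hQ s hs, hs', fun q hq => h.mem_four_of_comm (hQ s hs) hs' (hQ q hq) (hc q hq s hs)⟩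
  · push Not at hr
    obtain ⟨s, hs, hs'⟩ := h.exists_refl
    refine ⟨s, hs, hs', fun q hq => ?_⟩
    rcases h.eq_one_or_z (hr q hq) (hsq q hq) with rfl | rfl
    exacts [one_mem _, left_mem_four _ _]

/-- A rotation acting on every four-group as the outer involution. -/
def rot (ρ : G) (k : ℕ) : G := ρ ^ 2 ^ (k - 1)

theorem rot_mem_zpowers : rot ρ k ∈ zpowers ρ := pow_mem (mem_zpowers _) _

theorem rot_mem (h : Dih D ρ k) : rot ρ k ∈ D := h.zpowers_le rot_mem_zpowers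

theorem rot_sq (_h : Dih D ρ k) (hk : 1 ≤ k) : rot ρ k * rot ρ k = zinv ρ k := by
  rw [rot, zinv, ← pow_add, ← two_mul, ← pow_succ', Nat.sub_add_cancel hk]

theorem rot_zero : rot ρ 0 = zinv ρ 0 := rfl

theorem rot_conj (h : Dih D ρ k) (hk : 1 ≤ k) {s : G} (hs : s ∈ D) (hs' : s ∉ zpowers ρ) :
    rot ρ k * s * (rot ρ k)⁻¹ = zinv ρ k * s := by
  have h1 := h.conj_refl hs hs' (inv_mem (rot_mem_zpowers (ρ := ρ) (k := k)))
  rw [inv_inv, mul_inv_eq_iff_eq_mul] at h1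
  rw [mul_assoc, h1, ← mul_assoc, h.rot_sq hk]

theorem rot_conj_zpowers {r : G} (hr : r ∈ zpowers ρ) : rot ρ k * r * (rot ρ k)⁻¹ = r := by
  rw [comm_zpowers rot_mem_zpowers hr, mul_assoc, mul_inv_cancel, mul_one]

theorem act_four (h : Dih D ρ k) {s n : G} (hs : s ∈ D) (hs' : s ∉ zpowers ρ) (hn : n ∈ D)
    (hns : n * s * n⁻¹ ∈ four (zinv ρ k) s) :
    (∀ v ∈ four (zinv ρ k) s, n * v * n⁻¹ = v) ∨
      (∀ v ∈ four (zinv ρ k) s, n * v * n⁻¹ = rot ρ k * v * (rot ρ k)⁻¹) := by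
  have hext : ∀ a b : G, a ∈ D → b ∈ D → a * s * a⁻¹ = b * s * b⁻¹ →
      ∀ v ∈ four (zinv ρ k) s, a * v * a⁻¹ = b * v * b⁻¹ := by
    intro a b ha hb hab v hv
    have hz : ∀ c ∈ D, c * zinv ρ k * c⁻¹ = zinv ρ k := fun c hc => by
      rw [← h.z_comm hc, mul_assoc, mul_inv_cancel, mul_one]
    have h0 : four (zinv ρ k) s ≤
        MonoidHom.eqLocus (MulAut.conj a).toMonoidHom (MulAut.conj b).toMonoidHom :=
      four_le ((hz a ha).trans (hz b hb).symm) hab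
    exact h0 hv
  rcases (mem_four_iff h.z_mul_self (h.refl_mul_self hs hs') (h.z_comm hs)).mp hns with e | e | e | e
  · exfalso
    have : s = 1 := by
      rw [mul_inv_eq_one, mul_eq_left] at e
      exact e
    exact hs' (this ▸ one_mem _)
  · exfalso
    refine hs' ?_
    have : s = n⁻¹ * zinv ρ k * n := by rw [← e]; group
    rw [this, mul_assoc, h.z_comm hn, ← mul_assoc, inv_mul_cancel, one_mul]
    exact z_mem_zpowers
  · left
    intro v hv
    simpa using hext n 1 hn (one_mem _) (by simpa using e) v hv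
  · right
    rcases Nat.eq_zero_or_pos k with rfl | hk
    · exfalso
      rw [h.comm_of_zero hn hs, mul_assoc, mul_inv_cancel, mul_one] at e
      exact h.z_ne_one (mul_eq_right.mp e.symm)
    · exact hext n _ hn h.rot_mem (e.trans (h.rot_conj hk hs hs').symm)

end Dih

namespace DD

variable {S : Subgroup G} (d : DD S)

/-- The outer rotation in the first factor. -/
def x1 : G := Dih.rot d.ρ1 d.k1

/-- The outer rotation in the second factor. -/
def x2 : G := Dih.rot d.ρ2 d.k2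

theorem x1_mem : d.x1 ∈ d.D1 := d.dih1.rot_mem

theorem x2_mem : d.x2 ∈ d.D2 := d.dih2.rot_mem

variable {s t : G}

theorem E_symm : d.symm.E t s = d.E s t := d.prod_symm _ _

theorem E_sq (hs : s ∈ d.D1) (hs' : s ∉ zpowers d.ρ1) (ht : t ∈ d.D2) (ht' : t ∉ zpowers d.ρ2)
    {e : G} (he : e ∈ d.E s t) : e * e = 1 := by
  refine d.ext ?_ ?_
  · rw [d.pr1_hom he.1 he.1, (d.pr_of_mem1 (one_mem _)).1]
    exact d.dih1.pow_two_eq_one_four hs hs' he.2.1
  · rw [d.pr2_hom he.1 he.1, (d.pr_of_mem1 (one_mem _)).2]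
    exact d.dih2.pow_two_eq_one_four ht ht' he.2.2

theorem E_comm (hs : s ∈ d.D1) (hs' : s ∉ zpowers d.ρ1) (ht : t ∈ d.D2) (ht' : t ∉ zpowers d.ρ2)
    {a b : G} (ha : a ∈ d.E s t) (hb : b ∈ d.E s t) : a * b = b * a :=
  (d.commute_iff ha.1 hb.1).mpr ⟨d.dih1.four_comm hs hs' ha.2.1 hb.2.1,
    d.dih2.four_comm ht ht' ha.2.2 hb.2.2⟩

theorem E_elem (hs : s ∈ d.D1) (hs' : s ∉ zpowers d.ρ1) (ht : t ∈ d.D2) (ht' : t ∉ zpowers d.ρ2) :
    Elem16 S (d.E s t) := by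
  refine ⟨d.prod_le _ _, ?_, fun e he => d.E_sq hs hs' ht ht' he⟩
  have h1 : four d.z1 s ≤ d.D1 := four_le d.dih1.z_mem hs
  have h2 : four d.z2 t ≤ d.D2 := four_le d.dih2.z_mem ht
  let f : d.E s t → four d.z1 s × four d.z2 t := fun e => (⟨_, e.2.2.1⟩, ⟨_, e.2.2.2⟩)
  have hf : Function.Bijective f := by
    refine ⟨fun a b e => Subtype.ext ?_, fun ⟨a, b⟩ => ?_⟩
    · simp only [f, Prod.mk.injEq, Subtype.mk.injEq] at e
      exact d.ext e.1 e.2
    · obtain ⟨e1, e2⟩ := d.pr_eq (h1 a.2) (h2 b.2)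
      refine ⟨⟨a * b, mul_mem (d.le1 (h1 a.2)) (d.le2 (h2 b.2)), ?_, ?_⟩, ?_⟩
      · rw [e1]; exact a.2
      · rw [e2]; exact b.2
      · simp only [f, e1, e2]
  rw [Nat.card_eq_of_bijective f hf, Nat.card_prod, d.dih1.card_four hs hs',
    d.dih2.card_four ht ht']

theorem E_eq_of_elem {A : Subgroup G} (hA : Elem16 S A) :
    ∃ s ∈ d.D1, s ∉ zpowers d.ρ1 ∧ ∃ t ∈ d.D2, t ∉ zpowers d.ρ2 ∧ A = d.E s t := by
  have hc : ∀ a ∈ A, ∀ b ∈ A, a * b = b * a := fun a ha b hb => by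
    rw [← inv_eq_of_mul_eq_one_right (hA.sq _ (mul_mem ha hb)), mul_inv_rev,
      inv_eq_of_mul_eq_one_right (hA.sq a ha), inv_eq_of_mul_eq_one_right (hA.sq b hb)]
  obtain ⟨s, hs, hs', h1⟩ := d.dih1.elementary_le_four (Q := {q | ∃ a ∈ A, d.pr1 a = q})
    (by rintro q ⟨a, ha, rfl⟩; exact d.pr1_mem (hA.le ha))
    (by
      rintro q ⟨a, ha, rfl⟩
      rw [← d.pr1_hom (hA.le ha) (hA.le ha), hA.sq a ha, (d.pr_of_mem1 (one_mem _)).1])
    (by
      rintro p ⟨a, ha, rfl⟩ q ⟨b, hb, rfl⟩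
      exact ((d.commute_iff (hA.le ha) (hA.le hb)).mp (hc a ha b hb)).1)
  obtain ⟨t, ht, ht', h2⟩ := d.dih2.elementary_le_four (Q := {q | ∃ a ∈ A, d.pr2 a = q})
    (by rintro q ⟨a, ha, rfl⟩; exact d.pr2_mem (hA.le ha))
    (by
      rintro q ⟨a, ha, rfl⟩
      rw [← d.pr2_hom (hA.le ha) (hA.le ha), hA.sq a ha, (d.pr_of_mem1 (one_mem _)).2])
    (by
      rintro p ⟨a, ha, rfl⟩ q ⟨b, hb, rfl⟩
      exact ((d.commute_iff (hA.le ha) (hA.le hb)).mp (hc a ha b hb)).2)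
  refine ⟨s, hs, hs', t, ht, ht', H48.eq_of_le_of_card_le
    (fun a ha => ⟨hA.le ha, h1 _ ⟨a, ha, rfl⟩, h2 _ ⟨a, ha, rfl⟩⟩) ?_⟩
  rw [(d.E_elem hs hs' ht ht').card, hA.card]

theorem z1_mem_E : d.z1 ∈ d.E s t := d.mem_prod_left d.dih1.z_mem (left_mem_four _ _)

theorem z2_mem_E : d.z2 ∈ d.E s t := d.mem_prod_right d.dih2.z_mem (left_mem_four _ _)

theorem s_mem_E (hs : s ∈ d.D1) : s ∈ d.E s t := d.mem_prod_left hs (right_mem_four _ _)

theorem t_mem_E (ht : t ∈ d.D2) : t ∈ d.E s t := d.mem_prod_right ht (right_mem_four _ _)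

theorem conj_x1 {e : G} (he : e ∈ S) :
    (d.pr1 e ∈ zpowers d.ρ1 → d.x1 * e * d.x1⁻¹ = e) ∧
      (d.pr1 e ∉ zpowers d.ρ1 → d.x1 * e * d.x1⁻¹ = d.x1 * d.x1 * e) := by
  have hr : d.x1 ∈ zpowers d.ρ1 := Dih.rot_mem_zpowers
  have e1 : d.x1 * e * d.x1⁻¹ = ⁅d.x1, e⁆ * e := by simp [commutatorElement_def]
  constructor <;> intro h
  · rw [e1, (d.comm_rot hr he).1 h, one_mul]
  · rw [e1, (d.comm_rot hr he).2 h]

theorem x1_normalizes (hs : s ∈ d.D1) : d.x1 ∈ normalizer (d.E s t : Set G) := by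
  refine H48.mem_normalizer_of_cj_eq (H48.cj_eq_self_of_le (H48.cj_le.mpr fun e he => ?_))
  by_cases h : d.pr1 e ∈ zpowers d.ρ1
  · rw [(d.conj_x1 he.1).1 h]; exact he
  · rw [(d.conj_x1 he.1).2 h]
    refine mul_mem ?_ he
    rcases Nat.eq_zero_or_pos d.k1 with hk | hk
    · rw [x1, hk, Dih.rot_zero]
      refine d.mem_prod_left (mul_mem ?_ ?_) ?_
      · have := d.dih1.z_mem; rwa [hk] at this
      · have := d.dih1.z_mem; rwa [hk] at this
      · have := d.dih1.z_mul_self; rw [hk] at this; rw [this]; exact one_mem _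
    · rw [x1, d.dih1.rot_sq hk]; exact d.z1_mem_E

theorem x2_normalizes (ht : t ∈ d.D2) : d.x2 ∈ normalizer (d.E s t : Set G) := by
  have := d.symm.x1_normalizes (s := t) (t := s) ht
  rwa [d.E_symm] at this

theorem conj_x2 {e : G} (he : e ∈ S) :
    (d.pr2 e ∈ zpowers d.ρ2 → d.x2 * e * d.x2⁻¹ = e) ∧
      (d.pr2 e ∉ zpowers d.ρ2 → d.x2 * e * d.x2⁻¹ = d.x2 * d.x2 * e) := by
  obtain ⟨h1, h2⟩ := d.symm.conj_x1 he
  rw [d.pr1_symm he] at h1 h2
  exact ⟨h1, h2⟩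

/-- The action of the normalizer on `E`. -/
noncomputable def act (s t : G) : normalizer (d.E s t : Set G) →* MulAut (d.E s t) :=
  (d.E s t).normalizerMonoidHom

theorem act_apply (n : normalizer (d.E s t : Set G)) (a : d.E s t) :
    ((d.act s t n a : d.E s t) : G) = n * a * (n : G)⁻¹ := rfl

theorem act_eq_iff {m n : normalizer (d.E s t : Set G)} :
    d.act s t m = d.act s t n ↔
      ∀ a ∈ d.E s t, (m : G) * a * (m : G)⁻¹ = n * a * (n : G)⁻¹ := by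
  refine ⟨fun h a ha => ?_, fun h => MulEquiv.ext fun a => Subtype.ext (h a a.2)⟩
  exact congrArg Subtype.val (DFunLike.congr_fun h ⟨a, ha⟩)

end DD

end Cfsg.Agent.H52.DihSq
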