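import Mathlib.GroupTheory.SpecificGroups.Dihedral
import Mathlib.GroupTheory.PGroup
import Mathlib.GroupTheory.Index
import Cfsg.Prelude.Def_TwoFusion

/-!
Dihedral subgroups of 2-power order and internal products of two of them.
-/

set_option autoImplicit false

namespace Cfsg.Agent.H52.DihSq

open Subgroup

universe u

variable {G : Type u} [Group G] [Finite G]

/-- `D` is dihedral of order `2 ^ (k + 2)`, with rotations the powers of `ρ`. -/
structure Dih (D : Subgroup G) (ρ : G) (k : ℕ) : Prop where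
  mem : ρ ∈ D
  ord : orderOf ρ = 2 ^ (k + 1)
  idx : (zpowers ρ).relIndex D = 2
  invol : ∀ s ∈ D, s ∉ zpowers ρ → orderOf s = 2

/-- The central involution among the powers of `ρ`. -/
def zinv (ρ : G) (k : ℕ) : G := ρ ^ 2 ^ k

/-- The subgroup generated by two elements (used for four-groups). -/
def four (z s : G) : Subgroup G := closure {z, s}

theorem left_mem_four (z s : G) : z ∈ four z s := subset_closure (by simp)

theorem right_mem_four (z s : G) : s ∈ four z s := subset_closure (by simp)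

theorem four_le {z s : G} {H : Subgroup G} (hz : z ∈ H) (hs : s ∈ H) : four z s ≤ H :=
  (closure_le _).mpr (by simp [Set.insert_subset_iff, hz, hs])

theorem mem_four_iff {z s x : G} (hzz : z * z = 1) (hss : s * s = 1) (hc : z * s = s * z) :
    x ∈ four z s ↔ x = 1 ∨ x = z ∨ x = s ∨ x = z * s := by
  constructor
  · intro hx
    induction hx using closure_induction with
    | mem y hy => simp only [Set.mem_insert_iff, Set.mem_singleton_iff] at hy; tauto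
    | one => exact .inl rfl
    | mul a b _ _ ha hb =>
      have h1 : z * (z * s) = s := by rw [← mul_assoc, hzz, one_mul]
      have h2 : s * (z * s) = z := by rw [hc, ← mul_assoc, hss, one_mul]
      have h3 : z * s * z = s := by rw [mul_assoc, ← hc, h1]
      have h4 : z * s * s = z := by rw [mul_assoc, hss, mul_one]
      rcases ha with rfl | rfl | rfl | rfl <;> rcases hb with rfl | rfl | rfl | rfl <;>
        (try simp only [one_mul, mul_one, hzz, hss, h1, h2, h3, h4, ← hc]) <;>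
        first
        | tauto
        | (left; rw [mul_assoc, h2, hzz])
    | inv a _ ha =>
      rcases ha with rfl | rfl | rfl | rfl
      · simp
      · exact .inr (.inl (inv_eq_of_mul_eq_one_right hzz))
      · exact .inr (.inr (.inl (inv_eq_of_mul_eq_one_right hss)))
      · exact .inr (.inr (.inr (by
          rw [mul_inv_rev, inv_eq_of_mul_eq_one_right hzz, inv_eq_of_mul_eq_one_right hss, hc])))
  · rintro (rfl | rfl | rfl | rfl)
    exacts [one_mem _, left_mem_four _ _, right_mem_four _ _,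
      mul_mem (left_mem_four _ _) (right_mem_four _ _)]

namespace Dih

variable {D : Subgroup G} {ρ : G} {k : ℕ}

theorem zpowers_le (h : Dih D ρ k) : zpowers ρ ≤ D := Subgroup.zpowers_le.mpr h.mem

theorem card (h : Dih D ρ k) : Nat.card D = 2 ^ (k + 2) := by
  rw [← relIndex_bot_left D, ← relIndex_mul_relIndex ⊥ (zpowers ρ) D bot_le h.zpowers_le, h.idx,
    relIndex_bot_left, Nat.card_zpowers, h.ord, ← pow_succ]

theorem isPGroup (h : Dih D ρ k) : IsPGroup 2 D := IsPGroup.of_card h.card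

theorem z_mem_zpowers : zinv ρ k ∈ zpowers ρ := pow_mem (mem_zpowers ρ) _

theorem z_mem (h : Dih D ρ k) : zinv ρ k ∈ D := h.zpowers_le z_mem_zpowers

theorem z_ne_one (h : Dih D ρ k) : zinv ρ k ≠ 1 := fun e => by
  have h1 := Nat.le_of_dvd (by positivity) (orderOf_dvd_of_pow_eq_one (e : ρ ^ 2 ^ k = 1))
  rw [h.ord, pow_succ] at h1
  have : 0 < 2 ^ k := by positivity
  omega

theorem z_mul_self (h : Dih D ρ k) : zinv ρ k * zinv ρ k = 1 := by
  rw [zinv, ← pow_add, ← two_mul, ← pow_succ', ← h.ord, pow_orderOf_eq_one]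

theorem z_inv (h : Dih D ρ k) : (zinv ρ k)⁻¹ = zinv ρ k := inv_eq_of_mul_eq_one_right h.z_mul_self

theorem orderOf_z (h : Dih D ρ k) : orderOf (zinv ρ k) = 2 :=
  orderOf_eq_prime (by rw [pow_two]; exact h.z_mul_self) h.z_ne_one

theorem eq_one_or_z (h : Dih D ρ k) {r : G} (hr : r ∈ zpowers ρ) (hrr : r * r = 1) :
    r = 1 ∨ r = zinv ρ k := by
  obtain ⟨i, rfl⟩ := (mem_powers_iff_mem_zpowers.mpr hr : r ∈ Submonoid.powers ρ)
  have hd : 2 ^ (k + 1) ∣ i + i :=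
    h.ord ▸ orderOf_dvd_of_pow_eq_one (by rw [pow_add]; exact hrr)
  obtain ⟨c, rfl⟩ : 2 ^ k ∣ i := by
    obtain ⟨c, hc⟩ := hd
    exact ⟨c, by rw [pow_succ] at hc; linarith⟩
  rcases Nat.even_or_odd c with ⟨e, rfl⟩ | ⟨e, rfl⟩
  · left
    show ρ ^ (2 ^ k * (e + e)) = 1
    rw [show 2 ^ k * (e + e) = orderOf ρ * e by rw [h.ord, pow_succ]; ring, pow_mul,
      pow_orderOf_eq_one, one_pow]
  · right
    show ρ ^ (2 ^ k * (2 * e + 1)) = ρ ^ 2 ^ k
    rw [show 2 ^ k * (2 * e + 1) = orderOf ρ * e + 2 ^ k by rw [h.ord, pow_succ]; ring, pow_add,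
      pow_mul, pow_orderOf_eq_one, one_pow, one_mul]

theorem refl_mul_self (h : Dih D ρ k) {s : G} (hs : s ∈ D) (hs' : s ∉ zpowers ρ) : s * s = 1 := by
  rw [← pow_two, ← h.invol s hs hs', pow_orderOf_eq_one]

theorem refl_inv (h : Dih D ρ k) {s : G} (hs : s ∈ D) (hs' : s ∉ zpowers ρ) : s⁻¹ = s :=
  inv_eq_of_mul_eq_one_right (h.refl_mul_self hs hs')

theorem mul_mem_zpowers_iff (h : Dih D ρ k) {a b : G} (ha : a ∈ D) (hb : b ∈ D) :
    a * b ∈ zpowers ρ ↔ (a ∈ zpowers ρ ↔ b ∈ zpowers ρ) := by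
  have := Subgroup.mul_mem_iff_of_index_two (H := (zpowers ρ).subgroupOf D) h.idx
    (a := ⟨a, ha⟩) (b := ⟨b, hb⟩)
  simpa only [mem_subgroupOf, Subgroup.coe_mul] using this

theorem conj_refl (h : Dih D ρ k) {s r : G} (hs : s ∈ D) (hs' : s ∉ zpowers ρ)
    (hr : r ∈ zpowers ρ) : s * r * s⁻¹ = r⁻¹ := by
  have h1 : s * r ∉ zpowers ρ := fun hc => hs' (by simpa using mul_mem hc (inv_mem hr))
  have h2 := h.refl_mul_self (mul_mem hs (h.zpowers_le hr)) h1
  rw [h.refl_inv hs hs']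
  exact eq_inv_of_mul_eq_one_left (by simpa [mul_assoc] using h2)

theorem z_comm (h : Dih D ρ k) {d : G} (hd : d ∈ D) : zinv ρ k * d = d * zinv ρ k := by
  by_cases hd' : d ∈ zpowers ρ
  · exact setLike_comm_of_zpowers hd' z_mem_zpowers
  · have := h.conj_refl hd hd' (r := zinv ρ k) z_mem_zpowers
    rw [h.z_inv] at this
    exact (mul_inv_eq_iff_eq_mul.mp this).symm
where
  setLike_comm_of_zpowers {ρ a b : G} (ha : a ∈ zpowers ρ) (hb : b ∈ zpowers ρ) : b * a = a * b := by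
    obtain ⟨i, rfl⟩ := mem_zpowers_iff.mp ha
    obtain ⟨j, rfl⟩ := mem_zpowers_iff.mp hb
    rw [← zpow_add, ← zpow_add, add_comm]

theorem comm_zpowers {a b : G} (ha : a ∈ zpowers ρ) (hb : b ∈ zpowers ρ) : a * b = b * a :=
  z_comm.setLike_comm_of_zpowers hb ha

theorem comm_refl (h : Dih D ρ k) {s d : G} (hs : s ∈ D) (hs' : s ∉ zpowers ρ) (hd : d ∈ D)
    (hc : d * s = s * d) : d = 1 ∨ d = zinv ρ k ∨ d = s ∨ d = zinv ρ k * s := by
  have key : ∀ r ∈ zpowers ρ, r * s = s * r → r = 1 ∨ r = zinv ρ k := fun r hr hrs => by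
    have h1 := h.conj_refl hs hs' hr
    rw [← hrs, mul_assoc, mul_inv_cancel, mul_one] at h1
    exact h.eq_one_or_z hr (by rw [← eq_inv_iff_mul_eq_one]; exact h1)
  by_cases hd' : d ∈ zpowers ρ
  · rcases key d hd' hc with h1 | h1 <;> tauto
  · have h2 := h.refl_mul_self hs hs'
    have hm : s * d ∈ zpowers ρ := (h.mul_mem_zpowers_iff hs hd).mpr (iff_of_false hs' hd')
    rcases key _ hm (by rw [mul_assoc, hc]) with h1 | h1
    · exact .inr (.inr (.inl (by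
        rw [eq_inv_of_mul_eq_one_right h1, h.refl_inv hs hs'])))
    · refine .inr (.inr (.inr ?_))
      rw [← h1, mul_assoc, hc, ← mul_assoc, h2, one_mul]

theorem mem_zpowers_of_comm (h : Dih D ρ k) (hk : 1 ≤ k) {d : G} (hd : d ∈ D)
    (hc : d * ρ = ρ * d) : d ∈ zpowers ρ := by
  by_contra hd'
  have h1 := h.conj_refl hd hd' (mem_zpowers ρ)
  rw [hc, mul_assoc, mul_inv_cancel, mul_one] at h1
  have h2 := orderOf_dvd_of_pow_eq_one (show ρ ^ 2 = 1 by
    rw [pow_two, ← eq_inv_iff_mul_eq_one]; exact h1)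
  rw [h.ord] at h2
  have := Nat.le_of_dvd two_pos h2
  have : 2 ^ 2 ≤ 2 ^ (k + 1) := Nat.pow_le_pow_right two_pos (by omega)
  omega

theorem exists_refl (h : Dih D ρ k) : ∃ s ∈ D, s ∉ zpowers ρ := by
  by_contra hc
  push Not at hc
  have h1 := Subgroup.relIndex_eq_one.mpr hc
  rw [h.idx] at h1
  omega

theorem center (h : Dih D ρ k) (hk : 1 ≤ k) {d : G} (hd : d ∈ D) (hc : ∀ e ∈ D, d * e = e * d) :
    d = 1 ∨ d = zinv ρ k := by
  obtain ⟨s, hs, hs'⟩ := h.exists_refl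
  have hr := h.mem_zpowers_of_comm hk hd (hc ρ h.mem)
  rcases h.comm_refl hs hs' hd (hc s hs) with h1 | h1 | rfl | rfl
  · exact .inl h1
  · exact .inr h1
  · exact absurd hr hs'
  · exact absurd (by simpa using mul_mem (inv_mem (z_mem_zpowers (ρ := ρ) (k := k))) hr) hs'

theorem mem_four_of_comm (h : Dih D ρ k) {s d : G} (hs : s ∈ D) (hs' : s ∉ zpowers ρ) (hd : d ∈ D)
    (hc : d * s = s * d) : d ∈ four (zinv ρ k) s :=
  (mem_four_iff h.z_mul_self (h.refl_mul_self hs hs') (h.z_comm hs)).mpr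
    (h.comm_refl hs hs' hd hc)

theorem zero_cases (h : Dih D ρ 0) {d : G} (hd : d ∈ D) (hd' : d ∈ zpowers ρ) :
    d = 1 ∨ d = zinv ρ 0 := by
  obtain ⟨i, rfl⟩ := (mem_powers_iff_mem_zpowers.mpr hd' : d ∈ Submonoid.powers ρ)
  refine h.eq_one_or_z hd' ?_
  show ρ ^ i * ρ ^ i = 1
  rw [← pow_add, ← two_mul, pow_mul, show (2 : ℕ) = orderOf ρ by simp [h.ord], pow_orderOf_eq_one,
    one_pow]

theorem four_eq (h : Dih D ρ 0) {s : G} (hs : s ∈ D) (hs' : s ∉ zpowers ρ) :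
    four (zinv ρ 0) s = D := by
  refine le_antisymm (four_le h.z_mem hs) fun d hd => ?_
  by_cases hd' : d ∈ zpowers ρ
  · rcases h.zero_cases hd hd' with rfl | rfl
    exacts [one_mem _, left_mem_four _ _]
  · have hm : s * d ∈ zpowers ρ := (h.mul_mem_zpowers_iff hs hd).mpr (iff_of_false hs' hd')
    have h1 : s * d ∈ four (zinv ρ 0) s := by
      rcases h.zero_cases (mul_mem hs hd) hm with h1 | h1 <;> rw [h1]
      exacts [one_mem _, left_mem_four _ _]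
    simpa using mul_mem (inv_mem (right_mem_four (zinv ρ 0) s)) h1

theorem comm_of_zero (h : Dih D ρ 0) {a b : G} (ha : a ∈ D) (hb : b ∈ D) : a * b = b * a := by
  by_cases ha' : a ∈ zpowers ρ
  · rcases h.zero_cases ha ha' with rfl | rfl
    exacts [by simp, h.z_comm hb]
  · rw [← h.four_eq ha ha', mem_four_iff h.z_mul_self (h.refl_mul_self ha ha') (h.z_comm ha)] at hb
    rcases hb with rfl | rfl | rfl | rfl
    · simp
    · exact (h.z_comm ha).symm
    · rfl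
    · rw [← mul_assoc, ← h.z_comm ha, mul_assoc]

theorem of_dihedralGroup {m : ℕ} (hm : 2 ≤ m) (e : D ≃* DihedralGroup m) (hD : IsPGroup 2 D) :
    ∃ (ρ : G) (k : ℕ), Dih D ρ k := by
  haveI : Fact (Nat.Prime 2) := ⟨Nat.prime_two⟩
  haveI : NeZero m := ⟨by omega⟩
  obtain ⟨j, hj⟩ := IsPGroup.iff_card.mp hD
  have hcard : Nat.card D = 2 * m := (Nat.card_congr e.toEquiv).trans DihedralGroup.nat_card
  obtain ⟨k, rfl⟩ : ∃ k, m = 2 ^ (k + 1) := by
    obtain ⟨i, -, hi⟩ := (Nat.dvd_prime_pow Nat.prime_two).mp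
      (show m ∣ 2 ^ j from ⟨2, by rw [← hj, hcard, mul_comm]⟩)
    match i, hi with
    | 0, hi => simp at hi; omega
    | k + 1, hi => exact ⟨k, hi⟩
  set ρ : D := e.symm (DihedralGroup.r 1) with hρ
  have hord : orderOf (ρ : G) = 2 ^ (k + 1) := by
    rw [orderOf_coe, hρ, MulEquiv.orderOf_eq, DihedralGroup.orderOf_r_one]
  refine ⟨ρ, k, ρ.2, hord, ?_, fun s hs hs' => ?_⟩
  · have h1 := relIndex_mul_relIndex ⊥ (zpowers (ρ : G)) D bot_le (Subgroup.zpowers_le.mpr ρ.2)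
    rw [relIndex_bot_left, relIndex_bot_left, Nat.card_zpowers, hord, hcard, mul_comm 2] at h1
    exact Nat.eq_of_mul_eq_mul_left (by positivity) h1
  · rw [show s = ((⟨s, hs⟩ : D) : G) from rfl, orderOf_coe, ← MulEquiv.orderOf_eq e]
    cases he : e ⟨s, hs⟩ with
    | r i =>
      exfalso
      apply hs'
      have h2 : (⟨s, hs⟩ : D) = ρ ^ i.val := by
        apply e.injective
        rw [map_pow, hρ, MulEquiv.apply_symm_apply, he, DihedralGroup.r_one_pow,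
          ZMod.natCast_zmod_val]
      rw [show s = ((⟨s, hs⟩ : D) : G) from rfl, h2, SubmonoidClass.coe_pow]
      exact pow_mem (mem_zpowers _) _
    | sr i => exact DihedralGroup.orderOf_sr i

end Dih

/-- An internal direct product of two dihedral groups of 2-power order. -/
structure DD (S : Subgroup G) where
  D1 : Subgroup G
  D2 : Subgroup G
  ρ1 : G
  ρ2 : G
  k1 : ℕ
  k2 : ℕ
  dih1 : Dih D1 ρ1 k1
  dih2 : Dih D2 ρ2 k2
  idp : Cfsg.IsInternalDirectProduct D1 D2 S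

namespace DD

variable {S : Subgroup G} (d : DD S)

/-- The same product with the factors exchanged. -/
def symm : DD S where
  D1 := d.D2
  D2 := d.D1
  ρ1 := d.ρ2
  ρ2 := d.ρ1
  k1 := d.k2
  k2 := d.k1
  dih1 := d.dih2
  dih2 := d.dih1
  idp := ⟨d.idp.2.1, d.idp.1, fun a ha b hb => (d.idp.2.2.1 b hb a ha).symm,
    by rw [inf_comm]; exact d.idp.2.2.2.1, by rw [sup_comm]; exact d.idp.2.2.2.2⟩

abbrev z1 : G := zinv d.ρ1 d.k1

abbrev z2 : G := zinv d.ρ2 d.k2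

theorem le1 : d.D1 ≤ S := d.idp.1

theorem le2 : d.D2 ≤ S := d.idp.2.1

theorem comm {a b : G} (ha : a ∈ d.D1) (hb : b ∈ d.D2) : a * b = b * a := d.idp.2.2.1 a ha b hb

theorem exists_eq {x : G} (hx : x ∈ S) : ∃ a ∈ d.D1, ∃ b ∈ d.D2, x = a * b := by
  rw [← d.idp.2.2.2.2, ← closure_eq d.D1, ← closure_eq d.D2, ← Subgroup.closure_union] at hx
  induction hx using closure_induction with
  | mem y hy =>
    rcases hy with hy | hy
    exacts [⟨y, hy, 1, one_mem _, (mul_one y).symm⟩, ⟨1, one_mem _, y, hy, (one_mul y).symm⟩]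
  | one => exact ⟨1, one_mem _, 1, one_mem _, (one_mul 1).symm⟩
  | mul x y _ _ hx hy =>
    obtain ⟨a, ha, b, hb, rfl⟩ := hx
    obtain ⟨a', ha', b', hb', rfl⟩ := hy
    refine ⟨a * a', mul_mem ha ha', b * b', mul_mem hb hb', ?_⟩
    calc a * b * (a' * b') = a * (b * a') * b' := by group
      _ = a * (a' * b) * b' := by rw [d.comm ha' hb]
      _ = _ := by group
  | inv x _ hx =>
    obtain ⟨a, ha, b, hb, rfl⟩ := hx
    exact ⟨a⁻¹, inv_mem ha, b⁻¹, inv_mem hb, by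
      rw [mul_inv_rev, d.comm (inv_mem ha) (inv_mem hb)]⟩

open Classical in
/-- The projection to the first factor. -/
noncomputable def pr1 (x : G) : G :=
  if h : ∃ a ∈ d.D1, ∃ b ∈ d.D2, x = a * b then h.choose else 1

/-- The projection to the second factor. -/
noncomputable def pr2 (x : G) : G := (d.pr1 x)⁻¹ * x

theorem pr1_mul_pr2 (x : G) : d.pr1 x * d.pr2 x = x := mul_inv_cancel_left _ _

theorem eq_of_mul_eq {a a' b b' : G} (ha : a ∈ d.D1) (ha' : a' ∈ d.D1) (hb : b ∈ d.D2)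
    (hb' : b' ∈ d.D2) (h : a * b = a' * b') : a = a' ∧ b = b' := by
  have e : a'⁻¹ * a = b' * b⁻¹ := by
    calc a'⁻¹ * a = a'⁻¹ * (a * b) * b⁻¹ := by group
      _ = _ := by rw [h]; group
  have h1 : a'⁻¹ * a ∈ d.D1 ⊓ d.D2 :=
    Subgroup.mem_inf.mpr ⟨mul_mem (inv_mem ha') ha, e ▸ mul_mem hb' (inv_mem hb)⟩
  rw [d.idp.2.2.2.1, mem_bot, inv_mul_eq_one] at h1
  subst h1
  exact ⟨rfl, mul_left_cancel h⟩

theorem pr_spec {x : G} (hx : x ∈ S) : d.pr1 x ∈ d.D1 ∧ d.pr2 x ∈ d.D2 := by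
  have h := d.exists_eq hx
  have e : d.pr1 x = h.choose := by rw [pr1, dif_pos h]
  obtain ⟨b, hb, hxb⟩ := h.choose_spec.2
  refine ⟨e ▸ h.choose_spec.1, ?_⟩
  rw [pr2, e]
  conv => arg 2; arg 2; rw [hxb]
  simpa using hb

theorem pr1_mem {x : G} (hx : x ∈ S) : d.pr1 x ∈ d.D1 := (d.pr_spec hx).1

theorem pr2_mem {x : G} (hx : x ∈ S) : d.pr2 x ∈ d.D2 := (d.pr_spec hx).2

theorem pr_eq {a b : G} (ha : a ∈ d.D1) (hb : b ∈ d.D2) :
    d.pr1 (a * b) = a ∧ d.pr2 (a * b) = b := by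
  have hx : a * b ∈ S := mul_mem (d.le1 ha) (d.le2 hb)
  exact d.eq_of_mul_eq (d.pr1_mem hx) ha (d.pr2_mem hx) hb (d.pr1_mul_pr2 _)

theorem pr_of_mem1 {a : G} (ha : a ∈ d.D1) : d.pr1 a = a ∧ d.pr2 a = 1 := by
  simpa using d.pr_eq ha (one_mem d.D2)

theorem pr_of_mem2 {b : G} (hb : b ∈ d.D2) : d.pr1 b = 1 ∧ d.pr2 b = b := by
  simpa using d.pr_eq (one_mem d.D1) hb

theorem pr_mul {x y : G} (hx : x ∈ S) (hy : y ∈ S) :
    d.pr1 (x * y) = d.pr1 x * d.pr1 y ∧ d.pr2 (x * y) = d.pr2 x * d.pr2 y := by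
  have h := d.pr_eq (mul_mem (d.pr1_mem hx) (d.pr1_mem hy)) (mul_mem (d.pr2_mem hx) (d.pr2_mem hy))
  rwa [show d.pr1 x * d.pr1 y * (d.pr2 x * d.pr2 y) = x * y by
    calc d.pr1 x * d.pr1 y * (d.pr2 x * d.pr2 y) = d.pr1 x * (d.pr1 y * d.pr2 x) * d.pr2 y := by group
      _ = d.pr1 x * (d.pr2 x * d.pr1 y) * d.pr2 y := by rw [d.comm (d.pr1_mem hy) (d.pr2_mem hx)]
      _ = (d.pr1 x * d.pr2 x) * (d.pr1 y * d.pr2 y) := by group
      _ = x * y := by rw [d.pr1_mul_pr2, d.pr1_mul_pr2]] at h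

theorem pr1_hom {x y : G} (hx : x ∈ S) (hy : y ∈ S) : d.pr1 (x * y) = d.pr1 x * d.pr1 y :=
  (d.pr_mul hx hy).1

theorem pr2_hom {x y : G} (hx : x ∈ S) (hy : y ∈ S) : d.pr2 (x * y) = d.pr2 x * d.pr2 y :=
  (d.pr_mul hx hy).2

theorem pr_inv {x : G} (hx : x ∈ S) : d.pr1 x⁻¹ = (d.pr1 x)⁻¹ ∧ d.pr2 x⁻¹ = (d.pr2 x)⁻¹ := by
  obtain ⟨h1, h2⟩ := d.pr_mul (inv_mem hx) hx
  rw [inv_mul_cancel] at h1 h2
  rw [(d.pr_of_mem1 (one_mem _)).1] at h1
  rw [(d.pr_of_mem1 (one_mem _)).2] at h2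
  exact ⟨eq_inv_of_mul_eq_one_left h1.symm, eq_inv_of_mul_eq_one_left h2.symm⟩

theorem ext {x y : G} (h1 : d.pr1 x = d.pr1 y) (h2 : d.pr2 x = d.pr2 y) : x = y := by
  rw [← d.pr1_mul_pr2 x, ← d.pr1_mul_pr2 y, h1, h2]

theorem commute_iff {x y : G} (hx : x ∈ S) (hy : y ∈ S) :
    x * y = y * x ↔ d.pr1 x * d.pr1 y = d.pr1 y * d.pr1 x ∧ d.pr2 x * d.pr2 y = d.pr2 y * d.pr2 x := by
  constructor
  · intro h
    rw [← d.pr1_hom hx hy, ← d.pr1_hom hy hx, ← d.pr2_hom hx hy, ← d.pr2_hom hy hx, h]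
    exact ⟨rfl, rfl⟩
  · rintro ⟨h1, h2⟩
    exact d.ext (by rw [d.pr1_hom hx hy, d.pr1_hom hy hx, h1])
      (by rw [d.pr2_hom hx hy, d.pr2_hom hy hx, h2])

theorem pr1_symm {x : G} (hx : x ∈ S) : d.symm.pr1 x = d.pr2 x := by
  have h := d.symm.pr_eq (show d.pr2 x ∈ d.symm.D1 from d.pr2_mem hx)
    (show d.pr1 x ∈ d.symm.D2 from d.pr1_mem hx)
  rw [← d.comm (d.pr1_mem hx) (d.pr2_mem hx), d.pr1_mul_pr2] at h
  exact h.1

theorem pr2_symm {x : G} (hx : x ∈ S) : d.symm.pr2 x = d.pr1 x := by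
  have h := d.symm.pr_eq (show d.pr2 x ∈ d.symm.D1 from d.pr2_mem hx)
    (show d.pr1 x ∈ d.symm.D2 from d.pr1_mem hx)
  rw [← d.comm (d.pr1_mem hx) (d.pr2_mem hx), d.pr1_mul_pr2] at h
  exact h.2

theorem z1_comm {x : G} (hx : x ∈ S) : d.z1 * x = x * d.z1 := by
  rw [d.commute_iff (d.le1 d.dih1.z_mem) hx, (d.pr_of_mem1 d.dih1.z_mem).1,
    (d.pr_of_mem1 d.dih1.z_mem).2]
  exact ⟨d.dih1.z_comm (d.pr1_mem hx), by simp⟩

theorem z2_comm {x : G} (hx : x ∈ S) : d.z2 * x = x * d.z2 := d.symm.z1_comm hx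

theorem z1_ne_z2 : d.z1 ≠ d.z2 := fun e => d.dih1.z_ne_one (by
  have h1 : d.z1 ∈ d.D1 ⊓ d.D2 := ⟨d.dih1.z_mem, e ▸ d.dih2.z_mem⟩
  rwa [d.idp.2.2.2.1, mem_bot] at h1)

end DD

end Cfsg.Agent.H52.DihSq
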