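import Cfsg.Agent.H52.DihSq.Straight

/-!
The case of a four-group factor: an invariant complement of `⟨z₁⟩` in the centre.
-/

set_option autoImplicit false

namespace Cfsg.Agent.H52.DihSq

open Subgroup
open Cfsg.Agent
open scoped commutatorElement

universe u

variable {G : Type u} [Group G] [Finite G] {S : Sylow 2 G} (d : DD (S : Subgroup G))

/-- The centre of `S` when the second factor is a four-group. -/
def U : Subgroup G := d.prod (zpowers d.z1) d.D2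

theorem z1_zpowers {x : G} (hx : x ∈ zpowers d.z1) : x = 1 ∨ x = d.z1 := by
  obtain ⟨i, rfl⟩ := mem_zpowers_iff.mp hx
  rcases Int.even_or_odd i with ⟨m, rfl⟩ | ⟨m, rfl⟩
  · left; rw [← two_mul, zpow_mul, zpow_two, d.dih1.z_mul_self, one_zpow]
  · right; rw [zpow_add, zpow_mul, zpow_two, d.dih1.z_mul_self, one_zpow, one_mul, zpow_one]

theorem U_central (hk2 : d.k2 = 0) {u v : G} (hu : u ∈ U d) (hv : v ∈ (S : Subgroup G)) :
    u * v = v * u := by
  refine (d.commute_iff hu.1 hv).mpr ⟨?_, ?_⟩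
  · rcases z1_zpowers d hu.2.1 with e | e <;> rw [e]
    · simp
    · exact d.dih1.z_comm (d.pr1_mem hv)
  · have hd := d.dih2
    rw [hk2] at hd
    exact hd.comm_of_zero (d.pr2_mem hu.1) (d.pr2_mem hv)

theorem mem_U_of_central (hk1 : 1 ≤ d.k1) {u : G} (hu : u ∈ (S : Subgroup G))
    (hc : ∀ v ∈ (S : Subgroup G), u * v = v * u) : u ∈ U d := by
  refine ⟨hu, ?_, d.pr2_mem hu⟩
  rcases d.dih1.center hk1 (d.pr1_mem hu) (fun e he => by
    have := ((d.commute_iff hu (d.le1 he)).mp (hc e (d.le1 he))).1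
    rwa [(d.pr_of_mem1 he).1] at this) with e | e <;> rw [e]
  exacts [one_mem _, mem_zpowers _]

theorem U_normalizer (hk1 : 1 ≤ d.k1) (hk2 : d.k2 = 0) {g u : G}
    (hg : g ∈ normalizer ((S : Subgroup G) : Set G)) (hu : u ∈ U d) : g * u * g⁻¹ ∈ U d := by
  refine mem_U_of_central d hk1 (Coprime.conj_mem hg hu.1) fun v hv => ?_
  have := U_central d hk2 hu (Coprime.conj_mem' hg hv)
  calc g * u * g⁻¹ * v = g * (u * (g⁻¹ * v * g)) * g⁻¹ := by group
    _ = g * ((g⁻¹ * v * g) * u) * g⁻¹ := by rw [this]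
    _ = _ := by group

theorem U_sq (hk2 : d.k2 = 0) {u : G} (hu : u ∈ U d) : u * u = 1 := by
  have hd := d.dih2
  rw [hk2] at hd
  refine d.ext ?_ ?_
  · rw [d.pr1_hom hu.1 hu.1, (d.pr_of_mem1 (one_mem _)).1]
    rcases z1_zpowers d hu.2.1 with e | e <;> rw [e]
    exacts [one_mul 1, d.dih1.z_mul_self]
  · rw [d.pr2_hom hu.1 hu.1, (d.pr_of_mem1 (one_mem _)).2]
    obtain ⟨t, ht, ht'⟩ := hd.exists_refl
    refine hd.pow_two_eq_one_four ht ht' ?_
    rw [hd.four_eq ht ht']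
    exact d.pr2_mem hu.1

/-- The elements whose orbit stays in the centre. -/
def core (A : Subgroup G) : Subgroup G where
  carrier := {u | u ∈ A ∧ ∀ n ∈ normalizer (A : Set G), n * u * n⁻¹ ∈ U d}
  one_mem' := ⟨one_mem A, fun n _ => by simp [(U d).one_mem]⟩
  mul_mem' := fun {a b} ha hb => ⟨mul_mem ha.1 hb.1, fun n hn => by
    rw [show n * (a * b) * n⁻¹ = n * a * n⁻¹ * (n * b * n⁻¹) by group]
    exact mul_mem (ha.2 n hn) (hb.2 n hn)⟩
  inv_mem' := fun {a} ha => ⟨inv_mem ha.1, fun n hn => by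
    rw [show n * a⁻¹ * n⁻¹ = (n * a * n⁻¹)⁻¹ by group]
    exact inv_mem (ha.2 n hn)⟩

theorem core_le_U {A : Subgroup G} {u : G} (hu : u ∈ core d A) : u ∈ U d := by
  simpa using hu.2 1 (one_mem _)

theorem core_normalizer {A : Subgroup G} {n u : G} (hn : n ∈ normalizer (A : Set G))
    (hu : u ∈ core d A) : n * u * n⁻¹ ∈ core d A :=
  ⟨Coprime.conj_mem hn hu.1, fun m hm => by
    rw [show m * (n * u * n⁻¹) * m⁻¹ = m * n * u * (m * n)⁻¹ by group]
    exact hu.2 _ (mul_mem hm hn)⟩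

theorem core_map (hk1 : 1 ≤ d.k1) (hk2 : d.k2 = 0) {A B : Subgroup G} {g : G}
    (hg : g ∈ normalizer ((S : Subgroup G) : Set G)) (h : ∀ a, a ∈ A ↔ g * a * g⁻¹ ∈ B)
    {u : G} (hu : u ∈ core d A) : g * u * g⁻¹ ∈ core d B := by
  refine ⟨(h u).mp hu.1, fun m hm => ?_⟩
  have h1 := hu.2 _ (conj_mem_normalizer (conj_iff_symm h) hm)
  have h2 := U_normalizer d hk1 hk2 hg h1
  rwa [show g * (g⁻¹ * m * g⁻¹⁻¹ * u * (g⁻¹ * m * g⁻¹⁻¹)⁻¹) * g⁻¹ = m * (g * u * g⁻¹) * m⁻¹ by group]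
    at h2

variable {d} {s t : G}

theorem U_le_E (h : Frame d s t) (hk2 : d.k2 = 0) {u : G} (hu : u ∈ U d) : u ∈ d.E s t := by
  have hd := d.dih2
  rw [hk2] at hd
  refine ⟨hu.1, (Subgroup.zpowers_le.mpr (left_mem_four d.z1 s)) hu.2.1, ?_⟩
  rw [DD.z2, hk2, hd.four_eq h.t_mem h.t_refl]
  exact d.pr2_mem hu.1

theorem mem_U_iff_fix (h : Frame d s t) {u : G} (hu : u ∈ d.E s t) :
    u ∈ U d ↔ d.x1 * u * d.x1⁻¹ = u := by
  obtain ⟨c1, c2⟩ := d.conj_x1 hu.1
  constructor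
  · intro hU
    refine c1 ?_
    rcases z1_zpowers d hU.2.1 with e | e <;> rw [e]
    exacts [one_mem _, Dih.z_mem_zpowers]
  · intro hf
    have hR : d.pr1 u ∈ zpowers d.ρ1 := by_contra fun hne => by
      rw [c2 hne, mul_eq_right, DD.x1, d.dih1.rot_sq h.k1] at hf
      exact d.dih1.z_ne_one hf
    refine ⟨hu.1, ?_, d.pr2_mem hu.1⟩
    rcases d.dih1.eq_one_or_z hR (d.dih1.pow_two_eq_one_four h.s_mem h.s_refl hu.2.1) with e | e <;>
      rw [e]
    exacts [one_mem _, mem_zpowers _]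

theorem z1_not_core (h : Frame d s t) (ha : Active (d.E s t) d.z1) : d.z1 ∉ core d (d.E s t) := by
  intro hz
  obtain ⟨n, hn, hne⟩ := ha
  refine (h.orbit hn hne).1 ?_
  rcases z1_zpowers d (hz.2 n hn).2.1 with e | e <;> rw [e]
  exacts [one_mem _, Dih.z_mem_zpowers]

theorem core_or (h : Frame d s t) (ha : Active (d.E s t) d.z1) {u : G} (hu : u ∈ U d)
    (hk2 : d.k2 = 0) : u ∈ core d (d.E s t) ∨ u * d.z1 ∈ core d (d.E s t) := by
  obtain ⟨w, hwE, hw1, -, -, n, hn, hnw⟩ := h.W_cases.resolve_left (fun hc => hc ha)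
  have hXC : h.X ∈ h.C := ⟨1, by rw [map_one, one_mul, inv_one, mul_one]⟩
  set g := d.act s t ⟨n, hn⟩ * h.X * (d.act s t ⟨n, hn⟩)⁻¹ with hg
  have hgC : g ∈ h.C := ⟨⟨n, hn⟩, hg⟩
  have hgp : IsTv g (d.act s t ⟨n, hn⟩ h.p1) := h.X_tv.conj _
  have hne : h.X ≠ g := fun e => hw1 (by
    have h1 := congrArg Subtype.val (h.X_tv.unique (e ▸ hgp : IsTv h.X _))
    have h2 : d.z1 = w := h1.trans hnw
    rw [← h2, (d.pr_of_mem1 d.dih1.z_mem).1]
    exact Dih.z_mem_zpowers)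
  have key : ∀ v : d.E s t, h.X v = v → g v = v → (v : G) ∈ core d (d.E s t) := by
    intro v hX hgv
    refine ⟨v.2, fun m hm => ?_⟩
    rw [mem_U_iff_fix h (Coprime.conj_mem hm v.2)]
    set mm := (d.act s t ⟨m, hm⟩)⁻¹ with hmm
    have hfC : mm * h.X * mm⁻¹ ∈ h.C := ⟨⟨m, hm⟩⁻¹, by rw [map_inv, ← hmm]⟩
    have hfp : IsTv (mm * h.X * mm⁻¹) (mm h.p1) := h.X_tv.conj _
    have hfv : (mm * h.X * mm⁻¹) v = v := by
      rcases h.tvClass.point_cases hXC hgC hfC h.X_tv hgp hfp hne with e | e | e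
      · rw [h.tvClass.eq_of_point hfC hXC (e ▸ hfp) h.X_tv, hX]
      · rw [h.tvClass.eq_of_point hfC hgC (e ▸ hfp) hgp, hgv]
      · have hu2 : IsTv (h.X * g * h.X⁻¹) (h.p1 * d.act s t ⟨n, hn⟩ h.p1) := by
          have := hgp.conj h.X
          rwa [h.tvClass.move hXC hgC h.X_tv hgp hne, h.tvClass.abelian] at this
        rw [h.tvClass.eq_of_point hfC (h.tvClass.conj _ hXC _ hgC) (e ▸ hfp) hu2]
        have hXi : h.X⁻¹ v = v := by
          conv_lhs => rw [← hX]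
          exact MulAut.inv_apply_self _ _ _
        simp only [MulAut.mul_apply, hXi, hgv, hX]
    have h2 : h.X (d.act s t ⟨m, hm⟩ v) = d.act s t ⟨m, hm⟩ v := by
      conv_rhs => rw [← hfv]
      simp [hmm]
    exact congrArg Subtype.val h2
  have hXu : h.X ⟨u, U_le_E h hk2 hu⟩ = ⟨u, U_le_E h hk2 hu⟩ :=
    Subtype.ext ((mem_U_iff_fix h (U_le_E h hk2 hu)).mp hu)
  have hXz : h.X h.p1 = h.p1 := h.X_tv.fix
  rcases hgp.disp ⟨u, U_le_E h hk2 hu⟩ with e | e
  · exact .inl (key _ hXu e)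
  · refine .inr (key (⟨u, U_le_E h hk2 hu⟩ * h.p1) ?_ ?_)
    · rw [map_mul, hXu, hXz]
    · have hgz : g h.p1 = h.p1 * d.act s t ⟨n, hn⟩ h.p1 :=
        h.tvClass.move hgC hXC hgp h.X_tv hne.symm
      rw [map_mul, e, hgz]
      set q := d.act s t ⟨n, hn⟩ h.p1
      set v : d.E s t := ⟨u, U_le_E h hk2 hu⟩
      calc v * q * (h.p1 * q) = v * (q * h.p1) * q := by group
        _ = v * h.p1 * (q * q) := by rw [h.tvClass.abelian q h.p1]; group
        _ = _ := by rw [h.tvClass.sq q, mul_one]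

/-- Without a normal subgroup of index 2 an element of odd order of `N(S)` moves the centre. -/
theorem exists_moving (h2 : ∀ N : Subgroup G, N.Normal → N.index ≠ 2) (hk1 : 1 ≤ d.k1)
    (hk2 : d.k2 = 0) (hst : Straight d) :
    ∃ β ∈ normalizer ((S : Subgroup G) : Set G),
      Odd (orderOf β) ∧ ∃ u ∈ U d, β * u * β⁻¹ ≠ u := by
  classical
  haveI : Fact (Nat.Prime 2) := ⟨Nat.prime_two⟩
  obtain ⟨t, ht, ht'⟩ := d.dih2.exists_refl
  have mk : ∀ {s t : G}, s ∈ d.D1 → s ∉ zpowers d.ρ1 → t ∈ d.D2 → t ∉ zpowers d.ρ2 → Frame d s t :=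
    fun {s t} h1 h2 h3 h4 => ⟨hk1, h1, h2, h3, h4⟩
  have hd := d.dih2
  rw [hk2] at hd
  by_contra hcon
  push Not at hcon
  have hall : ∀ g ∈ normalizer ((S : Subgroup G) : Set G), ∀ u ∈ U d, g * u * g⁻¹ = u := by
    intro g hg u hu
    obtain ⟨a, o, ho, hord⟩ := Nat.exists_eq_two_pow_mul_odd (orderOf_pos g).ne'
    have h2g : IsPGroup 2 (zpowers (g ^ o)) := by
      obtain ⟨j, -, hj⟩ := (Nat.dvd_prime_pow Nat.prime_two).mp
        (show orderOf (g ^ o) ∣ 2 ^ a from orderOf_dvd_of_pow_eq_one (by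
          rw [← pow_mul, mul_comm, ← hord, pow_orderOf_eq_one]))
      exact IsPGroup.of_card (n := j) (by rw [Nat.card_zpowers, hj])
    have hin : g ^ o ∈ (S : Subgroup G) := by
      rw [← S.is_maximal' (S.isPGroup'.to_sup_of_normal_left' h2g
        (Subgroup.zpowers_le.mpr (pow_mem hg o))) le_sup_left]
      exact mem_sup_right (mem_zpowers _)
    have hodd : Odd (orderOf (g ^ 2 ^ a)) := by
      rw [orderOf_pow, hord, Nat.gcd_eq_right (Dvd.intro _ rfl),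
        Nat.mul_div_cancel_left _ (pow_pos two_pos a)]
      exact ho
    have hC1 : g ^ o ∈ centralizer ({u} : Set G) :=
      mem_centralizer_singleton_iff.mpr (U_central d hk2 hu hin).symm
    have hC2 : g ^ 2 ^ a ∈ centralizer ({u} : Set G) :=
      mem_centralizer_singleton_iff.mpr (mul_inv_eq_iff_eq_mul.mp (hcon _ (pow_mem hg _) hodd u hu))
    have hC : g ∈ centralizer ({u} : Set G) := by
      have hg1 : Nat.gcd o (2 ^ a) = 1 := (Nat.coprime_two_right.mpr ho).pow_right a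
      have hb := Nat.gcd_eq_gcd_ab o (2 ^ a)
      rw [hg1, Nat.cast_one] at hb
      have := mul_mem (zpow_mem hC1 (Nat.gcdA o (2 ^ a))) (zpow_mem hC2 (Nat.gcdB o (2 ^ a)))
      rwa [← zpow_natCast g o, ← zpow_natCast g (2 ^ a), ← zpow_mul, ← zpow_mul, ← zpow_add, ← hb,
        zpow_one] at this
    exact mul_inv_eq_iff_eq_mul.mpr (mem_centralizer_singleton_iff.mp hC)
  set K := d.prod d.D1 (zpowers d.ρ2) with hK
  have hmemK : ∀ x ∈ (S : Subgroup G), x ∈ K ↔ d.pr2 x ∈ zpowers d.ρ2 := fun x hx =>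
    ⟨fun hh => hh.2.2, fun hh => ⟨hx, d.pr1_mem hx, hh⟩⟩
  have hpar : ∀ x ∈ (S : Subgroup G), ∀ y ∈ (S : Subgroup G), x * y ∈ K ↔ (x ∈ K ↔ y ∈ K) := by
    intro x hx y hy
    rw [hmemK _ (mul_mem hx hy), hmemK _ hx, hmemK _ hy, d.pr2_hom hx hy]
    exact d.dih2.mul_mem_zpowers_iff (d.pr2_mem hx) (d.pr2_mem hy)
  have hstep : ∀ H, Step d H → ∀ g ∈ normalizer (H : Set G), ∀ x ∈ H,
      d.pr2 (g * x * g⁻¹) = d.pr2 x := by
    intro H hH g hg
    have hgood : d.k2 = 0 ∨ g * d.z1 * g⁻¹ = d.z1 ∨ g * d.z2 * g⁻¹ = d.z2 := .inl hk2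
    let J : Subgroup G :=
    { carrier := {x | x ∈ H ∧ d.pr2 (g * x * g⁻¹) = d.pr2 x}
      one_mem' := ⟨one_mem H, by simp⟩
      mul_mem' := fun {x y} hx hy => ⟨mul_mem hx.1 hy.1, by
        rw [show g * (x * y) * g⁻¹ = g * x * g⁻¹ * (g * y * g⁻¹) by group,
          d.pr2_hom (hH.le (Coprime.conj_mem hg hx.1)) (hH.le (Coprime.conj_mem hg hy.1)),
          d.pr2_hom (hH.le hx.1) (hH.le hy.1), hx.2, hy.2]⟩
      inv_mem' := fun {x} hx => ⟨inv_mem hx.1, by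
        rw [show g * x⁻¹ * g⁻¹ = (g * x * g⁻¹)⁻¹ by group,
          (d.pr_inv (hH.le (Coprime.conj_mem hg hx.1))).2, (d.pr_inv (hH.le hx.1)).2, hx.2]⟩ }
    have hgen : H ≤ J := hH.gen fun s hsD hsR t htD htR hle e he => by
      refine ⟨hle he, ?_⟩
      obtain ⟨s1, hsD1, hsR1, t1, htD1, htR1, hmap⟩ := exists_image d hsD hsR htD htR
        fun a ha => hH.le (Coprime.conj_mem hg (hle ha))
      have hf : Frame d s t := mk hsD hsR htD htR
      have hf1 : Frame d s1 t1 := mk hsD1 hsR1 htD1 htR1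
      have hbU : d.pr2 e ∈ U d := ⟨d.le2 (d.pr2_mem he.1),
        by rw [(d.pr_of_mem2 (d.pr2_mem he.1)).1]; exact one_mem _, d.pr2_mem (d.le2 (d.pr2_mem he.1))⟩
      obtain ⟨p, hp, hpe⟩ : ∃ p ∈ core d (d.E s t), d.pr2 p = d.pr2 e := by
        rcases core_or hf (active_all h2 hf) hbU hk2 with hc | hc
        · exact ⟨_, hc, (d.pr_of_mem2 (d.pr2_mem he.1)).2⟩
        · refine ⟨_, hc, ?_⟩
          rw [d.pr2_hom (d.le2 (d.pr2_mem he.1)) (d.le1 d.dih1.z_mem),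
            (d.pr_of_mem2 (d.pr2_mem he.1)).2, (d.pr_of_mem1 d.dih1.z_mem).2, mul_one]
      have hpS := (core_le_U d hp).1
      -- `p` is fixed by `g`
      have hgp : g * p * g⁻¹ = p := by
        rcases hH with rfl | ⟨-, s', hs2, hs2', rfl⟩ | ⟨hk, -⟩
        · exact hall g hg p (core_le_U d hp)
        · have hU1 : p ∈ U d := core_le_U d hp
          have hU2 : g * p * g⁻¹ ∈ U d := by
            have hEs : d.E s t = d.T1 s' := by
              have hcard : ∀ v, v ∈ d.D1 → v ∉ zpowers d.ρ1 → d.E v t = d.T1 v := fun v _ _ => by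
                rw [DD.E, DD.T1, DD.z2, hk2, hd.four_eq htD htR]
              refine H48.eq_of_le_of_card_le hle ?_
              rw [← hcard s' hs2 hs2', (d.E_elem hs2 hs2' htD htR).card,
                (d.E_elem hsD hsR htD htR).card]
            exact hp.2 g (hEs ▸ hg)
          obtain ⟨m, hm, hme⟩ := S.conj_eq_normalizer_conj_of_mem_centralizer p g⁻¹
            (mem_centralizer_iff.mpr fun v hv => (U_central d hk2 hU1 hv).symm)
            (mem_centralizer_iff.mpr fun v hv => by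
              rw [inv_inv]; exact (U_central d hk2 hU2 hv).symm)
          rw [inv_inv] at hme
          rw [hme, show m⁻¹ * p * m = m⁻¹ * p * m⁻¹⁻¹ by rw [inv_inv]]
          exact hall _ (inv_mem hm) p hU1
        · omega
      have hw : e * p⁻¹ ∈ W (d.E s t) d.z1 := by
        rw [W_eq_four d h2 hst hf]
        have hpe' : e * p⁻¹ ∈ d.E s t := mul_mem he (inv_mem hp.1)
        have : d.pr2 (e * p⁻¹) = 1 := by
          rw [d.pr2_hom he.1 (inv_mem hpS), (d.pr_inv hpS).2, hpe, mul_inv_cancel]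
        rw [← d.pr1_mul_pr2 (e * p⁻¹), this, mul_one]
        exact hpe'.2.1
      have hw1 := hst s1 t1 hf1 (hf.W_map hf1 hmap hgood hw)
      have hge : g * e * g⁻¹ = g * (e * p⁻¹) * g⁻¹ * p := by
        conv_rhs => arg 2; rw [← hgp]
        group
      rw [hge, d.pr2_hom (d.le1 hw1) hpS, (d.pr_of_mem1 hw1).2, one_mul, hpe]
    exact fun x hx => (hgen hx).2
  have hiff : ∀ H, Step d H → ∀ g ∈ normalizer (H : Set G), ∀ x ∈ H,
      (x ∈ K ↔ g * x * g⁻¹ ∈ K) := fun H hH g hg x hx => by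
    rw [hmemK x (hH.le hx), hmemK _ (hH.le (Coprime.conj_mem hg hx)), hstep H hH g hg x hx]
  have hSstep : Step d (S : Subgroup G) := .inl rfl
  obtain ⟨N, hN, hN2⟩ := exists_index_two (S := S) (K := K) (d.prod_le _ _)
    (relIndex_eq_two (d.le2 ht) (fun hc => ht' (by
      have := hc.2.2
      rwa [(d.pr_of_mem2 ht).2] at this)) hpar) (fun x hx g hgx =>
    ⟨fun hP => invariant_of_steps (S := S) (fun a => a ∈ K)
        (fun g hg x hx hP => (hiff _ hSstep g hg x hx).mp hP)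
        (fun H hH g hg x hx hP => (hiff H (hH.cases d) g hg x hx).mp hP) hx hgx hP,
      fun hP => by_contra fun hn => invariant_of_steps (S := S) (fun a => a ∉ K)
        (fun g hg x hx hP => mt (hiff _ hSstep g hg x hx).mpr hP)
        (fun H hH g hg x hx hP => mt (hiff H (hH.cases d) g hg x hx).mpr hP) hx hgx hn hP⟩)
  exact h2 N hN hN2

/-- A complement of `⟨z₁⟩` in the centre invariant under `β`. -/
structure InvCompl (d : DD (S : Subgroup G)) (β : G) (P : Subgroup G) : Prop where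
  le : ∀ x ∈ P, x ∈ U d
  z1 : d.z1 ∉ P
  or : ∀ u ∈ U d, u ∈ P ∨ u * d.z1 ∈ P
  inv : ∀ x ∈ P, β * x * β⁻¹ ∈ P

theorem InvCompl.inj {β : G} {P : Subgroup G} (hP : InvCompl d β P) {v v' : G} (hv : v ∈ P)
    (hv' : v' ∈ P) (e : d.pr2 v = d.pr2 v') : v = v' := by
  have h3 := mul_mem hv (inv_mem hv')
  have h4 : d.pr2 (v * v'⁻¹) = 1 := by
    rw [d.pr2_hom (hP.le v hv).1 (inv_mem (hP.le v' hv').1), (d.pr_inv (hP.le v' hv').1).2, e,
      mul_inv_cancel]
  have h5 := (d.pr1_mul_pr2 (v * v'⁻¹)).symm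
  rw [h4, mul_one] at h5
  rcases z1_zpowers d (hP.le _ h3).2.1 with e' | e' <;> rw [e'] at h5
  · exact mul_inv_eq_one.mp h5
  · exact absurd (h5 ▸ h3) hP.z1

theorem InvCompl.card {β : G} {P : Subgroup G} (hP : InvCompl d β P) (hk2 : d.k2 = 0) :
    Nat.card P = 4 := by
  have hd := d.dih2
  rw [hk2] at hd
  let f : P → d.D2 := fun v => ⟨d.pr2 v, d.pr2_mem (hP.le v v.2).1⟩
  have hf : Function.Bijective f := by
    refine ⟨fun v v' e => Subtype.ext (hP.inj v.2 v'.2 (congrArg Subtype.val e)), fun b => ?_⟩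
    have hbU : (b : G) ∈ U d := ⟨d.le2 b.2, by rw [(d.pr_of_mem2 b.2).1]; exact one_mem _,
      d.pr2_mem (d.le2 b.2)⟩
    rcases hP.or b hbU with h | h
    · exact ⟨⟨b, h⟩, Subtype.ext (d.pr_of_mem2 b.2).2⟩
    · refine ⟨⟨_, h⟩, Subtype.ext ?_⟩
      show d.pr2 ((b : G) * d.z1) = b
      rw [d.pr2_hom (d.le2 b.2) (d.le1 d.dih1.z_mem), (d.pr_of_mem2 b.2).2,
        (d.pr_of_mem1 d.dih1.z_mem).2, mul_one]
  rw [Nat.card_eq_of_bijective f hf, hd.card]
  norm_num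

theorem InvCompl.exists_common {β : G} {P Q : Subgroup G} (hP : InvCompl d β P)
    (hQ : InvCompl d β Q) (hk2 : d.k2 = 0) (hne : P ≠ Q) :
    ∃ c, c ∈ P ∧ c ∈ Q ∧ c ≠ 1 ∧ ∀ x ∈ P, x ∈ Q → x = 1 ∨ x = c := by
  classical
  have hc4 := hP.card hk2
  have h8 : Q.relIndex P ≤ 2 := by
    have hdiv : ∀ a ∈ P, ∀ b ∈ P, a ∉ Q → b ∉ Q → a * b⁻¹ ∈ Q := by
      intro a ha b hb haQ hbQ
      have h1 := (hQ.or a (hP.le a ha)).resolve_left haQ
      have h2 := (hQ.or b (hP.le b hb)).resolve_left hbQ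
      simpa [mul_assoc] using mul_mem h1 (inv_mem h2)
    by_cases hall : ∀ a ∈ P, a ∈ Q
    · rw [relIndex_eq_one.mpr hall]; omega
    push Not at hall
    obtain ⟨a, haP, haQ⟩ := hall
    refine le_of_eq ?_
    rw [relIndex, index_eq_two_iff]
    refine ⟨⟨a, haP⟩, fun b => ?_⟩
    simp only [mem_subgroupOf, Subgroup.coe_mul, Xor]
    by_cases hb : (b : G) ∈ Q
    · exact .inr ⟨hb, fun h => haQ (by simpa using mul_mem (inv_mem hb) h)⟩
    · refine .inl ⟨?_, hb⟩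
      have h3 := hdiv b b.2 a⁻¹ (inv_mem haP) hb (fun h => haQ (by simpa using inv_mem h))
      rwa [inv_inv] at h3
  have hcard : Nat.card (Q ⊓ P : Subgroup G) * Q.relIndex P = 4 := by
    rw [← inf_relIndex_right Q P, ← hc4, ← relIndex_bot_left P,
      ← relIndex_mul_relIndex ⊥ (Q ⊓ P) P bot_le inf_le_right, relIndex_bot_left]
  have h2le : 2 ≤ Nat.card (Q ⊓ P : Subgroup G) := by
    rcases Nat.eq_zero_or_pos (Q.relIndex P) with e | e
    · rw [e, mul_zero] at hcard; omega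
    · nlinarith
  have hlt : Nat.card (Q ⊓ P : Subgroup G) ≠ 4 := fun e => hne (by
    have e1 : Q ⊓ P = P := H48.eq_of_le_of_card_le inf_le_right (by rw [e, hc4])
    exact H48.eq_of_le_of_card_le (e1 ▸ inf_le_left) (by rw [hc4, hQ.card hk2]))
  have hI : Nat.card (Q ⊓ P : Subgroup G) = 2 := by
    have hdv : Nat.card (Q ⊓ P : Subgroup G) ∣ 4 := ⟨_, hcard.symm⟩
    have := Nat.le_of_dvd (by norm_num) hdv
    rcases hdv with ⟨r, hr⟩
    rcases Nat.lt_or_ge (Nat.card (Q ⊓ P : Subgroup G)) 3 with h | h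
    · omega
    · rcases Nat.lt_or_ge (Nat.card (Q ⊓ P : Subgroup G)) 4 with h' | h'
      · have e3 : Nat.card (Q ⊓ P : Subgroup G) = 3 := by omega
        rw [e3] at hr; omega
      · omega
  obtain ⟨c, hc⟩ := (Nat.card_eq_two_iff' (1 : (Q ⊓ P : Subgroup G))).mp hI
  exact ⟨c, c.2.2, c.2.1, fun e => hc.1 (Subtype.ext e), fun x hxP hxQ => by
    by_cases hx : (⟨x, hxQ, hxP⟩ : (Q ⊓ P : Subgroup G)) = 1
    · exact .inl (congrArg Subtype.val hx)
    · exact .inr (congrArg Subtype.val (hc.2 _ hx))⟩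

theorem InvCompl.pointwise {β : G} {P : Subgroup G} (hP : InvCompl d β P) (hk2 : d.k2 = 0)
    (hβo : Odd (orderOf β)) {c : G} (hc : c ∈ P) (hc1 : c ≠ 1) (hβc : β * c * β⁻¹ = c)
    {x : G} (hx : x ∈ P) : β * x * β⁻¹ = x := by
  classical
  by_cases hxc : x = 1 ∨ x = c
  · rcases hxc with rfl | rfl
    · simp
    · exact hβc
  push Not at hxc
  have hxx : ∀ y ∈ P, y * y = 1 := fun y hy => U_sq d hk2 (hP.le y hy)
  have h3 : ∀ y ∈ P, y = 1 ∨ y = c ∨ y = x ∨ y = c * x := by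
    intro y hy
    by_contra hc4
    push Not at hc4
    let l : List P := [1, ⟨c, hc⟩, ⟨x, hx⟩, ⟨c * x, mul_mem hc hx⟩, ⟨y, hy⟩]
    have hcx : c * x ≠ 1 := fun e => hxc.2 (by
      rw [← inv_eq_of_mul_eq_one_right e, inv_eq_of_mul_eq_one_right (hxx c hc)])
    have hnd : l.Nodup := by
      simp [l, Subtype.ext_iff, hc1, hc1.symm, hxc.1, Ne.symm hxc.1, Ne.symm hxc.2, hcx,
        hcx.symm, Ne.symm hc4.1, Ne.symm hc4.2.1, Ne.symm hc4.2.2.1, Ne.symm hc4.2.2.2]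
    have := Fintype.ofFinite P
    have h5 : 5 ≤ Nat.card P := by
      rw [Nat.card_eq_fintype_card]
      exact hnd.length_le_card
    rw [hP.card hk2] at h5
    omega
  rcases h3 _ (hP.inv x hx) with e | e | e | e
  · exact absurd (by simpa using e) hxc.1
  · exact absurd (mul_left_cancel (mul_right_cancel (e.trans hβc.symm))) hxc.2
  · exact e
  · exfalso
    have hodd : ∀ j : ℕ, β ^ (2 * j + 1) * x * (β ^ (2 * j + 1))⁻¹ = c * x := by
      intro j
      induction j with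
      | zero => simpa using e
      | succ j ih =>
        rw [show 2 * (j + 1) + 1 = 2 + (2 * j + 1) by ring, pow_add]
        calc β ^ 2 * β ^ (2 * j + 1) * x * (β ^ 2 * β ^ (2 * j + 1))⁻¹
            = β * (β * (β ^ (2 * j + 1) * x * (β ^ (2 * j + 1))⁻¹) * β⁻¹) * β⁻¹ := by
              rw [pow_two]; group
          _ = β * ((β * c * β⁻¹) * (β * x * β⁻¹)) * β⁻¹ := by rw [ih]; group
          _ = β * (c * (c * x)) * β⁻¹ := by rw [hβc, e]
          _ = β * x * β⁻¹ := by rw [← mul_assoc c c x, hxx c hc, one_mul]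
          _ = c * x := e
    obtain ⟨j, hj⟩ := hβo
    have h6 := hodd j
    rw [← hj, pow_orderOf_eq_one] at h6
    exact hc1 (by simpa using h6.symm)

theorem fix_z1 (hk1 : 1 ≤ d.k1) (hk2 : d.k2 = 0) {β : G}
    (hβ : β ∈ normalizer ((S : Subgroup G) : Set G)) : β * d.z1 * β⁻¹ = d.z1 := by
  have hd := d.dih2
  rw [hk2] at hd
  obtain ⟨a, ha, ha'⟩ := d.dih1.exists_refl
  have hx1S := d.le1 d.x1_mem
  have hax : ⁅d.x1, a⁆ = d.z1 := by
    rw [DD.x1, commutatorElement_def, d.dih1.rot_conj hk1 ha ha', mul_assoc, mul_inv_cancel, mul_one]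
  have e : ⁅β * d.x1 * β⁻¹, β * a * β⁻¹⁆ = β * d.z1 * β⁻¹ := by
    rw [← hax, commutatorElement_def, commutatorElement_def]
    group
  have hcS := Coprime.conj_mem hβ hx1S
  have haS := Coprime.conj_mem hβ (d.le1 ha)
  have hcc : β * d.z1 * β⁻¹ * (β * d.z1 * β⁻¹) = 1 := by
    rw [show β * d.z1 * β⁻¹ * (β * d.z1 * β⁻¹) = β * (d.z1 * d.z1) * β⁻¹ by group,
      d.dih1.z_mul_self]; simp
  obtain ⟨o1, -⟩ := comm_invol d hcS haS e hcc
  have p2 := (pr_comm d hcS haS).2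
  rw [e, hd.comm_of_zero (d.pr2_mem hcS) (d.pr2_mem haS), mul_assoc (d.pr2 (β * a * β⁻¹)),
    mul_inv_cancel, mul_one, mul_inv_cancel] at p2
  have hq := (d.pr1_mul_pr2 (β * d.z1 * β⁻¹)).symm
  rcases o1 with e' | e' <;> rw [e', p2] at hq
  · exact absurd (show d.z1 = 1 by simpa using hq) d.dih1.z_ne_one
  · simpa using hq

theorem eq_of_invariant (hk1 : 1 ≤ d.k1) (hk2 : d.k2 = 0) {β u₀ : G}
    (hβ : β ∈ normalizer ((S : Subgroup G) : Set G)) (hβo : Odd (orderOf β)) (hu₀ : u₀ ∈ U d)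
    (hmove : β * u₀ * β⁻¹ ≠ u₀) {P Q : Subgroup G} (hP : InvCompl d β P) (hQ : InvCompl d β Q) :
    P = Q := by
  by_contra hne
  obtain ⟨c, hcP, hcQ, hc1, honly⟩ := hP.exists_common hQ hk2 hne
  have hβc : β * c * β⁻¹ = c :=
    (honly _ (hP.inv c hcP) (hQ.inv c hcQ)).resolve_left fun e => hc1 (by simpa using e)
  refine hmove ?_
  rcases hP.or u₀ hu₀ with h | h
  · exact hP.pointwise hk2 hβo hcP hc1 hβc h
  · have h7 := hP.pointwise hk2 hβo hcP hc1 hβc h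
    rw [show β * (u₀ * d.z1) * β⁻¹ = β * u₀ * β⁻¹ * (β * d.z1 * β⁻¹) by group,
      fix_z1 hk1 hk2 hβ] at h7
    exact mul_right_cancel h7

/-- There is a complement of `⟨z₁⟩` in the centre respected by all the steps. -/
theorem exists_complement (h2 : ∀ N : Subgroup G, N.Normal → N.index ≠ 2) (hk1 : 1 ≤ d.k1)
    (hk2 : d.k2 = 0) (hst : Straight d) :
    ∃ P : Subgroup G, P ≤ U d ∧ d.z1 ∉ P ∧ (∀ u ∈ U d, u ∈ P ∨ u * d.z1 ∈ P) ∧
      Cfsg.IsStronglyClosed P (S : Subgroup G) := by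
  classical
  haveI : Fact (Nat.Prime 2) := ⟨Nat.prime_two⟩
  obtain ⟨s₀, hs, hs'⟩ := d.dih1.exists_refl
  obtain ⟨t₀, ht, ht'⟩ := d.dih2.exists_refl
  have hs1 : s₀ * d.ρ1 ∈ d.D1 := mul_mem hs d.dih1.mem
  have hs1' : s₀ * d.ρ1 ∉ zpowers d.ρ1 := fun hc =>
    hs' (by simpa using mul_mem hc (inv_mem (mem_zpowers d.ρ1)))
  have mk : ∀ {s t : G}, s ∈ d.D1 → s ∉ zpowers d.ρ1 → t ∈ d.D2 → t ∉ zpowers d.ρ2 → Frame d s t :=
    fun {s t} h1 h2 h3 h4 => ⟨hk1, h1, h2, h3, h4⟩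
  have hd := d.dih2
  rw [hk2] at hd
  have hEt : ∀ s t : G, t ∈ d.D2 → t ∉ zpowers d.ρ2 → d.E s t = d.E s t₀ := by
    intro s t h1 h2
    rw [DD.E, DD.E, DD.z2, hk2, hd.four_eq h1 h2, hd.four_eq ht ht']
  set P₀ := core d (d.E s₀ t₀) with hP₀
  set P₁ := core d (d.E (s₀ * d.ρ1) t₀) with hP₁
  have hUS : ∀ u ∈ U d, ∀ g ∈ (S : Subgroup G), g * u * g⁻¹ = u := fun u hu g hg => by
    rw [← U_central d hk2 hu hg, mul_assoc, mul_inv_cancel, mul_one]
  have hSN : (S : Subgroup G) ≤ normalizer ((S : Subgroup G) : Set G) := le_normalizer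
  have hclass : ∀ s, s ∈ d.D1 → s ∉ zpowers d.ρ1 →
      core d (d.E s t₀) = P₀ ∨ core d (d.E s t₀) = P₁ := by
    intro s hsD hsR
    have key : ∀ si, si ∈ d.D1 → si ∉ zpowers d.ρ1 → s * si ∈ Dih.sq d.ρ1 →
        core d (d.E s t₀) = core d (d.E si t₀) := by
      intro si hsi hsi' hq
      obtain ⟨r, hr, hrs⟩ := d.dih1.exists_conj hsi hsi' hq
      have hrD := d.dih1.zpowers_le hr
      have hrS := d.le1 hrD
      have hmap : ∀ a, a ∈ d.E si t₀ ↔ r * a * r⁻¹ ∈ d.E s t₀ := hrs ▸ conj_E_iff hrD hsi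
      refine le_antisymm (fun u hu => ?_) fun u hu => ?_
      · have := core_map d hk1 hk2 (inv_mem (hSN hrS)) (conj_iff_symm hmap) hu
        rwa [hUS u (core_le_U d hu) _ (inv_mem hrS)] at this
      · have := core_map d hk1 hk2 (hSN hrS) hmap hu
        rwa [hUS u (core_le_U d hu) _ hrS] at this
    have hm : s * s₀ ∈ zpowers d.ρ1 :=
      (d.dih1.mul_mem_zpowers_iff hsD hs).mpr (iff_of_false hsR hs')
    rcases Dih.sq_cases hm with e | e
    · exact .inl (key s₀ hs hs' e)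
    · exact .inr (key _ hs1 hs1' (by rwa [← mul_assoc]))
  have hor : ∀ s, s ∈ d.D1 → s ∉ zpowers d.ρ1 →
      d.z1 ∉ core d (d.E s t₀) ∧ ∀ u ∈ U d, u ∈ core d (d.E s t₀) ∨ u * d.z1 ∈ core d (d.E s t₀) := by
    intro s hsD hsR
    have h := mk hsD hsR ht ht'
    exact ⟨z1_not_core h (active_all h2 h), fun u hu => core_or h (active_all h2 h) hu hk2⟩
  -- some element normalising `S` moves the centre
  obtain ⟨β, hβ, hβo, u₀, hu₀, hmove⟩ := exists_moving h2 hk1 hk2 hst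
  -- the conjugation action on the cores
  have hSinv : ∀ g ∈ normalizer ((S : Subgroup G) : Set G), ∀ s, s ∈ d.D1 → s ∉ zpowers d.ρ1 →
      ∃ s', s' ∈ d.D1 ∧ s' ∉ zpowers d.ρ1 ∧
        H48.cj g (core d (d.E s t₀)) = core d (d.E s' t₀) := by
    intro g hg s hsD hsR
    obtain ⟨s1, hsD1, hsR1, t1, htD1, htR1, hmap⟩ := exists_image d hsD hsR ht ht'
      fun a ha => Coprime.conj_mem hg ha.1
    rw [hEt s1 t1 htD1 htR1] at hmap
    refine ⟨s1, hsD1, hsR1, le_antisymm (H48.cj_le.mpr fun u hu => core_map d hk1 hk2 hg hmap hu)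
      fun u hu => H48.mem_cj.mpr ?_⟩
    have := core_map d hk1 hk2 (inv_mem hg) (conj_iff_symm hmap) hu
    rwa [inv_inv] at this
  have hβfix : ∀ s, s ∈ d.D1 → s ∉ zpowers d.ρ1 →
      ∀ u ∈ core d (d.E s t₀), β * u * β⁻¹ ∈ core d (d.E s t₀) := by
    intro s hsD hsR u hu
    suffices h : H48.cj β (core d (d.E s t₀)) = core d (d.E s t₀) from
      h ▸ H48.conj_mem_cj hu
    by_contra hne
    obtain ⟨s', hsD', hsR', e⟩ := hSinv β hβ s hsD hsR
    obtain ⟨s'', hsD'', hsR'', e'⟩ := hSinv β hβ s' hsD' hsR'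
    have hne' : core d (d.E s' t₀) ≠ core d (d.E s t₀) := e ▸ hne
    have hback : H48.cj β (core d (d.E s' t₀)) = core d (d.E s t₀) := by
      have hne2 : H48.cj β (core d (d.E s' t₀)) ≠ core d (d.E s' t₀) := fun h =>
        hne' (by
          have := congrArg (H48.cj β⁻¹) h
          rw [H48.cj_inv_cj] at this
          rw [← e, H48.cj_inv_cj] at this
          rw [← this, e])
      rw [e'] at hne2 ⊢
      rcases hclass s hsD hsR with a | a <;> rcases hclass s' hsD' hsR' with b | b <;>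
        rcases hclass s'' hsD'' hsR'' with c | c <;>
        simp only [a, b, c] at hne' hne2 ⊢ <;> first | rfl | exact absurd rfl hne' | exact absurd rfl hne2
    have hodd : ∀ j : ℕ, H48.cj (β ^ (2 * j + 1)) (core d (d.E s t₀)) = core d (d.E s' t₀) := by
      intro j
      induction j with
      | zero => simpa using e
      | succ j ih =>
        rw [show 2 * (j + 1) + 1 = 2 + (2 * j + 1) by ring, pow_add, ← H48.cj_cj, ih, pow_two,
          ← H48.cj_cj, hback, e]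
    obtain ⟨j, hj⟩ := hβo
    have := hodd j
    rw [← hj, pow_orderOf_eq_one, H48.cj_one] at this
    exact hne' this.symm
  have hPeq : ∀ s, s ∈ d.D1 → s ∉ zpowers d.ρ1 → core d (d.E s t₀) = P₀ := by
    intro s hsD hsR
    exact eq_of_invariant hk1 hk2 hβ hβo hu₀ hmove
      ⟨fun x hx => core_le_U d hx, (hor s hsD hsR).1, (hor s hsD hsR).2, hβfix s hsD hsR⟩
      ⟨fun x hx => core_le_U d hx, (hor s₀ hs hs').1, (hor s₀ hs hs').2, hβfix s₀ hs hs'⟩
  refine ⟨P₀, fun x hx => core_le_U d hx, (hor s₀ hs hs').1, (hor s₀ hs hs').2, ?_⟩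
  refine isStronglyClosed_of_steps (fun x hx => (core_le_U d hx).1) (fun g hg x hx => ?_)
    fun H hH g hg x _ hxP => ?_
  · obtain ⟨s', hsD, hsR, e⟩ := hSinv g hg s₀ hs hs'
    rw [hPeq s' hsD hsR] at e
    exact e ▸ H48.conj_mem_cj hx
  · rcases hH.cases d with rfl | ⟨-, s, hsD, hsR, rfl⟩ | ⟨hk, -⟩
    · obtain ⟨s', hsD, hsR, e⟩ := hSinv g hg s₀ hs hs'
      rw [hPeq s' hsD hsR] at e
      exact e ▸ H48.conj_mem_cj hxP
    · have hE : d.E s t₀ = d.T1 s := by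
        rw [DD.E, DD.T1, DD.z2, hk2, hd.four_eq ht ht']
      rw [← hE] at hg
      rw [← hPeq s hsD hsR] at hxP ⊢
      exact core_normalizer d hg hxP
    · omega

end Cfsg.Agent.H52.DihSq
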