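import Cfsg.Agent.H47.StrongAlperin
import Cfsg.Agent.Cores.PCore
import Cfsg.Agent.H48.SylowIn
import Cfsg.Prelude.Def_TwoFusion

/-!
Fusion in a Sylow 2-subgroup reduced to the normalizers of essential subgroups.
-/

set_option autoImplicit false
set_option linter.style.haveILetI false

namespace Cfsg.Agent.H52.DihSq

open Subgroup
open Cfsg.Agent
open scoped commutatorElement

universe u

variable {G : Type u} [Group G] [Finite G]

/-- The properties of the subgroups in the strong form of Alperin's theorem. -/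
structure Ess (S : Sylow 2 G) (H : Subgroup G) : Prop where
  le : H ≤ (S : Subgroup G)
  sylow : ¬ 2 ∣ ((S : Subgroup G) ⊓ normalizer (H : Set G)).relIndex (normalizer (H : Set G))
  cent : (S : Subgroup G) ⊓ centralizer (H : Set G) ≤ H
  core : (Cfsg.pPrimePCore 2 ↥(normalizer (H : Set G))).map (normalizer (H : Set G)).subtype =
    H ⊔ centralizer (H : Set G)
  disc : ¬ Cfsg.IsSylowChainConnected 2
    (↥(normalizer (H : Set G)) ⧸ H.subgroupOf (normalizer (H : Set G)))

variable {S : Sylow 2 G}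

/-- A property of elements of `S` preserved by the steps of Alperin's theorem is a fusion
invariant. -/
theorem invariant_of_steps (P : G → Prop)
    (hN : ∀ g ∈ normalizer ((S : Subgroup G) : Set G), ∀ x ∈ (S : Subgroup G), P x → P (g * x * g⁻¹))
    (hE : ∀ H, Ess S H → ∀ g ∈ normalizer (H : Set G), ∀ x ∈ H, P x → P (g * x * g⁻¹))
    {x g : G} (hx : x ∈ (S : Subgroup G)) (hg : g * x * g⁻¹ ∈ (S : Subgroup G)) (hP : P x) :
    P (g * x * g⁻¹) := by
  haveI : Fact (Nat.Prime 2) := ⟨Nat.prime_two⟩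
  have key : ∀ (A : Set G) (k : G), H47.StrongAG.SConn S A k →
      ∀ a ∈ A, a ∈ (S : Subgroup G) → P a → P (k⁻¹ * a * k) := by
    intro A k h
    induction h with
    | fin A c y hc hy =>
      intro a ha haS hPa
      have e : (c * y)⁻¹ * a * (c * y) = y⁻¹ * a * y⁻¹⁻¹ := by
        rw [inv_inv, mul_inv_rev]
        calc y⁻¹ * c⁻¹ * a * (c * y) = y⁻¹ * (c⁻¹ * (a * c)) * y := by group
          _ = y⁻¹ * a * y := by rw [mem_centralizer_iff.mp hc a ha]; group
      rw [e]
      exact hN _ (inv_mem hy) a haS hPa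
    | step A k x H hH hA _ ih =>
      intro a ha _ hPa
      have h2 : x⁻¹ * a * x⁻¹⁻¹ ∈ H :=
        Coprime.conj_mem (inv_mem ((H48.mem_normalizer_of_cj_eq (g := x) (H := H)) (by
          obtain ⟨X, hX, hxX⟩ := hH.res
          refine H48.cj_eq_of_mem_normalizer (hX.le_norm ?_)
          obtain ⟨x', -, rfl⟩ := hxX
          exact x'.2))) (hA ha)
      have h1 := hE H ⟨hH.le, hH.sylow, hH.cent, hH.core, hH.disc⟩ x⁻¹ (by
        obtain ⟨X, hX, hxX⟩ := hH.res
        obtain ⟨x', -, rfl⟩ := hxX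
        exact inv_mem (hX.le_norm x'.2)) a (hA ha) hPa
      rw [inv_inv] at h1 h2
      have := ih (x⁻¹ * a * x) ⟨a, ha, rfl⟩ (hH.le h2) h1
      rw [show (x * k)⁻¹ * a * (x * k) = k⁻¹ * (x⁻¹ * a * x) * k by group]
      exact this
  have h := key {x} g⁻¹ (H47.StrongAG.sconn (fun y hy => by rw [Set.mem_singleton_iff.mp hy]; exact hx) (by rintro _ ⟨y, hy, rfl⟩; rw [Set.mem_singleton_iff.mp hy]; simp only [inv_inv, SetLike.mem_coe]; exact hg)) x rfl hx hP
  simpa using h

theorem isStronglyClosed_of_steps {T : Subgroup G} (hT : T ≤ (S : Subgroup G))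
    (hN : ∀ g ∈ normalizer ((S : Subgroup G) : Set G), ∀ x ∈ T, g * x * g⁻¹ ∈ T)
    (hE : ∀ H, Ess S H → ∀ g ∈ normalizer (H : Set G), ∀ x ∈ H, x ∈ T → g * x * g⁻¹ ∈ T) :
    Cfsg.IsStronglyClosed T (S : Subgroup G) :=
  ⟨hT, fun _ hx _ hg => invariant_of_steps (fun a => a ∈ T) (fun g hg _ _ h => hN g hg _ h) hE (hT hx) hg hx⟩

/-- A subgroup of index 2 of `S` respected by all fusion gives a subgroup of index 2 of `G`. -/
theorem exists_index_two {K : Subgroup G} (hK : K ≤ (S : Subgroup G))
    (hidx : K.relIndex (S : Subgroup G) = 2)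
    (hinv : ∀ x ∈ (S : Subgroup G), ∀ g : G, g * x * g⁻¹ ∈ (S : Subgroup G) →
      (x ∈ K ↔ g * x * g⁻¹ ∈ K)) :
    ∃ N : Subgroup G, N.Normal ∧ N.index = 2 := by
  classical
  haveI : Fact (Nat.Prime 2) := ⟨Nat.prime_two⟩
  have hfoc : (S : Subgroup G).focalSubgroup ≤ K := by
    rw [focalSubgroup_def, closure_le]
    rintro a ⟨ha, x, hx, u, rfl⟩
    have h1 : u * x⁻¹ * u⁻¹ ∈ (S : Subgroup G) := by
      have := mul_mem (inv_mem hx) ha
      simpa [commutatorElement_def, mul_assoc] using this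
    have e : ⁅x, u⁆ = x * (u * x⁻¹ * u⁻¹) := by rw [commutatorElement_def]; group
    rw [SetLike.mem_coe, e]
    have h2 := hinv x⁻¹ (inv_mem hx) u h1
    rw [inv_mem_iff] at h2
    by_cases hxK : x ∈ K
    · exact mul_mem hxK (h2.mp hxK)
    · have h2' := mt h2.mpr hxK
      have := (Subgroup.mul_mem_iff_of_index_two (H := K.subgroupOf (S : Subgroup G)) hidx
        (a := ⟨x, hx⟩) (b := ⟨_, h1⟩))
      simp only [mem_subgroupOf, Subgroup.coe_mul] at this
      exact this.mpr (iff_of_false hxK h2')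
  have hCK : commutator G ⊓ (S : Subgroup G) ≤ K := by
    rw [commutator_inf_eq_focalSubgroup]; exact hfoc
  set M := commutator G ⊔ K with hM
  haveI hMn : M.Normal := by
    refine ⟨fun m hm g => ?_⟩
    have hc : ⁅g, m⁆ ∈ M := mem_sup_left (commutator_mem_commutator (mem_top g) (mem_top m))
    have := mul_mem hc hm
    simpa [commutatorElement_def] using this
  have hSM : ∀ x ∈ (S : Subgroup G), x ∈ M → x ∈ K := by
    intro x hx hxM
    rw [hM, ← SetLike.mem_coe, Subgroup.normal_mul] at hxM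
    obtain ⟨c, hc, k, hk, rfl⟩ := Set.mem_mul.mp hxM
    have hcS : c ∈ (S : Subgroup G) := by
      have := mul_mem hx (inv_mem (hK hk))
      simpa using this
    exact mul_mem (hCK ⟨hc, hcS⟩) hk
  let f : (S : Subgroup G) →* G ⧸ M := (QuotientGroup.mk' M).comp (S : Subgroup G).subtype
  have hker : f.ker = K.subgroupOf (S : Subgroup G) := by
    ext x
    simp only [f, MonoidHom.mem_ker, MonoidHom.comp_apply, QuotientGroup.mk'_apply,
      QuotientGroup.eq_one_iff, mem_subgroupOf, Subgroup.coe_subtype]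
    exact ⟨hSM _ x.2, fun h => mem_sup_right h⟩
  have hcard : Nat.card f.range = 2 := by
    rw [← Subgroup.index_ker, hker]; exact hidx
  have hrange : f.range = (S.mapSurjective (QuotientGroup.mk'_surjective M) : Subgroup (G ⧸ M)) := by
    rw [show (S.mapSurjective (QuotientGroup.mk'_surjective M) : Subgroup (G ⧸ M)) =
      (S : Subgroup G).map (QuotientGroup.mk' M) from rfl]
    ext q
    simp [f, MonoidHom.range_comp]
  obtain ⟨m, hm⟩ : 2 ∣ Nat.card (G ⧸ M) := hcard ▸ Subgroup.card_subgroup_dvd_card f.range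
  have hmodd : Odd m := by
    rw [← Nat.not_even_iff_odd, even_iff_two_dvd]
    rintro ⟨l, rfl⟩
    have h4 := (S.mapSurjective (QuotientGroup.mk'_surjective M)).not_dvd_index
    rw [← hrange] at h4
    have h5 := f.range.card_mul_index
    rw [hcard, hm] at h5
    exact h4 ⟨l, by omega⟩
  letI : CommGroup (G ⧸ M) := { (inferInstance : Group (G ⧸ M)) with
    mul_comm := by
      intro a b
      obtain ⟨x, rfl⟩ := QuotientGroup.mk'_surjective M a
      obtain ⟨y, rfl⟩ := QuotientGroup.mk'_surjective M b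
      rw [← commutatorElement_eq_one_iff_mul_comm, ← map_commutatorElement]
      exact (QuotientGroup.eq_one_iff _).mpr
        (mem_sup_left (commutator_mem_commutator (mem_top x) (mem_top y))) }
  let φ : G ⧸ M →* G ⧸ M := powMonoidHom m
  have hφ : φ.range = f.range := by
    have hsq : ∀ q ∈ φ.range, q ^ 2 = 1 := by
      rintro _ ⟨q, rfl⟩
      simp only [φ, powMonoidHom_apply, ← pow_mul]
      rw [mul_comm m 2, ← hm]
      exact pow_card_eq_one'
    refine le_antisymm ?_ ?_
    · intro q hq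
      have h2 : IsPGroup 2 (zpowers q) := by
        obtain ⟨j, -, hj⟩ := (Nat.dvd_prime_pow Nat.prime_two).mp
          (show orderOf q ∣ 2 ^ 1 by simpa using orderOf_dvd_of_pow_eq_one (hsq q hq))
        exact IsPGroup.of_card (n := j) (by rw [Nat.card_zpowers, hj])
      rw [hrange]
      have := (S.mapSurjective (QuotientGroup.mk'_surjective M)).is_maximal'
        ((S.mapSurjective (QuotientGroup.mk'_surjective M)).isPGroup'.to_sup_of_normal_left h2)
        le_sup_left
      rw [← this]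
      exact mem_sup_right (mem_zpowers q)
    · rintro _ ⟨x, rfl⟩
      refine ⟨f x, ?_⟩
      have hx2 : f x ^ 2 = 1 := by
        have := pow_card_eq_one' (x := (⟨f x, x, rfl⟩ : f.range))
        rw [hcard] at this
        exact congrArg Subtype.val this
      obtain ⟨l, rfl⟩ := hmodd
      simp [φ, pow_succ, pow_mul, hx2]
  refine ⟨φ.ker.comap (QuotientGroup.mk' M), inferInstance, ?_⟩
  rw [index_comap_of_surjective _ (QuotientGroup.mk'_surjective M), index_ker, hφ, hcard]

/-- A normal subgroup of `N(H)` acting on `H` as a 2-group has its 2-elements from `S` in `H`. -/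
theorem Ess.mem_of_normal {H : Subgroup G} (hH : Ess S H) {P : Subgroup G}
    (hP : P ≤ normalizer (H : Set G)) (hn : normalizer (H : Set G) ≤ normalizer (P : Set G))
    (hodd : ∀ g ∈ P, Odd (orderOf g) → g ∈ centralizer (H : Set G))
    {x : G} (hx : x ∈ (S : Subgroup G)) (hxP : x ∈ P) : x ∈ H := by
  classical
  haveI : Fact (Nat.Prime 2) := ⟨Nat.prime_two⟩
  set N := normalizer (H : Set G) with hNdef
  set P' := P.subgroupOf N with hP'
  haveI : P'.Normal := (normal_subgroupOf_iff_le_normalizer hP).mpr hn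
  set C := (centralizer (H : Set G)).subgroupOf N with hC
  haveI hCn : C.Normal := (normal_subgroupOf_iff_le_normalizer (centralizer_le_normalizer _)).mpr
    (normalizer_le_normalizer_centralizer' H)
  set K := Cfsg.pPrimePCore 2 N with hK
  haveI : (Cfsg.pCore 2 (N ⧸ Cfsg.pPrimeCore 2 N)).Normal := inferInstance
  haveI hKn : K.Normal := (inferInstance : (Cfsg.pCore 2 (N ⧸ Cfsg.pPrimeCore 2 N)).Normal).comap _
  have hKmem : ∀ y : N, y ∈ K ↔ (y : G) ∈ H ⊔ centralizer (H : Set G) := by
    intro y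
    rw [← hH.core]
    exact ⟨fun h => ⟨y, h, rfl⟩, fun ⟨z, hz, e⟩ => by rwa [← Subtype.ext (e : (z : G) = y)]⟩
  have himg : IsPGroup 2 (P'.map (QuotientGroup.mk' K)) := by
    rintro ⟨_, g, hg, rfl⟩
    obtain ⟨a, o, ho, hord⟩ := Nat.exists_eq_two_pow_mul_odd (orderOf_pos g).ne'
    refine ⟨a, Subtype.ext ?_⟩
    show QuotientGroup.mk' K g ^ 2 ^ a = 1
    rw [← map_pow]
    refine (QuotientGroup.eq_one_iff _).mpr ((hKmem _).mpr (mem_sup_right ?_))
    refine hodd _ (show ((g ^ 2 ^ a : N) : G) ∈ P from P'.pow_mem hg _) ?_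
    rw [Subgroup.orderOf_coe, orderOf_pow, hord,
      Nat.gcd_eq_right (Dvd.intro _ rfl), Nat.mul_div_cancel_left _ (pow_pos two_pos a)]
    exact ho
  have hle : P' ≤ K := by
    haveI : (P'.map (QuotientGroup.mk' K)).Normal :=
      (inferInstance : P'.Normal).map _ (QuotientGroup.mk'_surjective K)
    have hcore : Cfsg.pCore 2 (N ⧸ K) = ⊥ := pCore_quotient_pPrimePCore
    intro g hg
    have h1 := Cores.le_pCore himg ⟨g, hg, rfl⟩
    rw [hcore, mem_bot] at h1
    exact (QuotientGroup.eq_one_iff g).mp h1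
  have hxK := (hKmem ⟨x, hP hxP⟩).mp (hle (show (⟨x, hP hxP⟩ : N) ∈ P' from hxP))
  obtain ⟨c, hc, h, hh, e⟩ := (Coprime.mem_sup_iff (H := H) (N := centralizer (H : Set G))
    (le_normalizer.trans (normalizer_le_normalizer_centralizer' H))).mp (sup_comm H _ ▸ hxK)
  change c * h = x at e
  have hcS : c ∈ (S : Subgroup G) := by
    have := mul_mem hx (inv_mem (hH.le hh))
    rw [← e] at this
    simpa using this
  rw [← e]
  exact mul_mem (hH.cent ⟨hcS, hc⟩) hh
where
  normalizer_le_normalizer_centralizer' (H : Subgroup G) :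
      normalizer (H : Set G) ≤ normalizer ((centralizer (H : Set G) : Subgroup G) : Set G) := by
    intro g hg
    refine H48.mem_normalizer_of_cj_eq (H48.cj_eq_self_of_le (H48.cj_le.mpr fun c hc => ?_))
    refine mem_centralizer_iff.mpr fun h hh => ?_
    have := mem_centralizer_iff.mp hc _ (Coprime.conj_mem' hg hh)
    calc h * (g * c * g⁻¹) = g * ((g⁻¹ * h * g) * c) * g⁻¹ := by group
      _ = g * (c * (g⁻¹ * h * g)) * g⁻¹ := by rw [this]
      _ = _ := by group
  pCore_quotient_pPrimePCore {N : Type u} [Group N] [Finite N]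
      [(Cfsg.pPrimePCore 2 N).Normal] : Cfsg.pCore 2 (N ⧸ Cfsg.pPrimePCore 2 N) = ⊥ := by
    set O := Cfsg.pPrimeCore 2 N
    set B := Cfsg.pCore 2 (N ⧸ O)
    set K := Cfsg.pPrimePCore 2 N
    have hOK : O ≤ K := fun y hy => by
      show QuotientGroup.mk' O y ∈ B
      rw [(QuotientGroup.eq_one_iff y).mpr hy |> fun e => (show QuotientGroup.mk' O y = 1 from e)]
      exact one_mem _
    let f : N ⧸ O →* N ⧸ K := QuotientGroup.map O K (MonoidHom.id N) hOK
    have hf : Function.Surjective f := fun q => by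
      obtain ⟨y, rfl⟩ := QuotientGroup.mk'_surjective K q
      exact ⟨QuotientGroup.mk y, rfl⟩
    have hker : IsPGroup 2 f.ker := by
      refine Cores.pCore_isPGroup.to_le (fun q hq => ?_)
      obtain ⟨y, rfl⟩ := QuotientGroup.mk'_surjective O q
      exact (QuotientGroup.eq_one_iff y).mp hq
    have h1 : (Cfsg.pCore 2 (N ⧸ K)).comap f ≤ B := by
      haveI : ((Cfsg.pCore 2 (N ⧸ K)).comap f).Normal :=
        (inferInstance : (Cfsg.pCore 2 (N ⧸ K)).Normal).comap f
      exact Cores.le_pCore (Cores.pCore_isPGroup.comap_of_ker_isPGroup _ hker)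
    rw [eq_bot_iff]
    intro q hq
    obtain ⟨y, rfl⟩ := QuotientGroup.mk'_surjective K q
    have h2 : QuotientGroup.mk' O y ∈ B := h1 hq
    exact mem_bot.mpr ((QuotientGroup.eq_one_iff y).mpr h2)

/-- Chains of Sylow subgroups with consecutive nontrivial intersections. -/
inductive Linked {X : Type*} [Group X] : Sylow 2 X → Sylow 2 X → Prop where
  | refl (A : Sylow 2 X) : Linked A A
  | step (A B C : Sylow 2 X) (hAB : (A : Subgroup X) ⊓ (B : Subgroup X) ≠ ⊥) (h : Linked B C) :
      Linked A C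

theorem Linked.exists_fin {X : Type*} [Group X] {A C : Sylow 2 X} (h : Linked A C) :
    ∃ (n : ℕ) (c : Fin (n + 1) → Sylow 2 X), c 0 = A ∧ c (Fin.last n) = C ∧
      ∀ i : Fin n, c i.castSucc ≠ c i.succ ∧
        (c i.castSucc : Subgroup X) ⊓ (c i.succ : Subgroup X) ≠ ⊥ := by
  induction h with
  | refl A => exact ⟨0, fun _ => A, rfl, rfl, fun i => i.elim0⟩
  | step A B C hAB _ ih =>
    obtain ⟨n, c, h0, hl, hc⟩ := ih
    by_cases hAB' : A = B
    · exact ⟨n, c, h0.trans hAB'.symm, hl, hc⟩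
    refine ⟨n + 1, Fin.cons A c, rfl, ?_, fun i => ?_⟩
    · rw [← Fin.succ_last, Fin.cons_succ, hl]
    refine Fin.cases ?_ (fun j => ?_) i
    · simp only [Fin.castSucc_zero, Fin.cons_zero, Fin.cons_succ, h0]
      exact ⟨hAB', hAB⟩
    · rw [← Fin.succ_castSucc, Fin.cons_succ, Fin.cons_succ]
      exact hc j

/-- If the quotient is not chain-connected, the involutions of a Sylow subgroup are conjugate. -/
theorem isConj_of_not_connected {X : Type*} [Group X] [Finite X]
    (h : ¬ Cfsg.IsSylowChainConnected 2 X) (P : Sylow 2 X) {u v : X} (hu : u ∈ P) (hv : v ∈ P)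
    (hu2 : orderOf u = 2) (hv2 : orderOf v = 2) : IsConj u v := by
  classical
  haveI : Fact (Nat.Prime 2) := ⟨Nat.prime_two⟩
  unfold Cfsg.IsSylowChainConnected at h
  push Not at h
  obtain ⟨A, B, hAB⟩ := h
  by_cases hint : (A : Subgroup X) ⊓ (B : Subgroup X) ≠ ⊥
  · exfalso
    by_cases hne : A = B
    · subst hne
      obtain ⟨i, hi⟩ := hAB 0 (fun _ => A) rfl rfl (fun _ => inf_le_left)
      exact i.elim0
    · obtain ⟨i, hi⟩ := hAB 1 ![A, B] rfl rfl (fun i => by fin_cases i <;> simp)
      fin_cases i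
      exact hint (hi hne)
  push Not at hint
  have hnl : ¬ Linked A B := fun hl => by
    obtain ⟨n, c, h0, hl', hc⟩ := hl.exists_fin
    obtain ⟨i, hi⟩ := hAB n c h0 hl' (fun i => hint ▸ bot_le)
    exact (hc i).2 (hi (hc i).1)
  have key : ∀ a b : X, a ∈ A → b ∈ B → orderOf a = 2 → orderOf b = 2 → IsConj a b := by
    intro a b ha hb ha2 hb2
    have haa : a * a = 1 := by rw [← pow_two, ← ha2, pow_orderOf_eq_one]
    have hbb : b * b = 1 := by rw [← pow_two, ← hb2, pow_orderOf_eq_one]
    set d := a * b with hd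
    have had : a * d * a⁻¹ = d⁻¹ := by
      rw [hd, mul_inv_rev, inv_eq_of_mul_eq_one_right haa, inv_eq_of_mul_eq_one_right hbb,
        ← mul_assoc a a b, haa, one_mul]
    rcases Nat.even_or_odd (orderOf d) with he | ho
    · exfalso
      obtain ⟨m, hm⟩ := he
      set z := d ^ m with hz
      have hzz : z * z = 1 := by rw [hz, ← pow_add, ← hm, pow_orderOf_eq_one]
      have hz2 : orderOf z = 2 := by
        refine orderOf_eq_prime (by rw [pow_two]; exact hzz) fun e => ?_
        have := Nat.le_of_dvd (Nat.pos_of_ne_zero fun h0 => by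
          have := orderOf_pos d; omega) (orderOf_dvd_of_pow_eq_one (e : d ^ m = 1))
        have := orderOf_pos d
        omega
      have haz : Commute a z := by
        have h1 : a * z * a⁻¹ = z := by
          rw [hz, ← conj_pow, had, inv_pow, ← hz, inv_eq_of_mul_eq_one_right hzz]
        exact mul_inv_eq_iff_eq_mul.mp h1
      have hbz : Commute b z := by
        have e : b = a * d := by rw [hd, ← mul_assoc, haa, one_mul]
        rw [e]
        exact haz.mul_left ((Commute.refl d).pow_right m)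
      have hp : ∀ w : X, orderOf w = 2 → IsPGroup 2 (zpowers w) := fun w hw =>
        IsPGroup.of_card (n := 1) (by rw [Nat.card_zpowers, hw, pow_one])
      have hsup : ∀ w : X, orderOf w = 2 → Commute w z →
          IsPGroup 2 (zpowers w ⊔ zpowers z : Subgroup X) := fun w hw hc =>
        (hp w hw).to_sup_of_normal_left' (hp z hz2) (zpowers_le.mpr (centralizer_le_normalizer _
          (mem_centralizer_iff.mpr fun y hy => by
            obtain ⟨j, rfl⟩ := mem_zpowers_iff.mp hy
            exact (hc.zpow_left j).eq)))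
      obtain ⟨A', hA'⟩ := (hsup a ha2 haz).exists_le_sylow
      obtain ⟨B', hB'⟩ := (hsup b hb2 hbz).exists_le_sylow
      have hmeet : ∀ (C D : Sylow 2 X) (w : X), orderOf w = 2 → w ∈ C → w ∈ D →
          (C : Subgroup X) ⊓ (D : Subgroup X) ≠ ⊥ := fun C D w hw hC hD e => by
        have h1 : w ∈ (C : Subgroup X) ⊓ (D : Subgroup X) := ⟨hC, hD⟩
        rw [e, mem_bot] at h1
        rw [h1, orderOf_one] at hw
        exact absurd hw (by norm_num)
      exact hnl (.step A A' B (hmeet A A' a ha2 ha (hA' (mem_sup_left (mem_zpowers a))))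
        (.step A' B' B (hmeet A' B' z hz2 (hA' (mem_sup_right (mem_zpowers z)))
            (hB' (mem_sup_right (mem_zpowers z))))
          (.step B' B B (hmeet B' B b hb2 (hB' (mem_sup_left (mem_zpowers b))) hb) (.refl B))))
    · obtain ⟨j, hj⟩ := ho
      refine isConj_iff.mpr ⟨d ^ j, ?_⟩
      have h1 : a * (d ^ j)⁻¹ = d ^ j * a := by
        rw [← inv_pow, ← had, conj_pow]
        calc a * (a * d ^ j * a⁻¹) = (a * a) * d ^ j * a⁻¹ := by group
          _ = _ := by rw [haa, one_mul, inv_eq_of_mul_eq_one_right haa]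
      have hda : a * d = b := by rw [hd, ← mul_assoc, haa, one_mul]
      calc d ^ j * a * (d ^ j)⁻¹ = d ^ j * (d ^ j * a) := by rw [mul_assoc, h1]
        _ = d ^ (2 * j) * a := by rw [← mul_assoc, ← pow_add, two_mul]
        _ = d⁻¹ * a := by
            rw [eq_inv_of_mul_eq_one_left (show d ^ (2 * j) * d = 1 by
              rw [← pow_succ, ← hj, pow_orderOf_eq_one])]
        _ = b := by rw [← had, ← hda]; group
  obtain ⟨g, hg⟩ := MulAction.exists_smul_eq X P A
  have hBne : (B : Subgroup X) ≠ ⊥ := by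
    intro e
    have hP1 : (P : Subgroup X) ≠ ⊥ := fun e' => by
      have : u ∈ (P : Subgroup X) := hu
      rw [e', mem_bot] at this
      rw [this, orderOf_one] at hu2
      exact absurd hu2 (by norm_num)
    apply hP1
    rw [← card_eq_one, Sylow.card_eq_multiplicity, ← Sylow.card_eq_multiplicity B, e, card_bot]
  obtain ⟨k, hk⟩ := IsPGroup.iff_card.mp B.isPGroup'
  have hk0 : k ≠ 0 := fun e => hBne (card_eq_one.mp (by rw [hk, e, pow_zero]))
  obtain ⟨b, hb⟩ := exists_prime_orderOf_dvd_card' 2 (hk ▸ dvd_pow_self 2 hk0)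
  have hmove : ∀ w ∈ P, orderOf w = 2 → IsConj w (b : X) := fun w hw hw2 => by
    have hconj : IsConj w (g * w * g⁻¹) := isConj_iff.mpr ⟨g, rfl⟩
    refine hconj.trans (key _ _ ?_ b.2 ?_ (by rw [Subgroup.orderOf_coe]; exact hb))
    · rw [← hg]
      show g * w * g⁻¹ ∈ ((g • P : Sylow 2 X) : Subgroup X)
      exact ⟨w, hw, rfl⟩
    · rw [show g * w * g⁻¹ = MulAut.conj g w from rfl, MulEquiv.orderOf_eq, hw2]
  exact (hmove u hu hu2).trans (hmove v hv hv2).symm

end Cfsg.Agent.H52.DihSq
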