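import Cfsg.Agent.H52.DihSq.Four
import Cfsg.Agent.H52.Commuting.Product

/-!
A Sylow 2-subgroup which is a non-abelian product of two dihedral groups, in a group without normal
subgroup of index 2, has a factorization into two strongly closed dihedral factors.
-/

set_option autoImplicit false

namespace Cfsg.Agent.H52.DihSq

open Subgroup
open Cfsg.Agent

universe u

variable {G : Type u} [Group G] [Finite G] {S : Sylow 2 G}

theorem exists_pair (h2 : ∀ N : Subgroup G, N.Normal → N.index ≠ 2) (d : DD (S : Subgroup G))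
    (hk1 : 1 ≤ d.k1) :
    ∃ T₁ T₂ : Subgroup G, Cfsg.IsInternalDirectProduct T₁ T₂ (S : Subgroup G) ∧
      Cfsg.IsStronglyClosed T₁ (S : Subgroup G) ∧ Cfsg.IsStronglyClosed T₂ (S : Subgroup G) ∧
      Nonempty (d.D1 ≃* T₁) ∧ Nonempty (d.D2 ≃* T₂) := by
  classical
  obtain ⟨d1, e2, ek1, ek2, ⟨i1⟩, hst⟩ := exists_straight d h2 hk1
  have hk1' : 1 ≤ d1.k1 := by omega
  have hc1 := closed_left d1 h2 hk1' hst
  rcases Nat.eq_zero_or_pos d.k2 with hk2 | hk2
  · have hk2' : d1.k2 = 0 := by omega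
    obtain ⟨P, hPU, hPz, hPor, hPc⟩ := exists_complement h2 hk1' hk2' hst
    have hbU : ∀ b ∈ d1.D2, b ∈ U d1 := fun b hb =>
      ⟨d1.le2 hb, by rw [(d1.pr_of_mem2 hb).1]; exact one_mem _, d1.pr2_mem (d1.le2 hb)⟩
    have hzc : ∀ b ∈ d1.D2, d1.z1 * b = b * d1.z1 := fun b hb => d1.z1_comm (d1.le2 hb)
    have hpar : ∀ a ∈ d1.D2, ∀ b ∈ d1.D2, a * b ∈ P ↔ (a ∈ P ↔ b ∈ P) := by
      intro a ha b hb
      constructor
      · intro hab
        exact ⟨fun h => by simpa using mul_mem (inv_mem h) hab,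
          fun h => by simpa using mul_mem hab (inv_mem h)⟩
      · intro hiff
        by_cases h : a ∈ P
        · exact mul_mem h (hiff.mp h)
        · have h3 := (hPor a (hbU a ha)).resolve_left h
          have h4 := (hPor b (hbU b hb)).resolve_left (fun hc => h (hiff.mpr hc))
          have h5 := mul_mem h3 h4
          rwa [show a * d1.z1 * (b * d1.z1) = a * (d1.z1 * b) * d1.z1 by group, hzc b hb,
            show a * (b * d1.z1) * d1.z1 = a * b * (d1.z1 * d1.z1) by group, d1.dih1.z_mul_self,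
            mul_one] at h5
    have hT : d1.symm.TwistData (ind P d1.z1) := by
      refine ⟨fun a ha b hb => ind_mul d1.dih1.z_mul_self (hpar a ha b hb), fun a _ => ?_,
        fun a _ b hb => ?_⟩
      · show ind P d1.z1 a ∈ d1.D1
        rcases ind_cases P d1.z1 a with e | e <;> rw [e]
        exacts [one_mem _, d1.dih1.z_mem]
      · rcases ind_cases P d1.z1 a with e | e <;> rw [e]
        · simp
        · exact d1.z1_comm (d1.le1 hb)
    have heq : hT.sub = P := by
      ext x
      constructor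
      · rintro ⟨hxS, hx⟩
        rw [d1.pr2_symm hxS, d1.pr1_symm hxS] at hx
        have hb := d1.pr2_mem hxS
        rw [← d1.pr1_mul_pr2 x, hx]
        by_cases hc : d1.pr2 x ∈ P
        · rw [show ind P d1.z1 (d1.pr2 x) = 1 from if_pos hc, one_mul]; exact hc
        · rw [show ind P d1.z1 (d1.pr2 x) = d1.z1 from if_neg hc, hzc _ hb]
          exact (hPor _ (hbU _ hb)).resolve_left hc
      · intro hxP
        obtain ⟨hxS, hx1, -⟩ := hPU hxP
        refine ⟨hxS, ?_⟩
        rw [d1.pr2_symm hxS, d1.pr1_symm hxS]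
        rcases z1_zpowers d1 hx1 with e | e
        · have hb : d1.pr2 x ∈ P := by
            have h := d1.pr1_mul_pr2 x
            rw [e, one_mul] at h
            rwa [h]
          rw [e]; exact (if_pos hb).symm
        · have hb : d1.pr2 x ∉ P := fun hb => hPz (by
            rw [← e, show d1.pr1 x = x * (d1.pr2 x)⁻¹ by
              rw [eq_mul_inv_iff_mul_eq, d1.pr1_mul_pr2]]
            exact mul_mem hxP (inv_mem hb))
          rw [e]; exact (if_neg hb).symm
    refine ⟨d1.D1, hT.sub, hT.dd.symm.idp, hc1, (by rw [heq]; exact hPc), ⟨i1⟩, ⟨?_⟩⟩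
    exact (MulEquiv.subgroupCongr e2.symm).trans hT.equiv
  · obtain ⟨d2, f2, fk1, -, ⟨i2⟩, hst2⟩ := exists_straight d1.symm h2 (show 1 ≤ d1.k2 by omega)
    have hk : 1 ≤ d2.k1 := by
      rw [fk1]; show 1 ≤ d1.k2; omega
    have hc2 := closed_left d2 h2 hk hst2
    refine ⟨d1.D1, d2.D1, ?_, hc1, hc2, ⟨i1⟩, ⟨(MulEquiv.subgroupCongr e2.symm).trans i2⟩⟩
    have h := d2.symm.idp
    rwa [show d2.symm.D1 = d1.D1 from f2] at h

end Cfsg.Agent.H52.DihSq
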