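import Cfsg.Agent.H52.DihSq.Orbit

/-!
The orbit subgroups are natural for conjugations fixing one of the central involutions.
-/

set_option autoImplicit false

namespace Cfsg.Agent.H52.DihSq

open Subgroup
open Cfsg.Agent

universe u

variable {G : Type u} [Group G] [Finite G] {S : Sylow 2 G} {d : DD (S : Subgroup G)} {s t : G}

/-- `z` is moved by the normalizer of `A`. -/
def Active (A : Subgroup G) (z : G) : Prop := ∃ n ∈ normalizer (A : Set G), n * z * n⁻¹ ≠ z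

theorem W_eq_of_not_active {A : Subgroup G} {z : G} (h : ¬ Active A z) : W A z = zpowers z := by
  unfold Active at h
  push Not at h
  refine le_antisymm ((closure_le _).mpr ?_) (Subgroup.zpowers_le.mpr (self_mem_W A z))
  rintro w ⟨n, hn, rfl⟩
  rw [SetLike.mem_coe, h n hn]
  exact mem_zpowers z

namespace Frame

theorem orbit (h : Frame d s t) {n : G} (hn : n ∈ normalizer (d.E s t : Set G))
    (hne : n * d.z1 * n⁻¹ ≠ d.z1) :
    d.pr1 (n * d.z1 * n⁻¹) ∉ zpowers d.ρ1 ∧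
      (1 ≤ d.k2 → d.pr2 (n * d.z1 * n⁻¹) ∈ zpowers d.ρ2) ∧
      ∀ m ∈ normalizer (d.E s t : Set G), m * d.z1 * m⁻¹ = d.z1 ∨
        m * d.z1 * m⁻¹ = n * d.z1 * n⁻¹ ∨ m * d.z1 * m⁻¹ = d.z1 * (n * d.z1 * n⁻¹) := by
  set w := n * d.z1 * n⁻¹ with hw
  have hwE : w ∈ d.E s t := Coprime.conj_mem hn d.z1_mem_E
  have hXC : h.X ∈ h.C := ⟨1, by rw [map_one, one_mul, inv_one, mul_one]⟩
  set u := d.act s t ⟨n, hn⟩ * h.X * (d.act s t ⟨n, hn⟩)⁻¹ with hu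
  have huC : u ∈ h.C := ⟨⟨n, hn⟩, hu⟩
  have hup : IsTv u (d.act s t ⟨n, hn⟩ h.p1) := h.X_tv.conj _
  have hne' : h.X ≠ u := fun e => hne (by
    have := h.X_tv.unique (e ▸ hup : IsTv h.X _)
    exact (congrArg Subtype.val this).symm)
  have hm := h.tvClass.move hXC huC h.X_tv hup hne'
  have hxw : d.x1 * w * d.x1⁻¹ = w * d.z1 := congrArg Subtype.val hm
  have h1 : d.pr1 w ∉ zpowers d.ρ1 := fun hc => by
    rw [(d.conj_x1 hwE.1).1 hc, left_eq_mul] at hxw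
    exact d.dih1.z_ne_one hxw
  have horb : ∀ m ∈ normalizer (d.E s t : Set G), m * d.z1 * m⁻¹ = d.z1 ∨ m * d.z1 * m⁻¹ = w ∨
      m * d.z1 * m⁻¹ = d.z1 * w := by
    intro m hm'
    rcases h.tvClass.point_cases hXC huC ⟨⟨m, hm'⟩, rfl⟩ h.X_tv hup
      (h.X_tv.conj (d.act s t ⟨m, hm'⟩)) hne' with e | e | e
    · exact .inl (congrArg Subtype.val e)
    · exact .inr (.inl (congrArg Subtype.val e))
    · exact .inr (.inr (congrArg Subtype.val e))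
  refine ⟨h1, fun hk => by_contra fun hc => ?_, horb⟩
  have e : d.x2 * n * d.z1 * (d.x2 * n)⁻¹ = d.z2 * w := by
    show _ = zinv d.ρ2 d.k2 * w
    rw [← d.dih2.rot_sq hk]
    show _ = d.x2 * d.x2 * w
    rw [← (d.conj_x2 hwE.1).2 hc, hw]
    group
  rcases horb _ (mul_mem (d.x2_normalizes h.t_mem) hn) with e' | e' | e' <;> rw [e] at e'
  · refine h1 ?_
    have : w = d.z2 * d.z1 := by
      rw [← e', ← mul_assoc, d.dih2.z_mul_self, one_mul]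
    rw [this, ← d.comm d.dih1.z_mem d.dih2.z_mem, (d.pr_eq d.dih1.z_mem d.dih2.z_mem).1]
    exact Dih.z_mem_zpowers
  · exact d.dih2.z_ne_one (mul_eq_right.mp e')
  · exact d.z1_ne_z2 (mul_right_cancel e').symm

theorem z2_not_orbit (h : Frame d s t) {n : G} (hn : n ∈ normalizer (d.E s t : Set G)) :
    n * d.z1 * n⁻¹ ≠ d.z2 := by
  intro e
  by_cases hne : n * d.z1 * n⁻¹ = d.z1
  · exact d.z1_ne_z2 (hne.symm.trans e)
  · refine (h.orbit hn hne).1 ?_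
    rw [e, (d.pr_of_mem2 d.dih2.z_mem).1]
    exact one_mem _

theorem W_cases (h : Frame d s t) :
    ¬ Active (d.E s t) d.z1 ∨ ∃ w ∈ d.E s t, d.pr1 w ∉ zpowers d.ρ1 ∧
      (1 ≤ d.k2 → d.pr2 w ∈ zpowers d.ρ2) ∧ W (d.E s t) d.z1 = four d.z1 w ∧
      ∃ n ∈ normalizer (d.E s t : Set G), n * d.z1 * n⁻¹ = w := by
  by_cases ha : Active (d.E s t) d.z1
  · obtain ⟨n, hn, hne⟩ := ha
    obtain ⟨h1, h2, h3⟩ := h.orbit hn hne
    refine .inr ⟨_, Coprime.conj_mem hn d.z1_mem_E, h1, h2, ?_, n, hn, rfl⟩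
    refine le_antisymm ((closure_le _).mpr ?_) (four_le (self_mem_W _ _) (mem_W hn))
    rintro w ⟨m, hm, rfl⟩
    rcases h3 m hm with e | e | e <;> rw [SetLike.mem_coe, e]
    exacts [left_mem_four _ _, right_mem_four _ _, mul_mem (left_mem_four _ _) (right_mem_four _ _)]
  · exact .inl ha

theorem fix_class (h : Frame d s t) {n : G} (hn : n ∈ normalizer (d.E s t : Set G))
    (hz : n * d.z1 * n⁻¹ = d.z1) {e : G} (he : e ∈ d.E s t) :
    d.x1 * e * d.x1⁻¹ = e → d.x1 * (n * e * n⁻¹) * d.x1⁻¹ = n * e * n⁻¹ := by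
  intro hfix
  have hXC : h.X ∈ h.C := ⟨1, by rw [map_one, one_mul, inv_one, mul_one]⟩
  have hp : d.act s t ⟨n, hn⟩ h.p1 = h.p1 := Subtype.ext hz
  have hu : d.act s t ⟨n, hn⟩ * h.X * (d.act s t ⟨n, hn⟩)⁻¹ = h.X := by
    refine h.tvClass.eq_of_point (p := h.p1) ⟨_, rfl⟩ hXC ?_ h.X_tv
    have := h.X_tv.conj (d.act s t ⟨n, hn⟩)
    rwa [hp] at this
  have h2 : d.act s t ⟨n, hn⟩ (h.X ⟨e, he⟩) = h.X (d.act s t ⟨n, hn⟩ ⟨e, he⟩) := by
    conv_rhs => rw [← hu]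
    simp
  have h3 : n * (d.x1 * e * d.x1⁻¹) * n⁻¹ = d.x1 * (n * e * n⁻¹) * d.x1⁻¹ := congrArg Subtype.val h2
  rw [← h3, hfix]

variable {s' t' : G}

theorem transport {g : G} (hg : ∀ a, a ∈ d.E s t ↔ g * a * g⁻¹ ∈ d.E s' t')
    {m : normalizer (d.E s t : Set G)} {p : d.E s t} (hp : IsTv (d.act s t m) p) :
    IsTv (d.act s' t' ⟨g * m * g⁻¹, conj_mem_normalizer hg m.2⟩)
      ⟨g * p * g⁻¹, (hg p).mp p.2⟩ := by
  have key : ∀ a : d.E s' t', g⁻¹ * a * g ∈ d.E s t := fun a => by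
    rw [hg, show g * (g⁻¹ * (a : G) * g) * g⁻¹ = a by group]; exact a.2
  refine ⟨fun e => hp.ne (Subtype.ext (by simpa using congrArg Subtype.val e)), Subtype.ext ?_,
    fun a => ?_, ?_⟩
  · show g * m * g⁻¹ * (g * p * g⁻¹) * (g * m * g⁻¹)⁻¹ = g * p * g⁻¹
    have := congrArg Subtype.val hp.fix
    rw [DD.act_apply] at this
    conv_rhs => rw [← this]
    group
  · rcases hp.disp ⟨_, key a⟩ with e | e
    · refine .inl (Subtype.ext ?_)
      have := congrArg Subtype.val e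
      rw [DD.act_apply] at this
      show g * m * g⁻¹ * a * (g * m * g⁻¹)⁻¹ = a
      calc g * m * g⁻¹ * a * (g * m * g⁻¹)⁻¹ = g * (m * (g⁻¹ * a * g) * (m : G)⁻¹) * g⁻¹ := by group
        _ = a := by rw [this]; group
    · refine .inr (Subtype.ext ?_)
      have := congrArg Subtype.val e
      rw [DD.act_apply, Subgroup.coe_mul] at this
      show g * m * g⁻¹ * a * (g * m * g⁻¹)⁻¹ = a * (g * p * g⁻¹)
      calc g * m * g⁻¹ * a * (g * m * g⁻¹)⁻¹ = g * (m * (g⁻¹ * a * g) * (m : G)⁻¹) * g⁻¹ := by group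
        _ = _ := by rw [this]; group
  · obtain ⟨a, ha⟩ := hp.moves
    refine ⟨⟨g * a * g⁻¹, (hg a).mp a.2⟩, fun e => ha (Subtype.ext ?_)⟩
    have e' : g * m * g⁻¹ * (g * a * g⁻¹) * (g * m * g⁻¹)⁻¹ = g * a * g⁻¹ := congrArg Subtype.val e
    rw [DD.act_apply]
    calc (m : G) * a * (m : G)⁻¹
        = g⁻¹ * (g * m * g⁻¹ * (g * a * g⁻¹) * (g * m * g⁻¹)⁻¹) * g := by group
      _ = a := by rw [e']; group

theorem isPGroup_conj {g x : G} (hx : x ∈ (S : Subgroup G)) {N : Subgroup G}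
    (hN : g * x * g⁻¹ ∈ N) : IsPGroup 2 (zpowers (⟨g * x * g⁻¹, hN⟩ : N)) := by
  obtain ⟨j, hj⟩ := S.isPGroup' ⟨x, hx⟩
  haveI : Fact (Nat.Prime 2) := ⟨Nat.prime_two⟩
  have hd : orderOf (⟨g * x * g⁻¹, hN⟩ : N) ∣ 2 ^ j := orderOf_dvd_of_pow_eq_one (Subtype.ext (by
    rw [SubmonoidClass.coe_pow, conj_pow,
      show x ^ 2 ^ j = 1 from congrArg Subtype.val hj]; simp))
  obtain ⟨i, -, hi⟩ := (Nat.dvd_prime_pow Nat.prime_two).mp hd
  exact IsPGroup.of_card (n := i) (by rw [Nat.card_zpowers, hi])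

/-- A conjugation fixing a central involution maps the orbit of `z₁` to that of `z₁`. -/
theorem natural (h : Frame d s t) (h' : Frame d s' t') {g : G}
    (hg : ∀ a, a ∈ d.E s t ↔ g * a * g⁻¹ ∈ d.E s' t')
    (hgood : d.k2 = 0 ∨ g * d.z1 * g⁻¹ = d.z1 ∨ g * d.z2 * g⁻¹ = d.z2) :
    ∃ n ∈ normalizer (d.E s' t' : Set G), g * d.z1 * g⁻¹ = n * d.z1 * n⁻¹ := by
  obtain ⟨c, hc, hc'⟩ := h'.exists_point _ (isPGroup_conj (d.le1 d.x1_mem) _)
    (transport hg (m := h.nx) h.X_tv)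
  rcases hc' with e | ⟨hk, e⟩
  · change c * (g * d.z1 * g⁻¹) * c⁻¹ = d.z1 at e
    refine ⟨c⁻¹, inv_mem hc, ?_⟩
    conv_rhs => rw [← e]
    group
  · change c * (g * d.z1 * g⁻¹) * c⁻¹ = d.z2 at e
    exfalso
    rcases hgood with e0 | e0 | e0
    · omega
    · rw [e0] at e
      exact h'.z2_not_orbit hc e
    · obtain ⟨c', hc2, hc2'⟩ := h'.exists_point _ (isPGroup_conj (d.le2 d.x2_mem) _)
        (transport hg (m := h.ny) (h.Y_tv hk))
      rcases hc2' with e2 | ⟨-, e2⟩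
      · change c' * (g * d.z2 * g⁻¹) * c'⁻¹ = d.z1 at e2
        rw [e0] at e2
        refine h'.z2_not_orbit (inv_mem hc2) ?_
        rw [← e2]
        group
      · change c' * (g * d.z2 * g⁻¹) * c'⁻¹ = d.z2 at e2
        have hm : g⁻¹ * (c'⁻¹ * c) * g⁻¹⁻¹ ∈ normalizer (d.E s t : Set G) :=
          conj_mem_normalizer (conj_iff_symm hg) (mul_mem (inv_mem hc2) hc)
        refine h.z2_not_orbit hm ?_
        calc g⁻¹ * (c'⁻¹ * c) * g⁻¹⁻¹ * d.z1 * (g⁻¹ * (c'⁻¹ * c) * g⁻¹⁻¹)⁻¹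
            = g⁻¹ * (c'⁻¹ * (c * (g * d.z1 * g⁻¹) * c⁻¹) * c') * g := by group
          _ = g⁻¹ * (c'⁻¹ * d.z2 * c') * g := by rw [e]
          _ = g⁻¹ * (c'⁻¹ * (c' * (g * d.z2 * g⁻¹) * c'⁻¹) * c') * g := by rw [e2]
          _ = d.z2 := by group

theorem W_map (h : Frame d s t) (h' : Frame d s' t') {g : G}
    (hg : ∀ a, a ∈ d.E s t ↔ g * a * g⁻¹ ∈ d.E s' t')
    (hgood : d.k2 = 0 ∨ g * d.z1 * g⁻¹ = d.z1 ∨ g * d.z2 * g⁻¹ = d.z2)
    {x : G} (hx : x ∈ W (d.E s t) d.z1) : g * x * g⁻¹ ∈ W (d.E s' t') d.z1 := by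
  obtain ⟨n, hn, e⟩ := h.natural h' hg hgood
  exact conj_mem_W hg hn e hx

end Frame

end Cfsg.Agent.H52.DihSq
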