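import Cfsg.Agent.H52.DihSq.Classes

/-!
The action of the normalizer of an elementary subgroup of order 16: the orbit of a central involution
and its naturality.
-/

set_option autoImplicit false

namespace Cfsg.Agent.H52.DihSq

open Subgroup
open Cfsg.Agent

universe u

variable {G : Type u} [Group G] [Finite G] {S : Sylow 2 G} (d : DD (S : Subgroup G))

/-- The hypotheses on the reflections defining `E`, the first factor being non-abelian. -/
structure Frame (s t : G) : Prop where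
  k1 : 1 ≤ d.k1
  s_mem : s ∈ d.D1
  s_refl : s ∉ zpowers d.ρ1
  t_mem : t ∈ d.D2
  t_refl : t ∉ zpowers d.ρ2

variable {d} {s t : G}

namespace Frame

/-- The first outer rotation in the normalizer. -/
def nx (h : Frame d s t) : normalizer (d.E s t : Set G) := ⟨d.x1, d.x1_normalizes h.s_mem⟩

/-- The second outer rotation in the normalizer. -/
def ny (h : Frame d s t) : normalizer (d.E s t : Set G) := ⟨d.x2, d.x2_normalizes h.t_mem⟩

/-- The action of the first outer rotation. -/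
noncomputable def X (h : Frame d s t) : MulAut (d.E s t) := d.act s t h.nx

/-- The action of the second outer rotation. -/
noncomputable def Y (h : Frame d s t) : MulAut (d.E s t) := d.act s t h.ny

/-- The point of the first rotation. -/
def p1 (_h : Frame d s t) : d.E s t := ⟨d.z1, d.z1_mem_E⟩

/-- The point of the second rotation. -/
def p2 (_h : Frame d s t) : d.E s t := ⟨d.z2, d.z2_mem_E⟩

theorem X_apply (h : Frame d s t) (a : d.E s t) : (h.X a : G) = d.x1 * a * d.x1⁻¹ := rfl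

theorem Y_apply (h : Frame d s t) (a : d.E s t) : (h.Y a : G) = d.x2 * a * d.x2⁻¹ := rfl

theorem X_tv (h : Frame d s t) : IsTv h.X h.p1 where
  ne e := d.dih1.z_ne_one (congrArg Subtype.val e)
  fix := Subtype.ext ((d.conj_x1 (d.le1 d.dih1.z_mem)).1 (by
    rw [(d.pr_of_mem1 d.dih1.z_mem).1]; exact Dih.z_mem_zpowers))
  disp a := by
    by_cases ha : d.pr1 (a : G) ∈ zpowers d.ρ1
    · exact .inl (Subtype.ext ((d.conj_x1 a.2.1).1 ha))
    · refine .inr (Subtype.ext ?_)
      rw [X_apply, (d.conj_x1 a.2.1).2 ha, DD.x1, d.dih1.rot_sq h.k1]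
      exact d.z1_comm a.2.1
  moves := by
    refine ⟨⟨s, d.s_mem_E h.s_mem⟩, fun e => ?_⟩
    have e' : d.x1 * s * d.x1⁻¹ = s := congrArg Subtype.val e
    rw [DD.x1, d.dih1.rot_conj h.k1 h.s_mem h.s_refl, mul_eq_right] at e'
    exact d.dih1.z_ne_one e'

theorem Y_tv (h : Frame d s t) (hk : 1 ≤ d.k2) : IsTv h.Y h.p2 where
  ne e := d.dih2.z_ne_one (congrArg Subtype.val e)
  fix := Subtype.ext ((d.conj_x2 (d.le2 d.dih2.z_mem)).1 (by
    rw [(d.pr_of_mem2 d.dih2.z_mem).2]; exact Dih.z_mem_zpowers))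
  disp a := by
    by_cases ha : d.pr2 (a : G) ∈ zpowers d.ρ2
    · exact .inl (Subtype.ext ((d.conj_x2 a.2.1).1 ha))
    · refine .inr (Subtype.ext ?_)
      rw [Y_apply, (d.conj_x2 a.2.1).2 ha, DD.x2, d.dih2.rot_sq hk]
      exact d.z2_comm a.2.1
  moves := by
    refine ⟨⟨t, d.t_mem_E h.t_mem⟩, fun e => ?_⟩
    have e' : d.x2 * t * d.x2⁻¹ = t := congrArg Subtype.val e
    rw [DD.x2, d.dih2.rot_conj hk h.t_mem h.t_refl, mul_eq_right] at e'
    exact d.dih2.z_ne_one e'

theorem Y_eq_one (h : Frame d s t) (hk : d.k2 = 0) : h.Y = 1 := by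
  refine MulEquiv.ext fun a => Subtype.ext ?_
  show d.x2 * (a : G) * d.x2⁻¹ = a
  have e : d.x2 = d.z2 := by rw [DD.x2, DD.z2, hk, Dih.rot_zero]
  rw [e, d.z2_comm a.2.1, mul_assoc, mul_inv_cancel, mul_one]

theorem XY_comm (h : Frame d s t) : h.X * h.Y = h.Y * h.X := by
  rw [X, Y, ← map_mul, ← map_mul]
  exact congrArg _ (Subtype.ext (d.comm d.x1_mem d.x2_mem))

theorem X_sq (h : Frame d s t) : h.X * h.X = 1 := by
  refine MulEquiv.ext fun a => Subtype.ext ?_
  show d.x1 * (d.x1 * (a : G) * d.x1⁻¹) * d.x1⁻¹ = a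
  calc d.x1 * (d.x1 * (a : G) * d.x1⁻¹) * d.x1⁻¹
      = d.x1 * d.x1 * a * (d.x1 * d.x1)⁻¹ := by group
    _ = a := by
      rw [DD.x1, d.dih1.rot_sq h.k1, d.z1_comm a.2.1, mul_assoc, mul_inv_cancel, mul_one]

theorem XY_not_tv (h : Frame d s t) (hk : 1 ≤ d.k2) (p : d.E s t) : ¬ IsTv (h.X * h.Y) p := by
  intro hp
  have hS : ((h.X * h.Y) ⟨s, d.s_mem_E h.s_mem⟩ : G) = d.z1 * s := by
    show d.x1 * (d.x2 * s * d.x2⁻¹) * d.x1⁻¹ = _
    rw [(d.conj_x2 (d.le1 h.s_mem)).1 (by rw [(d.pr_of_mem1 h.s_mem).2]; exact one_mem _),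
      DD.x1, d.dih1.rot_conj h.k1 h.s_mem h.s_refl]
  have hT : ((h.X * h.Y) ⟨t, d.t_mem_E h.t_mem⟩ : G) = d.z2 * t := by
    show d.x1 * (d.x2 * t * d.x2⁻¹) * d.x1⁻¹ = _
    rw [DD.x2, d.dih2.rot_conj hk h.t_mem h.t_refl,
      (d.conj_x1 (d.le2 (mul_mem d.dih2.z_mem h.t_mem))).1 (by
        rw [(d.pr_of_mem2 (mul_mem d.dih2.z_mem h.t_mem)).1]; exact one_mem _)]
  have h1 : (p : G) = d.z1 := by
    rcases hp.disp ⟨s, d.s_mem_E h.s_mem⟩ with e | e
    · exfalso
      have e' := congrArg Subtype.val e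
      rw [hS] at e'
      exact d.dih1.z_ne_one (mul_eq_right.mp e')
    · have e' : ((h.X * h.Y) ⟨s, d.s_mem_E h.s_mem⟩ : G) = s * p := congrArg Subtype.val e
      rw [hS, d.z1_comm (d.le1 h.s_mem)] at e'
      exact (mul_left_cancel e').symm
  have h2 : (p : G) = d.z2 := by
    rcases hp.disp ⟨t, d.t_mem_E h.t_mem⟩ with e | e
    · exfalso
      have e' := congrArg Subtype.val e
      rw [hT] at e'
      exact d.dih2.z_ne_one (mul_eq_right.mp e')
    · have e' : ((h.X * h.Y) ⟨t, d.t_mem_E h.t_mem⟩ : G) = t * p := congrArg Subtype.val e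
      rw [hT, d.z2_comm (d.le2 h.t_mem)] at e'
      exact (mul_left_cancel e').symm
  exact d.z1_ne_z2 (h1.symm.trans h2)

theorem act_cases (h : Frame d s t) (n : normalizer (d.E s t : Set G))
    (hn : (n : G) ∈ (S : Subgroup G)) :
    d.act s t n = 1 ∨ d.act s t n = h.X ∨ d.act s t n = h.Y ∨ d.act s t n = h.X * h.Y := by
  have hmap : ∀ a, a ∈ d.E s t →
      d.pr1 ((n : G) * a * (n : G)⁻¹) = d.pr1 n * d.pr1 a * (d.pr1 n)⁻¹ ∧
      d.pr2 ((n : G) * a * (n : G)⁻¹) = d.pr2 n * d.pr2 a * (d.pr2 n)⁻¹ := fun a ha => by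
    rw [d.pr1_hom (mul_mem hn ha.1) (inv_mem hn), d.pr1_hom hn ha.1, (d.pr_inv hn).1,
      d.pr2_hom (mul_mem hn ha.1) (inv_mem hn), d.pr2_hom hn ha.1, (d.pr_inv hn).2]
    exact ⟨rfl, rfl⟩
  have hs1 : d.pr1 n * s * (d.pr1 n)⁻¹ ∈ four d.z1 s := by
    have hc : (n : G) * s * (n : G)⁻¹ ∈ d.E s t := Coprime.conj_mem n.2 (d.s_mem_E h.s_mem)
    have := hc.2.1
    rwa [(hmap s (d.s_mem_E h.s_mem)).1, (d.pr_of_mem1 h.s_mem).1] at this
  have ht1 : d.pr2 n * t * (d.pr2 n)⁻¹ ∈ four d.z2 t := by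
    have hc : (n : G) * t * (n : G)⁻¹ ∈ d.E s t := Coprime.conj_mem n.2 (d.t_mem_E h.t_mem)
    have := hc.2.2
    rwa [(hmap t (d.t_mem_E h.t_mem)).2, (d.pr_of_mem2 h.t_mem).2] at this
  have key : ∀ (a b : G) (m : normalizer (d.E s t : Set G)), (m : G) = a * b → a ∈ d.D1 → b ∈ d.D2 →
      (∀ v ∈ four d.z1 s, d.pr1 n * v * (d.pr1 n)⁻¹ = a * v * a⁻¹) →
      (∀ v ∈ four d.z2 t, d.pr2 n * v * (d.pr2 n)⁻¹ = b * v * b⁻¹) →
      d.act s t n = d.act s t m := by
    intro a b m hm ha hb h1 h2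
    rw [d.act_eq_iff]
    intro e he
    have hmS : (m : G) ∈ (S : Subgroup G) := hm ▸ mul_mem (d.le1 ha) (d.le2 hb)
    have hme : ∀ a', a' ∈ d.E s t → d.pr1 ((m : G) * a' * (m : G)⁻¹) = a * d.pr1 a' * a⁻¹ ∧
        d.pr2 ((m : G) * a' * (m : G)⁻¹) = b * d.pr2 a' * b⁻¹ := fun a' ha' => by
      rw [d.pr1_hom (mul_mem hmS ha'.1) (inv_mem hmS), d.pr1_hom hmS ha'.1, (d.pr_inv hmS).1,
        d.pr2_hom (mul_mem hmS ha'.1) (inv_mem hmS), d.pr2_hom hmS ha'.1, (d.pr_inv hmS).2,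
        hm, (d.pr_eq ha hb).1, (d.pr_eq ha hb).2]
      exact ⟨rfl, rfl⟩
    exact d.ext (by rw [(hmap e he).1, (hme e he).1, h1 _ he.2.1])
      (by rw [(hmap e he).2, (hme e he).2, h2 _ he.2.2])
  rcases d.dih1.act_four h.s_mem h.s_refl (d.pr1_mem hn) hs1 with h1 | h1 <;>
    rcases d.dih2.act_four h.t_mem h.t_refl (d.pr2_mem hn) ht1 with h2 | h2
  · left
    rw [key 1 1 1 (by simp) (one_mem _) (one_mem _) (by simpa using h1) (by simpa using h2), map_one]
  · exact .inr (.inr (.inl (key 1 d.x2 h.ny (by simp [ny]) (one_mem _) d.x2_mem (by simpa using h1) h2)))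
  · exact .inr (.inl (key d.x1 1 h.nx (by simp [nx]) d.x1_mem (one_mem _) h1 (by simpa using h2)))
  · refine .inr (.inr (.inr ?_))
    rw [key d.x1 d.x2 (h.nx * h.ny) rfl d.x1_mem d.x2_mem h1 h2, map_mul]
    rfl

/-- The part of `S` in the normalizer. -/
def P0 (_h : Frame d s t) : Subgroup (normalizer (d.E s t : Set G)) :=
  (S : Subgroup G).subgroupOf (normalizer (d.E s t : Set G))

theorem map_P0 (h : Frame d s t) (v : MulAut (d.E s t)) :
    v ∈ h.P0.map (d.act s t) ↔ v = 1 ∨ v = h.X ∨ v = h.Y ∨ v = h.X * h.Y := by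
  constructor
  · rintro ⟨n, hn, rfl⟩
    exact h.act_cases n hn
  · rintro (rfl | rfl | rfl | rfl)
    · exact one_mem _
    · exact ⟨h.nx, d.le1 d.x1_mem, rfl⟩
    · exact ⟨h.ny, d.le2 d.x2_mem, rfl⟩
    · exact mul_mem (show h.X ∈ _ from ⟨h.nx, d.le1 d.x1_mem, rfl⟩)
        (show h.Y ∈ _ from ⟨h.ny, d.le2 d.x2_mem, rfl⟩)

theorem card_map_P0 (h : Frame d s t) :
    Nat.card (h.P0.map (d.act s t)) = if d.k2 = 0 then 2 else 4 := by
  classical
  have hX1 : h.X ≠ 1 := fun e => by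
    obtain ⟨a, ha⟩ := h.X_tv.moves
    exact ha (by rw [e]; rfl)
  have hset : ((h.P0.map (d.act s t) : Subgroup _) : Set (MulAut (d.E s t))) =
      (({1, h.X, h.Y, h.X * h.Y} : Finset (MulAut (d.E s t))) : Set (MulAut (d.E s t))) := by
    ext v
    rw [SetLike.mem_coe, h.map_P0]
    simp
  calc Nat.card (h.P0.map (d.act s t))
      = ((h.P0.map (d.act s t) : Subgroup _) : Set (MulAut (d.E s t))).ncard := Nat.card_coe_set_eq _
    _ = ({1, h.X, h.Y, h.X * h.Y} : Finset (MulAut (d.E s t))).card := by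
        rw [hset, Set.ncard_coe_finset]
    _ = _ := by
      split_ifs with hk
      · rw [show ({1, h.X, h.Y, h.X * h.Y} : Finset (MulAut (d.E s t))) = {1, h.X} by
          ext v; simp [h.Y_eq_one hk], Finset.card_pair hX1.symm]
      · have hk' : 1 ≤ d.k2 := by omega
        have hY1 : h.Y ≠ 1 := fun e => by
          obtain ⟨a, ha⟩ := (h.Y_tv hk').moves
          exact ha (by rw [e]; rfl)
        have hXY : h.X ≠ h.Y := fun e => by
          have := h.X_tv.unique (e ▸ h.Y_tv hk')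
          exact d.z1_ne_z2 (congrArg Subtype.val this)
        have h1 : h.X * h.Y ≠ 1 := fun e => hXY (mul_left_cancel (h.X_sq.trans e.symm))
        have h2 : h.X * h.Y ≠ h.X := fun e => hY1 (mul_eq_left.mp e)
        have h3 : h.X * h.Y ≠ h.Y := fun e => hX1 (mul_eq_right.mp e)
        rw [Finset.card_insert_of_notMem (by simp [hX1.symm, hY1.symm, h1.symm]),
          Finset.card_insert_of_notMem (by simp [hXY, h2.symm]),
          Finset.card_insert_of_notMem (by simp [h3.symm]), Finset.card_singleton]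

theorem card_P0 (h : Frame d s t) : Nat.card h.P0 = 16 * if d.k2 = 0 then 2 else 4 := by
  classical
  let f : h.P0 →* MulAut (d.E s t) := (d.act s t).comp h.P0.subtype
  have hr : f.range = h.P0.map (d.act s t) := by simp [f, MonoidHom.range_comp]
  have hk : Nat.card f.ker = 16 := by
    rw [← (d.E_elem h.s_mem h.s_refl h.t_mem h.t_refl).card]
    have hone : ∀ (n : normalizer (d.E s t : Set G)), (n : G) ∈ d.E s t → d.act s t n = 1 := by
      intro n hn
      refine MulEquiv.ext fun a => Subtype.ext ?_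
      show (n : G) * a * (n : G)⁻¹ = a
      rw [d.E_comm h.s_mem h.s_refl h.t_mem h.t_refl hn a.2, mul_assoc, mul_inv_cancel, mul_one]
    refine Nat.card_congr
      { toFun := fun n => ⟨((n : h.P0) : normalizer (d.E s t : Set G)), ?_⟩
        invFun := fun e => ⟨⟨⟨e, le_normalizer e.2⟩, e.2.1⟩, hone _ e.2⟩
        left_inv := fun n => rfl
        right_inv := fun e => rfl }
    set m : G := (((n : h.P0) : normalizer (d.E s t : Set G)) : G) with hm
    have hmS : m ∈ (S : Subgroup G) := (n : h.P0).2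
    have hc : ∀ a ∈ d.E s t, m * a = a * m := fun a ha => by
      have := congrArg Subtype.val (DFunLike.congr_fun (show f n = 1 from n.2) ⟨a, ha⟩)
      exact mul_inv_eq_iff_eq_mul.mp this
    refine ⟨hmS, ?_, ?_⟩
    · have h1 := ((d.commute_iff hmS (d.le1 h.s_mem)).mp (hc s (d.s_mem_E h.s_mem))).1
      rw [(d.pr_of_mem1 h.s_mem).1] at h1
      exact d.dih1.mem_four_of_comm h.s_mem h.s_refl (d.pr1_mem hmS) h1
    · have h1 := ((d.commute_iff hmS (d.le2 h.t_mem)).mp (hc t (d.t_mem_E h.t_mem))).2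
      rw [(d.pr_of_mem2 h.t_mem).2] at h1
      exact d.dih2.mem_four_of_comm h.t_mem h.t_refl (d.pr2_mem hmS) h1
  rw [← Subgroup.card_mul_index f.ker, Subgroup.index_ker, hk, hr, h.card_map_P0]

theorem exists_sylow (h : Frame d s t) :
    ∃ P : Sylow 2 (normalizer (d.E s t : Set G)), (P : Subgroup _) = h.P0 := by
  haveI : Fact (Nat.Prime 2) := ⟨Nat.prime_two⟩
  set N := normalizer (d.E s t : Set G) with hN
  have hp : IsPGroup 2 h.P0 := S.isPGroup'.comap_of_injective N.subtype N.subtype_injective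
  obtain ⟨P, hP⟩ := hp.exists_le_sylow
  refine ⟨P, (H48.eq_of_le_of_card_le hP ?_).symm⟩
  have hEP : (d.E s t).subgroupOf N ≤ (P : Subgroup N) := fun e he => hP (show (e : G) ∈ _ from he.1)
  have hPG : IsPGroup 2 ((P : Subgroup N).map N.subtype) := P.isPGroup'.map _
  obtain ⟨x, -, hx⟩ := (H48.isSylowIn_sylow S).exists_cj_le hPG le_top
  have hxP : ∀ m : N, m ∈ (P : Subgroup N) → x * m * x⁻¹ ∈ (S : Subgroup G) :=
    fun m hm => H48.cj_le.mp hx m ⟨m, hm, rfl⟩
  have hA : Elem16 (S : Subgroup G) ((d.E s t).map (MulAut.conj x).toMonoidHom) :=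
    (d.E_elem h.s_mem h.s_refl h.t_mem h.t_refl).map fun a ha =>
      hxP ⟨a, le_normalizer ha⟩ (hEP (show a ∈ d.E s t from ha))
  obtain ⟨s', hs, hs', t', ht, ht', e⟩ := d.E_eq_of_elem hA
  have h' : Frame d s' t' := ⟨h.k1, hs, hs', ht, ht'⟩
  have hconj : ∀ a, a ∈ d.E s t ↔ x * a * x⁻¹ ∈ d.E s' t' := fun a => e ▸ mem_map_conj_iff
  have hle : Nat.card (P : Subgroup N) ≤ Nat.card h'.P0 :=
    Nat.card_le_card_of_injective
      (fun m => (⟨⟨x * ((m : N) : G) * x⁻¹, conj_mem_normalizer hconj (m : N).2⟩, hxP m m.2⟩ : h'.P0))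
      (fun m m' he => Subtype.ext (Subtype.ext (by
        have := congrArg (fun q : h'.P0 => ((q : normalizer (d.E s' t' : Set G)) : G)) he
        simpa using this)))
  rw [h'.card_P0, ← h.card_P0] at hle
  exact hle

/-- Up to conjugacy a transvection induced by a 2-element is one of the rotations. -/
theorem exists_act_eq (h : Frame d s t) (n : normalizer (d.E s t : Set G))
    (hn : IsPGroup 2 (zpowers n)) :
    ∃ c : normalizer (d.E s t : Set G),
      d.act s t (c * n * c⁻¹) = 1 ∨ d.act s t (c * n * c⁻¹) = h.X ∨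
      d.act s t (c * n * c⁻¹) = h.Y ∨ d.act s t (c * n * c⁻¹) = h.X * h.Y := by
  haveI : Fact (Nat.Prime 2) := ⟨Nat.prime_two⟩
  obtain ⟨P, hP⟩ := h.exists_sylow
  obtain ⟨Q, hQ⟩ := hn.exists_le_sylow
  obtain ⟨c, hc⟩ := MulAction.exists_smul_eq (normalizer (d.E s t : Set G)) Q P
  refine ⟨c, (h.map_P0 _).mp ⟨c * n * c⁻¹, ?_, rfl⟩⟩
  have : c * n * c⁻¹ ∈ (P : Subgroup _) := by
    rw [← hc]; exact ⟨n, hQ (mem_zpowers n), rfl⟩
  rwa [hP] at this

theorem point_conj (h : Frame d s t) {n c : normalizer (d.E s t : Set G)} {p : d.E s t}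
    (hp : IsTv (d.act s t n) p) : IsTv (d.act s t (c * n * c⁻¹)) (d.act s t c p) := by
  have := h
  simpa [map_mul, map_inv] using hp.conj (d.act s t c)

/-- The point of a transvection induced by a 2-element is conjugate to a rotation's point. -/
theorem exists_point (h : Frame d s t) (n : normalizer (d.E s t : Set G))
    (hn : IsPGroup 2 (zpowers n)) {p : d.E s t} (hp : IsTv (d.act s t n) p) :
    ∃ c ∈ normalizer (d.E s t : Set G),
      c * (p : G) * c⁻¹ = d.z1 ∨ (1 ≤ d.k2 ∧ c * (p : G) * c⁻¹ = d.z2) := by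
  obtain ⟨c, hc⟩ := h.exists_act_eq n hn
  have hq := h.point_conj (c := c) hp
  refine ⟨c, c.2, ?_⟩
  have hone : ∀ q : d.E s t, ¬ IsTv (1 : MulAut (d.E s t)) q := fun q hq => by
    obtain ⟨a, ha⟩ := hq.moves
    exact ha rfl
  rcases hc with e | e | e | e <;> rw [e] at hq
  · exact (hone _ hq).elim
  · exact .inl (congrArg Subtype.val (hq.unique h.X_tv))
  · rcases Nat.eq_zero_or_pos d.k2 with hk | hk
    · rw [h.Y_eq_one hk] at hq
      exact (hone _ hq).elim
    · exact .inr ⟨hk, congrArg Subtype.val (hq.unique (h.Y_tv hk))⟩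
  · rcases Nat.eq_zero_or_pos d.k2 with hk | hk
    · rw [h.Y_eq_one hk, mul_one] at hq
      exact .inl (congrArg Subtype.val (hq.unique h.X_tv))
    · exact (h.XY_not_tv hk _ hq).elim

theorem eq_X_of_conj (h : Frame d s t) (c : normalizer (d.E s t : Set G)) {v : MulAut (d.E s t)}
    (hv : v = d.act s t c * h.X * (d.act s t c)⁻¹)
    (hP : v = 1 ∨ v = h.X ∨ v = h.Y ∨ v = h.X * h.Y) : v = h.X := by
  classical
  haveI : Fact (Nat.Prime 2) := ⟨Nat.prime_two⟩
  have hvtv : IsTv v (d.act s t c h.p1) := hv ▸ h.X_tv.conj _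
  have hone : v ≠ 1 := fun e => by
    obtain ⟨a, ha⟩ := hvtv.moves
    exact ha (by rw [e]; rfl)
  rcases Nat.eq_zero_or_pos d.k2 with hk | hk
  · rcases hP with e | e | e | e
    · exact absurd e hone
    · exact e
    · exact absurd (e.trans (h.Y_eq_one hk)) hone
    · rw [e, h.Y_eq_one hk, mul_one]
  rcases hP with e | e | e | e
  · exact absurd e hone
  · exact e
  swap
  · exact (h.XY_not_tv hk _ (e ▸ hvtv)).elim
  exfalso
  obtain ⟨P, hP⟩ := h.exists_sylow
  let Rp := P.mapSurjective (d.act s t).rangeRestrict_surjective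
  have hmem : ∀ q : (d.act s t).range, q ∈ Rp ↔
      (q : MulAut (d.E s t)) = 1 ∨ (q : MulAut (d.E s t)) = h.X ∨
      (q : MulAut (d.E s t)) = h.Y ∨ (q : MulAut (d.E s t)) = h.X * h.Y := by
    intro q
    rw [← h.map_P0]
    show q ∈ (P : Subgroup _).map (d.act s t).rangeRestrict ↔ _
    rw [hP]
    constructor
    · rintro ⟨n, hn, rfl⟩; exact ⟨n, hn, rfl⟩
    · rintro ⟨n, hn, e⟩; exact ⟨n, hn, Subtype.ext e⟩
  haveI : IsMulCommutative (Rp : Subgroup (d.act s t).range) := ⟨⟨fun a b => Subtype.ext (Subtype.ext (by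
    show (a : (d.act s t).range).1 * (b : (d.act s t).range).1 =
      (b : (d.act s t).range).1 * (a : (d.act s t).range).1
    have hc := h.XY_comm
    have hXc : ∀ w, (w = 1 ∨ w = h.X ∨ w = h.Y ∨ w = h.X * h.Y) → Commute h.X w ∧ Commute h.Y w := by
      rintro w (rfl | rfl | rfl | rfl)
      · exact ⟨Commute.one_right _, Commute.one_right _⟩
      · exact ⟨Commute.refl _, hc.symm⟩
      · exact ⟨hc, Commute.refl _⟩
      · exact ⟨(Commute.refl h.X).mul_right hc,
          (show Commute h.Y h.X from hc.symm).mul_right (Commute.refl _)⟩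
    obtain ⟨h1, h2⟩ := hXc _ ((hmem _).mp b.2)
    rcases (hmem _).mp a.2 with e | e | e | e <;> rw [e]
    · simp
    · exact h1
    · exact h2
    · exact Commute.mul_left h1 h2))⟩⟩
  let x' : (d.act s t).range := (d.act s t).rangeRestrict h.nx
  let c' : (d.act s t).range := (d.act s t).rangeRestrict c
  have hxR : x' ∈ Rp := (hmem _).mpr (.inr (.inl rfl))
  have hval : c'⁻¹⁻¹ * x' * c'⁻¹ = (d.act s t).rangeRestrict h.ny := Subtype.ext (by
    show (d.act s t c)⁻¹⁻¹ * h.X * (d.act s t c)⁻¹ = h.Y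
    rw [inv_inv, ← hv, e])
  obtain ⟨n, hn, hne⟩ := Rp.conj_eq_normalizer_conj_of_mem x' c'⁻¹ hxR
    (by rw [hval]; exact (hmem _).mpr (.inr (.inr (.inl rfl))))
  rw [hval] at hne
  set m := n⁻¹ with hm
  have hmN : m ∈ normalizer ((Rp : Subgroup (d.act s t).range) : Set (d.act s t).range) := inv_mem hn
  set y' := (d.act s t).rangeRestrict h.ny with hy'
  have hmx : m * x' * m⁻¹ = y' := by rw [hne, hm, inv_inv]
  have hxy : x' ≠ y' := fun e' => by
    have e2 : h.X = h.Y := congrArg Subtype.val e'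
    exact d.z1_ne_z2 (congrArg Subtype.val (h.X_tv.unique (q := h.p2) (e2.symm ▸ h.Y_tv hk)))
  have hmy : m * y' * m⁻¹ = x' := by
    have hyR : y' ∈ Rp := (hmem _).mpr (.inr (.inr (.inl rfl)))
    have hz : m * y' * m⁻¹ ∈ Rp := Coprime.conj_mem hmN hyR
    have htv : IsTv ((m * y' * m⁻¹ : (d.act s t).range) : MulAut (d.E s t))
        ((m : MulAut (d.E s t)) h.p2) := (h.Y_tv hk).conj _
    rcases (hmem _).mp hz with e' | e' | e' | e'
    · obtain ⟨a, ha⟩ := htv.moves; exact absurd (by rw [e']; rfl) ha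
    · exact Subtype.ext e'
    · exfalso
      have e2 : m * y' * m⁻¹ = m * x' * m⁻¹ := (Subtype.ext e').trans hmx.symm
      exact hxy (mul_left_cancel (mul_right_cancel e2)).symm
    · exact (h.XY_not_tv hk _ (e' ▸ htv)).elim
  have hodd : ∀ j : ℕ, m ^ (2 * j + 1) * x' * (m ^ (2 * j + 1))⁻¹ = y' := by
    intro j
    induction j with
    | zero => simpa using hmx
    | succ j ih =>
      rw [show 2 * (j + 1) + 1 = 2 + (2 * j + 1) by ring, pow_add]
      calc m ^ 2 * m ^ (2 * j + 1) * x' * (m ^ 2 * m ^ (2 * j + 1))⁻¹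
          = m * (m * (m ^ (2 * j + 1) * x' * (m ^ (2 * j + 1))⁻¹) * m⁻¹) * m⁻¹ := by
            rw [pow_two]; group
        _ = y' := by rw [ih, hmy, hmx]
  obtain ⟨a, o, ho, hord⟩ := Nat.exists_eq_two_pow_mul_odd (orderOf_pos m).ne'
  have h2g : IsPGroup 2 (zpowers (m ^ o)) := by
    have hd : orderOf (m ^ o) ∣ 2 ^ a := orderOf_dvd_of_pow_eq_one (by
      rw [← pow_mul, mul_comm, ← hord, pow_orderOf_eq_one])
    obtain ⟨j, -, hj⟩ := (Nat.dvd_prime_pow Nat.prime_two).mp hd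
    exact IsPGroup.of_card (n := j) (by rw [Nat.card_zpowers, hj])
  have hin : m ^ o ∈ (Rp : Subgroup (d.act s t).range) := by
    have := Rp.is_maximal' (Rp.isPGroup'.to_sup_of_normal_left' h2g
      (Subgroup.zpowers_le.mpr (pow_mem hmN o))) le_sup_left
    rw [← this]
    exact mem_sup_right (mem_zpowers _)
  obtain ⟨j, rfl⟩ := ho
  refine hxy ?_
  have h3 := hodd j
  rw [show m ^ (2 * j + 1) * x' = x' * m ^ (2 * j + 1) from
    congrArg Subtype.val (IsMulCommutative.is_comm.comm (⟨_, hin⟩ : (Rp : Subgroup (d.act s t).range)) ⟨_, hxR⟩),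
    mul_assoc, mul_inv_cancel, mul_one] at h3
  exact h3

/-- The conjugates of the first rotation. -/
def C (h : Frame d s t) : Set (MulAut (d.E s t)) :=
  {v | ∃ c, v = d.act s t c * h.X * (d.act s t c)⁻¹}

theorem tvClass (h : Frame d s t) : TvClass h.C := by
  classical
  haveI : Fact (Nat.Prime 2) := ⟨Nat.prime_two⟩
  refine ⟨fun a => Subtype.ext (d.E_sq h.s_mem h.s_refl h.t_mem h.t_refl a.2), ?_, ?_, ?_⟩
  · rintro v ⟨c, rfl⟩
    exact ⟨_, h.X_tv.conj _⟩
  · rintro f ⟨a, rfl⟩ g ⟨b, rfl⟩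
    refine ⟨a * h.nx * a⁻¹ * b, ?_⟩
    simp only [map_mul, map_inv, Frame.X]
    group
  · rintro f ⟨a, rfl⟩ g ⟨b, rfl⟩ hfg
    obtain ⟨P, hP⟩ := h.exists_sylow
    let Rp := P.mapSurjective (d.act s t).rangeRestrict_surjective
    set A := (d.act s t).rangeRestrict (a * h.nx * a⁻¹) with hA
    set B := (d.act s t).rangeRestrict (b * h.nx * b⁻¹) with hB
    have eA : (A : MulAut (d.E s t)) = d.act s t a * h.X * (d.act s t a)⁻¹ := by
      simp [hA, map_mul, map_inv, X]
    have eB : (B : MulAut (d.E s t)) = d.act s t b * h.X * (d.act s t b)⁻¹ := by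
      simp [hB, map_mul, map_inv, X]
    have hsq : ∀ (c : normalizer (d.E s t : Set G)) (V : (d.act s t).range),
        (V : MulAut (d.E s t)) = d.act s t c * h.X * (d.act s t c)⁻¹ → IsPGroup 2 (zpowers V) := by
      intro c V hV
      have hd : orderOf V ∣ 2 ^ 1 := orderOf_dvd_of_pow_eq_one (Subtype.ext (by
        rw [SubmonoidClass.coe_pow, hV, pow_one, conj_pow, pow_two, h.X_sq]; simp))
      obtain ⟨j, -, hj⟩ := (Nat.dvd_prime_pow Nat.prime_two).mp hd
      exact IsPGroup.of_card (n := j) (by rw [Nat.card_zpowers, hj])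
    have hAB : A * B = B * A := Subtype.ext (by
      rw [Subgroup.coe_mul, Subgroup.coe_mul, eA, eB]; exact hfg)
    obtain ⟨Q, hQ⟩ := ((hsq a A eA).to_sup_of_normal_left' (hsq b B eB)
      (Subgroup.zpowers_le.mpr (centralizer_le_normalizer _ (mem_centralizer_iff.mpr fun y hy => by
        obtain ⟨j, rfl⟩ := mem_zpowers_iff.mp hy
        exact ((show Commute A B from hAB).zpow_left j).eq)))).exists_le_sylow
    obtain ⟨q, hq⟩ := MulAction.exists_smul_eq (d.act s t).range Q Rp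
    have key : ∀ (c : normalizer (d.E s t : Set G)) (V : (d.act s t).range),
        (V : MulAut (d.E s t)) = d.act s t c * h.X * (d.act s t c)⁻¹ → V ∈ Q →
        ((q * V * q⁻¹ : (d.act s t).range) : MulAut (d.E s t)) = h.X := by
      intro c V hV hVQ
      obtain ⟨q0, hq0⟩ := q.2
      refine h.eq_X_of_conj (q0 * c) ?_ ?_
      · rw [Subgroup.coe_mul, Subgroup.coe_mul, Subgroup.coe_inv, hV, map_mul, ← hq0]
        group
      · have hm : q * V * q⁻¹ ∈ Rp := by rw [← hq]; exact ⟨V, hVQ, rfl⟩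
        rw [← h.map_P0]
        obtain ⟨m, hm', e⟩ := (show q * V * q⁻¹ ∈
          (P : Subgroup (normalizer (d.E s t : Set G))).map (d.act s t).rangeRestrict from hm)
        exact ⟨m, hP ▸ hm', congrArg Subtype.val e⟩
    have e := (key a A eA (hQ (mem_sup_left (mem_zpowers A)))) |>.trans
      (key b B eB (hQ (mem_sup_right (mem_zpowers B)))).symm
    have e' : A = B := mul_left_cancel (mul_right_cancel (Subtype.ext e))
    rw [← eA, ← eB, e']

end Frame

end Cfsg.Agent.H52.DihSq
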