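import Cfsg.Agent.H52.DihSq.Natural

/-!
The conjugations occurring in the steps of Alperin's theorem fix central involutions.
-/

set_option autoImplicit false

namespace Cfsg.Agent.H52.DihSq

open Subgroup
open Cfsg.Agent
open scoped commutatorElement

universe u

variable {G : Type u} [Group G] [Finite G] {S : Sylow 2 G}

namespace Dih

variable {D : Subgroup G} {ρ : G} {k : ℕ}

theorem comm_mem_zpowers (h : Dih D ρ k) {a b : G} (ha : a ∈ D) (hb : b ∈ D) :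
    a * b * a⁻¹ * b⁻¹ ∈ zpowers ρ := by
  have key : ∀ x ∈ D, ∀ y ∈ D, x * y ∈ zpowers ρ ↔ (x ∈ zpowers ρ ↔ y ∈ zpowers ρ) :=
    fun x hx y hy => h.mul_mem_zpowers_iff hx hy
  rw [key _ (mul_mem (mul_mem ha hb) (inv_mem ha)) _ (inv_mem hb),
    key _ (mul_mem ha hb) _ (inv_mem ha), key _ ha _ hb, inv_mem_iff, inv_mem_iff]
  tauto

theorem center_of_pair (h : Dih D ρ k) {u a b : G} (hu : u ∈ D) (ha : a ∈ D) (hb : b ∈ D)
    (huu : u * u = 1) (hua : u * a = a * u) (hub : u * b = b * u) (hab : a * b ≠ b * a) :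
    u = 1 ∨ u = zinv ρ k := by
  by_cases hu' : u ∈ zpowers ρ
  · exact h.eq_one_or_z hu' huu
  · exact absurd (h.four_comm hu hu' (h.mem_four_of_comm hu hu' ha hua.symm)
      (h.mem_four_of_comm hu hu' hb hub.symm)) hab

theorem gen (h : Dih D ρ k) {J : Subgroup G} (hJ : ∀ s ∈ D, s ∉ zpowers ρ → s ∈ J) {x : G}
    (hx : x ∈ D) : x ∈ J := by
  by_cases hx' : x ∈ zpowers ρ
  · obtain ⟨s, hs, hs'⟩ := h.exists_refl
    have h1 : x * s ∉ zpowers ρ := fun hc =>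
      hs' (((h.mul_mem_zpowers_iff hx hs).mp hc).mp hx')
    simpa using mul_mem (hJ _ (mul_mem hx hs) h1) (inv_mem (hJ s hs hs'))
  · exact hJ x hx hx'

/-- The squares of rotations. -/
abbrev sq (ρ : G) : Subgroup G := zpowers (ρ * ρ)

theorem sq_le_zpowers : sq ρ ≤ zpowers ρ :=
  Subgroup.zpowers_le.mpr (mul_mem (mem_zpowers ρ) (mem_zpowers ρ))

theorem gen_not_mem_sq (h : Dih D ρ k) : ρ ∉ sq ρ := by
  intro hc
  obtain ⟨j, hj⟩ := mem_zpowers_iff.mp hc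
  rw [← pow_two, ← zpow_natCast, ← zpow_mul] at hj
  have h1 : ρ ^ ((2 : ℤ) * j - 1) = 1 := by
    rw [zpow_sub, zpow_one, show (2 : ℤ) * j = ((2 : ℕ) : ℤ) * j by norm_num, hj, mul_inv_cancel]
  have h2 := orderOf_dvd_iff_zpow_eq_one.mpr h1
  rw [h.ord, pow_succ'] at h2
  push_cast at h2
  have : (2 : ℤ) ∣ 2 * j - 1 := (dvd_mul_right _ _).trans h2
  omega

theorem sq_cases {r : G} (hr : r ∈ zpowers ρ) : r ∈ sq ρ ∨ r * ρ ∈ sq ρ := by
  obtain ⟨i, rfl⟩ := mem_zpowers_iff.mp hr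
  rcases Int.even_or_odd i with ⟨j, rfl⟩ | ⟨j, rfl⟩
  · refine .inl (mem_zpowers_iff.mpr ⟨j, ?_⟩)
    rw [← pow_two, ← zpow_natCast, ← zpow_mul]; congr 1; omega
  · refine .inr (mem_zpowers_iff.mpr ⟨j + 1, ?_⟩)
    rw [← zpow_add_one, ← pow_two, ← zpow_natCast, ← zpow_mul]; congr 1; omega

/-- The subgroup generated by the squares of rotations and a reflection. -/
def half (h : Dih D ρ k) {s₀ : G} (hs : s₀ ∈ D) (hs' : s₀ ∉ zpowers ρ) : Subgroup G where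
  carrier := {a | a ∈ D ∧ (a ∈ sq ρ ∨ a * s₀ ∈ sq ρ)}
  one_mem' := ⟨one_mem _, .inl (one_mem _)⟩
  mul_mem' := fun {a b} ha hb => by
    refine ⟨mul_mem ha.1 hb.1, ?_⟩
    have hq : ∀ q ∈ sq ρ, s₀ * q * s₀ = q⁻¹ := fun q hq => by
      have := h.conj_refl hs hs' (sq_le_zpowers hq)
      rwa [h.refl_inv hs hs'] at this
    rcases ha.2 with h1 | h1 <;> rcases hb.2 with h2 | h2
    · exact .inl (mul_mem h1 h2)
    · exact .inr (by rw [mul_assoc]; exact mul_mem h1 h2)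
    · refine .inr ?_
      have e : a * b * s₀ = a * s₀ * b⁻¹ := by
        rw [← hq b h2]
        calc a * b * s₀ = a * (1 * b) * s₀ := by rw [one_mul]
          _ = a * (s₀ * s₀ * b) * s₀ := by rw [h.refl_mul_self hs hs']
          _ = _ := by group
      rw [e]
      exact mul_mem h1 (inv_mem h2)
    · refine .inl ?_
      have e : a * b = a * s₀ * (b * s₀)⁻¹ := by
        rw [← hq _ h2]
        calc a * b = a * 1 * b * 1 := by group
          _ = a * (s₀ * s₀) * b * (s₀ * s₀) := by rw [h.refl_mul_self hs hs']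
          _ = _ := by group
      rw [e]
      exact mul_mem h1 (inv_mem h2)
  inv_mem' := fun {a} ha => by
    refine ⟨inv_mem ha.1, ?_⟩
    rcases ha.2 with h1 | h1
    · exact .inl (inv_mem h1)
    · refine .inr ?_
      have h2 : a ∉ zpowers ρ := fun hc => hs' (by
        simpa using mul_mem (inv_mem hc) (sq_le_zpowers h1))
      rwa [h.refl_inv ha.1 h2]

theorem mem_half (h : Dih D ρ k) {s₀ : G} (hs : s₀ ∈ D) (hs' : s₀ ∉ zpowers ρ) {a : G} :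
    a ∈ h.half hs hs' ↔ a ∈ D ∧ (a ∈ sq ρ ∨ a * s₀ ∈ sq ρ) := Iff.rfl

theorem z_mem_half (h : Dih D ρ k) (hk : 1 ≤ k) {s₀ : G} (hs : s₀ ∈ D) (hs' : s₀ ∉ zpowers ρ) :
    zinv ρ k ∈ h.half hs hs' :=
  ⟨h.z_mem, .inl (by
    rw [← h.rot_sq hk, rot, ← (Commute.refl ρ).mul_pow]
    exact pow_mem (mem_zpowers _) _)⟩

theorem half_parity (h : Dih D ρ k) {s₀ : G} (hs : s₀ ∈ D) (hs' : s₀ ∉ zpowers ρ) {a b : G}
    (ha : a ∈ D) (hb : b ∈ D) :
    a * b ∈ h.half hs hs' ↔ (a ∈ h.half hs hs' ↔ b ∈ h.half hs hs') := by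
  set A := h.half hs hs' with hA
  have hnot : ρ ∉ A := fun hc => by
    rcases hc.2 with h1 | h1
    · exact h.gen_not_mem_sq h1
    · exact hs' (by simpa using mul_mem (inv_mem (mem_zpowers ρ)) (sq_le_zpowers h1))
  have hcos : ∀ x ∈ D, x ∉ A → x * ρ ∈ A := by
    intro x hx hxA
    refine ⟨mul_mem hx h.mem, ?_⟩
    by_cases hx' : x ∈ zpowers ρ
    · exact .inl ((sq_cases hx').resolve_left fun h1 => hxA ⟨hx, .inl h1⟩)
    · have hm : x * s₀ ∈ zpowers ρ := (h.mul_mem_zpowers_iff hx hs).mpr (iff_of_false hx' hs')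
      have h1 := (sq_cases hm).resolve_left fun h1 => hxA ⟨hx, .inr h1⟩
      refine .inr ?_
      have e : x * ρ * s₀ = x * s₀ * ρ * (ρ * ρ)⁻¹ := by
        have h2 := h.conj_refl hs hs' (mem_zpowers ρ)
        rw [h.refl_inv hs hs'] at h2
        calc x * ρ * s₀ = x * (1 * ρ) * s₀ := by rw [one_mul]
          _ = x * (s₀ * s₀ * ρ) * s₀ := by rw [h.refl_mul_self hs hs']
          _ = x * s₀ * (s₀ * ρ * s₀) := by group
          _ = _ := by rw [h2]; group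
      rw [e]
      exact mul_mem h1 (inv_mem (mem_zpowers _))
  constructor
  · intro hab
    refine ⟨fun h1 => by simpa using mul_mem (inv_mem h1) hab,
      fun h1 => by simpa using mul_mem hab (inv_mem h1)⟩
  · intro hiff
    by_cases h1 : a ∈ A
    · exact mul_mem h1 (hiff.mp h1)
    · have h2 := hcos a ha h1
      have h3 := hcos (b⁻¹) (inv_mem hb) fun hc => h1 (hiff.mpr (by simpa using inv_mem hc))
      have := mul_mem h2 (inv_mem h3)
      simpa [mul_assoc] using this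

theorem exists_conj (h : Dih D ρ k) {s s' : G} (hs : s ∈ D) (hs' : s ∉ zpowers ρ)
    (hq : s' * s ∈ sq ρ) : ∃ r ∈ zpowers ρ, r * s * r⁻¹ = s' := by
  obtain ⟨j, hj⟩ := mem_zpowers_iff.mp hq
  refine ⟨ρ ^ j, zpow_mem (mem_zpowers ρ) j, ?_⟩
  have h1 := h.conj_refl hs hs' (inv_mem (zpow_mem (mem_zpowers ρ) j))
  rw [inv_inv, mul_inv_eq_iff_eq_mul] at h1
  have h2 : ρ ^ j * ρ ^ j = (ρ * ρ) ^ j := ((Commute.refl ρ).mul_zpow j).symm
  rw [mul_assoc, h1, ← mul_assoc, h2, hj, mul_assoc, h.refl_mul_self hs hs', mul_one]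

end Dih

/-- A subgroup of `S` cut out by a parity has index 2. -/
theorem relIndex_eq_two {K : Subgroup G} {a : G} (ha : a ∈ (S : Subgroup G)) (haK : a ∉ K)
    (hpar : ∀ x ∈ (S : Subgroup G), ∀ y ∈ (S : Subgroup G), x * y ∈ K ↔ (x ∈ K ↔ y ∈ K)) :
    K.relIndex (S : Subgroup G) = 2 := by
  rw [relIndex, index_eq_two_iff]
  refine ⟨⟨a, ha⟩, fun b => ?_⟩
  simp only [mem_subgroupOf, Subgroup.coe_mul, hpar _ b.2 _ ha, Xor]
  by_cases hb : (b : G) ∈ K <;> simp [hb, haK]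

/-- Being fixed one of the central involutions. -/
def Fix (d : DD (S : Subgroup G)) (g : G) : Prop :=
  (1 ≤ d.k2 → g * d.z2 * g⁻¹ = d.z2) ∨ (1 ≤ d.k1 → g * d.z1 * g⁻¹ = d.z1)

/-- The subgroups occurring in the steps. -/
def Step (d : DD (S : Subgroup G)) (H : Subgroup G) : Prop :=
  H = (S : Subgroup G) ∨ (1 ≤ d.k1 ∧ ∃ s ∈ d.D1, s ∉ zpowers d.ρ1 ∧ H = d.T1 s) ∨
    (1 ≤ d.k2 ∧ ∃ t ∈ d.D2, t ∉ zpowers d.ρ2 ∧ H = d.T2 t)

variable (d : DD (S : Subgroup G))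

theorem Step.le {d : DD (S : Subgroup G)} {H : Subgroup G} (h : Step d H) :
    H ≤ (S : Subgroup G) := by
  rcases h with rfl | ⟨-, s, -, -, rfl⟩ | ⟨-, t, -, -, rfl⟩
  exacts [le_rfl, d.prod_le _ _, d.prod_le _ _]

theorem Step.symm {d : DD (S : Subgroup G)} {H : Subgroup G} (h : Step d H) : Step d.symm H := by
  rcases h with rfl | ⟨hk, s, hs, hs', rfl⟩ | ⟨hk, t, ht, ht', rfl⟩
  · exact .inl rfl
  · exact .inr (.inr ⟨hk, s, hs, hs', (d.prod_symm _ _).symm⟩)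
  · exact .inr (.inl ⟨hk, t, ht, ht', (d.prod_symm _ _).symm⟩)

theorem pr_comm {a b : G} (ha : a ∈ (S : Subgroup G)) (hb : b ∈ (S : Subgroup G)) :
    d.pr1 ⁅a, b⁆ = d.pr1 a * d.pr1 b * (d.pr1 a)⁻¹ * (d.pr1 b)⁻¹ ∧
      d.pr2 ⁅a, b⁆ = d.pr2 a * d.pr2 b * (d.pr2 a)⁻¹ * (d.pr2 b)⁻¹ := by
  rw [commutatorElement_def, d.pr1_hom (mul_mem (mul_mem ha hb) (inv_mem ha)) (inv_mem hb),
    d.pr1_hom (mul_mem ha hb) (inv_mem ha), d.pr1_hom ha hb, (d.pr_inv ha).1, (d.pr_inv hb).1,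
    d.pr2_hom (mul_mem (mul_mem ha hb) (inv_mem ha)) (inv_mem hb),
    d.pr2_hom (mul_mem ha hb) (inv_mem ha), d.pr2_hom ha hb, (d.pr_inv ha).2, (d.pr_inv hb).2]
  exact ⟨rfl, rfl⟩

/-- An involution which is a commutator lies in the product of the two central ones. -/
theorem comm_invol {a b c : G} (ha : a ∈ (S : Subgroup G)) (hb : b ∈ (S : Subgroup G))
    (hc : ⁅a, b⁆ = c) (hcc : c * c = 1) :
    (d.pr1 c = 1 ∨ d.pr1 c = d.z1) ∧ (d.pr2 c = 1 ∨ d.pr2 c = d.z2) := by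
  have hcS : c ∈ (S : Subgroup G) := hc ▸ mul_mem (mul_mem (mul_mem ha hb) (inv_mem ha)) (inv_mem hb)
  obtain ⟨e1, e2⟩ := pr_comm d ha hb
  rw [hc] at e1 e2
  refine ⟨d.dih1.eq_one_or_z ?_ ?_, d.dih2.eq_one_or_z ?_ ?_⟩
  · rw [e1]; exact d.dih1.comm_mem_zpowers (d.pr1_mem ha) (d.pr1_mem hb)
  · rw [← d.pr1_hom hcS hcS, hcc, (d.pr_of_mem1 (one_mem _)).1]
  · rw [e2]; exact d.dih2.comm_mem_zpowers (d.pr2_mem ha) (d.pr2_mem hb)
  · rw [← d.pr2_hom hcS hcS, hcc, (d.pr_of_mem1 (one_mem _)).2]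

theorem x2_t_comm (hk : 1 ≤ d.k2) {t : G} (ht : t ∈ d.D2) (ht' : t ∉ zpowers d.ρ2) :
    ⁅d.x2, t⁆ = d.z2 := by
  rw [commutatorElement_def, DD.x2, d.dih2.rot_conj hk ht ht', mul_assoc, mul_inv_cancel, mul_one]

theorem fix_T1 (hk : 1 ≤ d.k2) {s : G} (hs : s ∈ d.D1) (hs' : s ∉ zpowers d.ρ1) {g : G}
    (hg : g ∈ normalizer (d.T1 s : Set G)) : g * d.z2 * g⁻¹ = d.z2 := by
  obtain ⟨t, ht, ht'⟩ := d.dih2.exists_refl
  have ha : g * d.x2 * g⁻¹ ∈ d.T1 s := Coprime.conj_mem hg (d.mem_prod_right d.x2_mem d.x2_mem)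
  have hb : g * t * g⁻¹ ∈ d.T1 s := Coprime.conj_mem hg (d.mem_prod_right ht ht)
  set c := g * d.z2 * g⁻¹ with hc
  have hcc : c * c = 1 := by
    rw [hc, show g * d.z2 * g⁻¹ * (g * d.z2 * g⁻¹) = g * (d.z2 * d.z2) * g⁻¹ by group,
      d.dih2.z_mul_self]; simp
  have e : ⁅g * d.x2 * g⁻¹, g * t * g⁻¹⁆ = c := by
    rw [hc, ← x2_t_comm d hk ht ht', commutatorElement_def, commutatorElement_def]; group
  have h1 := (pr_comm d ha.1 hb.1).1
  rw [e, d.dih1.four_comm hs hs' ha.2.1 hb.2.1, mul_assoc (d.pr1 (g * t * g⁻¹)), mul_inv_cancel,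
    mul_one, mul_inv_cancel] at h1
  have hce : d.pr1 c * d.pr2 c = c := d.pr1_mul_pr2 c
  rw [h1, one_mul] at hce
  rcases (comm_invol d ha.1 hb.1 e hcc).2 with h2 | h2
  · exfalso
    rw [h2] at hce
    exact d.dih2.z_ne_one (by simpa [hc] using hce.symm)
  · rw [← hce, h2]

theorem fix_S {g : G} (hg : g ∈ normalizer ((S : Subgroup G) : Set G)) (hk1 : 1 ≤ d.k1)
    (hk2 : 1 ≤ d.k2) : g * d.z1 * g⁻¹ = d.z1 := by
  classical
  haveI : Fact (Nat.Prime 2) := ⟨Nat.prime_two⟩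
  let Split : G → Prop := fun z => ∃ u ∈ (S : Subgroup G),
    (∃ v ∈ (S : Subgroup G), u * v ≠ v * u) ∧ ∀ v ∈ (S : Subgroup G), ⁅u, v⁆ = 1 ∨ ⁅u, v⁆ = z
  have hconj : ∀ n ∈ normalizer ((S : Subgroup G) : Set G), ∀ z, Split z → Split (n * z * n⁻¹) := by
    rintro n hn z ⟨u, hu, ⟨v0, hv0, hne⟩, hall⟩
    refine ⟨n * u * n⁻¹, Coprime.conj_mem hn hu, ⟨n * v0 * n⁻¹, Coprime.conj_mem hn hv0,
      fun e => hne (by simpa using e)⟩, fun v hv => ?_⟩
    have e : ⁅n * u * n⁻¹, v⁆ = n * ⁅u, n⁻¹ * v * n⁆ * n⁻¹ := by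
      simp only [commutatorElement_def]; group
    rcases hall _ (Coprime.conj_mem' hn hv) with h | h <;> rw [e, h]
    · left; simp
    · right; rfl
  have hsplit : ∀ d' : DD (S : Subgroup G), 1 ≤ d'.k1 → Split d'.z1 := by
    intro d' hk
    obtain ⟨s, hs, hs'⟩ := d'.dih1.exists_refl
    have hx : d'.x1 ∈ zpowers d'.ρ1 := Dih.rot_mem_zpowers
    refine ⟨d'.x1, d'.le1 d'.x1_mem, ⟨s, d'.le1 hs, fun e => hs' ?_⟩, fun v hv => ?_⟩
    · exact d'.dih1.not_mem_of_root hs hx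
        (by rw [DD.x1, d'.dih1.rot_sq hk]; exact d'.dih1.z_ne_one) e.symm
    · by_cases hc : d'.pr1 v ∈ zpowers d'.ρ1
      · exact .inl ((d'.comm_rot hx hv).1 hc)
      · exact .inr (((d'.comm_rot hx hv).2 hc).trans (d'.dih1.rot_sq hk))
  have hn : ¬ Split (d.z1 * d.z2) := by
    rintro ⟨u, hu, ⟨v, hv, hne⟩, hall⟩
    rw [Ne, d.commute_iff hu hv, not_and_or] at hne
    rcases hne with hne | hne
    · have hvm := d.pr1_mem hv
      obtain ⟨e1, e2⟩ := pr_comm d hu (d.le1 hvm)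
      rw [(d.pr_of_mem1 hvm).1] at e1
      rw [(d.pr_of_mem1 hvm).2] at e2
      rcases hall _ (d.le1 hvm) with h | h <;> rw [h] at e1 e2
      · rw [(d.pr_of_mem1 (one_mem _)).1, eq_comm, mul_inv_eq_one, mul_inv_eq_iff_eq_mul] at e1
        exact hne e1
      · rw [(d.pr_eq d.dih1.z_mem d.dih2.z_mem).2] at e2
        exact d.dih2.z_ne_one (by simpa using e2)
    · have hvm := d.pr2_mem hv
      obtain ⟨e1, e2⟩ := pr_comm d hu (d.le2 hvm)
      rw [(d.pr_of_mem2 hvm).1] at e1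
      rw [(d.pr_of_mem2 hvm).2] at e2
      rcases hall _ (d.le2 hvm) with h | h <;> rw [h] at e1 e2
      · rw [(d.pr_of_mem1 (one_mem _)).2, eq_comm, mul_inv_eq_one, mul_inv_eq_iff_eq_mul] at e2
        exact hne e2
      · rw [(d.pr_eq d.dih1.z_mem d.dih2.z_mem).1] at e1
        exact d.dih1.z_ne_one (by simpa using e1)
  have hcen : ∀ z, z * z = 1 → z ≠ 1 → z ∈ (S : Subgroup G) →
      (∀ v ∈ (S : Subgroup G), z * v = v * z) → z = d.z1 ∨ z = d.z2 ∨ z = d.z1 * d.z2 := by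
    intro z _ hz1 hzS hc
    have h1 := d.dih1.center hk1 (d.pr1_mem hzS) fun e he => by
      have := ((d.commute_iff hzS (d.le1 he)).mp (hc e (d.le1 he))).1
      rwa [(d.pr_of_mem1 he).1] at this
    have h2 := d.dih2.center hk2 (d.pr2_mem hzS) fun e he => by
      have := ((d.commute_iff hzS (d.le2 he)).mp (hc e (d.le2 he))).2
      rwa [(d.pr_of_mem2 he).2] at this
    have hz := (d.pr1_mul_pr2 z).symm
    rcases h1 with e | e <;> rcases h2 with e' | e' <;> rw [e, e'] at hz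
    · exact absurd (hz.trans (one_mul _)) hz1
    · exact .inr (.inl (hz.trans (one_mul _)))
    · exact .inl (hz.trans (mul_one _))
    · exact .inr (.inr hz)
  have himg : ∀ n ∈ normalizer ((S : Subgroup G) : Set G), ∀ z, z * z = 1 → z ≠ 1 →
      z ∈ (S : Subgroup G) → (∀ v ∈ (S : Subgroup G), z * v = v * z) → Split z →
      n * z * n⁻¹ = d.z1 ∨ n * z * n⁻¹ = d.z2 := by
    intro n hn' z hzz hz1 hzS hc hsp
    rcases hcen (n * z * n⁻¹)
      (by rw [show n * z * n⁻¹ * (n * z * n⁻¹) = n * (z * z) * n⁻¹ by group, hzz]; simp)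
      (fun e => hz1 (by simpa using e)) (Coprime.conj_mem hn' hzS) (fun v hv => by
        have := hc _ (Coprime.conj_mem' hn' hv)
        calc n * z * n⁻¹ * v = n * (z * (n⁻¹ * v * n)) * n⁻¹ := by group
          _ = n * ((n⁻¹ * v * n) * z) * n⁻¹ := by rw [this]
          _ = _ := by group) with e | e | e
    · exact .inl e
    · exact .inr e
    · exact absurd (e ▸ hconj n hn' z hsp) hn
  have hz1S := d.le1 d.dih1.z_mem
  have hz2S := d.le2 d.dih2.z_mem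
  rcases himg g hg _ d.dih1.z_mul_self d.dih1.z_ne_one hz1S (fun v hv => d.z1_comm hv)
    (hsplit d hk1) with e | e
  · exact e
  exfalso
  have e2 : g * d.z2 * g⁻¹ = d.z1 := by
    rcases himg g hg _ d.dih2.z_mul_self d.dih2.z_ne_one hz2S (fun v hv => d.z2_comm hv)
      (hsplit d.symm hk2) with e' | e'
    · exact e'
    · exact absurd (mul_left_cancel (mul_right_cancel (e.trans e'.symm))) d.z1_ne_z2
  have hodd : ∀ j : ℕ, g ^ (2 * j + 1) * d.z1 * (g ^ (2 * j + 1))⁻¹ = d.z2 := by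
    intro j
    induction j with
    | zero => simpa using e
    | succ j ih =>
      rw [show 2 * (j + 1) + 1 = 2 + (2 * j + 1) by ring, pow_add]
      calc g ^ 2 * g ^ (2 * j + 1) * d.z1 * (g ^ 2 * g ^ (2 * j + 1))⁻¹
          = g * (g * (g ^ (2 * j + 1) * d.z1 * (g ^ (2 * j + 1))⁻¹) * g⁻¹) * g⁻¹ := by
            rw [pow_two]; group
        _ = d.z2 := by rw [ih, e2, e]
  obtain ⟨a, o, ho, hord⟩ := Nat.exists_eq_two_pow_mul_odd (orderOf_pos g).ne'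
  have h2g : IsPGroup 2 (zpowers (g ^ o)) := by
    obtain ⟨j, -, hj⟩ := (Nat.dvd_prime_pow Nat.prime_two).mp
      (show orderOf (g ^ o) ∣ 2 ^ a from orderOf_dvd_of_pow_eq_one (by
        rw [← pow_mul, mul_comm, ← hord, pow_orderOf_eq_one]))
    exact IsPGroup.of_card (n := j) (by rw [Nat.card_zpowers, hj])
  have hin : g ^ o ∈ (S : Subgroup G) := by
    rw [← S.is_maximal' (S.isPGroup'.to_sup_of_normal_left' h2g
      (Subgroup.zpowers_le.mpr (pow_mem hg o))) le_sup_left]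
    exact mem_sup_right (mem_zpowers _)
  obtain ⟨j, rfl⟩ := ho
  have h3 := hodd j
  rw [← d.z1_comm hin, mul_assoc, mul_inv_cancel, mul_one] at h3
  exact d.z1_ne_z2 h3

theorem fix_of_step {H : Subgroup G} (hH : Step d H) {g : G} (hg : g ∈ normalizer (H : Set G)) :
    Fix d g := by
  rcases hH with rfl | ⟨-, s, hs, hs', rfl⟩ | ⟨-, t, ht, ht', rfl⟩
  · rcases Nat.eq_zero_or_pos d.k2 with hk | hk
    · exact .inl fun h => by omega
    · exact .inr fun h => fix_S d hg h hk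
  · exact .inl fun hk => fix_T1 d hk hs hs' hg
  · refine .inr fun hk => fix_T1 d.symm hk ht ht' ?_
    have : d.symm.T1 t = d.T2 t := d.prod_symm _ _
    rw [this]
    exact hg

theorem Fix.good {d : DD (S : Subgroup G)} {g : G} (h : Fix d g) (hk1 : 1 ≤ d.k1) :
    d.k2 = 0 ∨ g * d.z1 * g⁻¹ = d.z1 ∨ g * d.z2 * g⁻¹ = d.z2 := by
  rcases Nat.eq_zero_or_pos d.k2 with hk | hk
  · exact .inl hk
  rcases h with h | h
  exacts [.inr (.inr (h hk)), .inr (.inl (h hk1))]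

theorem Fix.symm {d : DD (S : Subgroup G)} {g : G} (h : Fix d g) : Fix d.symm g := Or.symm h

/-- The subgroups of the steps are generated by their elementary subgroups of order 16. -/
theorem Step.gen {d : DD (S : Subgroup G)} {H J : Subgroup G} (hH : Step d H)
    (hJ : ∀ s ∈ d.D1, s ∉ zpowers d.ρ1 → ∀ t ∈ d.D2, t ∉ zpowers d.ρ2 →
      d.E s t ≤ H → d.E s t ≤ J) : H ≤ J := by
  obtain ⟨s₀, hs₀, hs₀'⟩ := d.dih1.exists_refl
  obtain ⟨t₀, ht₀, ht₀'⟩ := d.dih2.exists_refl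
  have hTS : ∀ {A B : Subgroup G}, d.prod A B ≤ (S : Subgroup G) := fun {A B} => d.prod_le A B
  rcases hH with rfl | ⟨-, s, hs, hs', rfl⟩ | ⟨-, t, ht, ht', rfl⟩
  · intro x hx
    rw [← d.pr1_mul_pr2 x]
    refine mul_mem (d.dih1.gen (fun s hs hs' => ?_) (d.pr1_mem hx))
      (d.dih2.gen (fun t ht ht' => ?_) (d.pr2_mem hx))
    · exact hJ s hs hs' t₀ ht₀ ht₀' hTS (d.s_mem_E hs)
    · exact hJ s₀ hs₀ hs₀' t ht ht' hTS (d.t_mem_E ht)
  · intro x hx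
    have hE : ∀ t ∈ d.D2, t ∉ zpowers d.ρ2 → d.E s t ≤ d.T1 s := fun t ht _ e he =>
      ⟨he.1, he.2.1, d.pr2_mem he.1⟩
    rw [← d.pr1_mul_pr2 x]
    refine mul_mem ?_ (d.dih2.gen (fun t ht ht' => ?_) (d.pr2_mem hx.1))
    · exact hJ s hs hs' t₀ ht₀ ht₀' (hE t₀ ht₀ ht₀')
        (d.mem_prod_left (d.pr1_mem hx.1) hx.2.1)
    · exact hJ s hs hs' t ht ht' (hE t ht ht') (d.t_mem_E ht)
  · intro x hx
    have hE : ∀ s ∈ d.D1, s ∉ zpowers d.ρ1 → d.E s t ≤ d.T2 t := fun s hs _ e he =>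
      ⟨he.1, d.pr1_mem he.1, he.2.2⟩
    rw [← d.pr1_mul_pr2 x]
    refine mul_mem (d.dih1.gen (fun s hs hs' => ?_) (d.pr1_mem hx.1)) ?_
    · exact hJ s hs hs' t ht ht' (hE s hs hs') (d.s_mem_E hs)
    · exact hJ s₀ hs₀ hs₀' t ht ht' (hE s₀ hs₀ hs₀')
        (d.mem_prod_right (d.pr2_mem hx.1) hx.2.2)

/-- Conjugates in `S` of elementary subgroups of order 16 are again such. -/
theorem exists_image {s t g : G} (hs : s ∈ d.D1) (hs' : s ∉ zpowers d.ρ1) (ht : t ∈ d.D2)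
    (ht' : t ∉ zpowers d.ρ2) (hg : ∀ a ∈ d.E s t, g * a * g⁻¹ ∈ (S : Subgroup G)) :
    ∃ s' ∈ d.D1, s' ∉ zpowers d.ρ1 ∧ ∃ t' ∈ d.D2, t' ∉ zpowers d.ρ2 ∧
      ∀ a, a ∈ d.E s t ↔ g * a * g⁻¹ ∈ d.E s' t' := by
  obtain ⟨s', h1, h2, t', h3, h4, e⟩ := d.E_eq_of_elem ((d.E_elem hs hs' ht ht').map hg)
  exact ⟨s', h1, h2, t', h3, h4, fun a => e ▸ mem_map_conj_iff⟩

end Cfsg.Agent.H52.DihSq
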