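import Cfsg.Agent.H52.DihSq.Twist

/-!
After a twist the orbit subgroups lie in the first factor, which is then strongly closed.
-/

set_option autoImplicit false

namespace Cfsg.Agent.H52.DihSq

open Subgroup
open Cfsg.Agent

universe u

variable {G : Type u} [Group G] [Finite G] {S : Sylow 2 G}

/-- The orbit subgroups of the first central involution lie in the first factor. -/
def Straight (d : DD (S : Subgroup G)) : Prop :=
  ∀ s t : G, Frame d s t → W (d.E s t) d.z1 ≤ d.D1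

variable (d : DD (S : Subgroup G))

theorem exists_offset (h2 : ∀ N : Subgroup G, N.Normal → N.index ≠ 2) {s t : G} (h : Frame d s t) :
    ∃ e ∈ d.D2, e * e = 1 ∧ (∀ b ∈ d.D2, e * b = b * e) ∧ s * e ∈ W (d.E s t) d.z1 := by
  obtain ⟨w, hwE, hw1, hw2, hW, -⟩ :=
    h.W_cases.resolve_left (fun hn => hn (active_all h2 h))
  have he : d.pr2 w ∈ d.D2 := d.pr2_mem hwE.1
  refine ⟨d.pr2 w, he, d.dih2.pow_two_eq_one_four h.t_mem h.t_refl hwE.2.2, fun b hb => ?_, ?_⟩
  · rcases Nat.eq_zero_or_pos d.k2 with hk | hk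
    · have hd := d.dih2
      rw [hk] at hd
      exact hd.comm_of_zero he hb
    · rcases d.dih2.eq_one_or_z (hw2 hk) (d.dih2.pow_two_eq_one_four h.t_mem h.t_refl hwE.2.2) with
        e | e <;> rw [e]
      · simp
      · exact d.dih2.z_comm hb
  · rcases (mem_four_iff d.dih1.z_mul_self (d.dih1.refl_mul_self h.s_mem h.s_refl)
      (d.dih1.z_comm h.s_mem)).mp hwE.2.1 with e | e | e | e
    · exact absurd (e ▸ one_mem _) hw1
    · exact absurd (e ▸ Dih.z_mem_zpowers) hw1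
    · rw [hW, show s * d.pr2 w = w by rw [← e, d.pr1_mul_pr2]]; exact right_mem_four _ _
    · have e' : s = d.z1 * d.pr1 w := by
        rw [e, ← mul_assoc, d.dih1.z_mul_self, one_mul]
      rw [hW, show s * d.pr2 w = d.z1 * w by rw [e', mul_assoc, d.pr1_mul_pr2]]
      exact mul_mem (left_mem_four _ _) (right_mem_four _ _)

open Classical in
/-- An indicator with value `1` on `K`. -/
noncomputable def ind (K : Subgroup G) (e a : G) : G := if a ∈ K then 1 else e

theorem ind_mul {K : Subgroup G} {e a b : G} (hee : e * e = 1)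
    (h : a * b ∈ K ↔ (a ∈ K ↔ b ∈ K)) : ind K e (a * b) = ind K e a * ind K e b := by
  classical
  unfold ind
  by_cases ha : a ∈ K <;> by_cases hb : b ∈ K <;> simp [ha, hb, h, hee]

theorem ind_cases (K : Subgroup G) (e a : G) : ind K e a = 1 ∨ ind K e a = e := by
  classical
  unfold ind
  split_ifs <;> simp

theorem exists_straight (h2 : ∀ N : Subgroup G, N.Normal → N.index ≠ 2) (hk1 : 1 ≤ d.k1) :
    ∃ d' : DD (S : Subgroup G), d'.D2 = d.D2 ∧ d'.k1 = d.k1 ∧ d'.k2 = d.k2 ∧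
      Nonempty (d.D1 ≃* d'.D1) ∧ Straight d' := by
  classical
  obtain ⟨s₀, hs, hs'⟩ := d.dih1.exists_refl
  obtain ⟨t₀, ht, ht'⟩ := d.dih2.exists_refl
  have hs1 : s₀ * d.ρ1 ∈ d.D1 := mul_mem hs d.dih1.mem
  have hs1' : s₀ * d.ρ1 ∉ zpowers d.ρ1 := fun hc =>
    hs' (by simpa using mul_mem hc (inv_mem (mem_zpowers d.ρ1)))
  have h0 : Frame d s₀ t₀ := ⟨hk1, hs, hs', ht, ht'⟩
  have h1 : Frame d (s₀ * d.ρ1) t₀ := ⟨hk1, hs1, hs1', ht, ht'⟩
  obtain ⟨e0, he0, hee0, hc0, hm0⟩ := exists_offset d h2 h0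
  obtain ⟨e1, he1, hee1, hc1, hm1⟩ := exists_offset d h2 h1
  set A := d.dih1.half hs hs' with hA
  set c := e0 * e1 with hc
  have hcc : c * c = 1 := by
    rw [hc, mul_assoc, ← mul_assoc e1, hc1 e0 he0, mul_assoc e0 e1 e1, hee1, mul_one, hee0]
  have hcc' : ∀ b ∈ d.D2, c * b = b * c := fun b hb => by
    rw [hc, mul_assoc, hc1 b hb, ← mul_assoc, hc0 b hb, mul_assoc]
  set χ : G → G := fun a => ind (zpowers d.ρ1) e0 a * ind A c a with hχ
  have hmem : ∀ a, χ a ∈ d.D2 := fun a => by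
    rcases ind_cases (zpowers d.ρ1) e0 a with e | e <;> rcases ind_cases A c a with e' | e' <;>
      simp only [hχ, e, e']
    exacts [mul_mem (one_mem _) (one_mem _), mul_mem (one_mem _) (mul_mem he0 he1),
      mul_mem he0 (one_mem _), mul_mem he0 (mul_mem he0 he1)]
  have hcen0 : ∀ a, ∀ b ∈ d.D2, ind (zpowers d.ρ1) e0 a * b = b * ind (zpowers d.ρ1) e0 a :=
    fun a b hb => by rcases ind_cases (zpowers d.ρ1) e0 a with e | e <;> rw [e]; simp; exact hc0 b hb
  have hcen1 : ∀ a, ∀ b ∈ d.D2, ind A c a * b = b * ind A c a :=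
    fun a b hb => by rcases ind_cases A c a with e | e <;> rw [e]; simp; exact hcc' b hb
  have hT : d.TwistData χ := by
    refine ⟨fun a ha b hb => ?_, fun a _ => hmem a, fun a _ b hb => ?_⟩
    · show ind _ e0 (a * b) * ind A c (a * b) = _
      rw [ind_mul hee0 (d.dih1.mul_mem_zpowers_iff ha hb), ind_mul hcc (d.dih1.half_parity hs hs' ha hb)]
      have hm : ind A c a ∈ d.D2 := by
        rcases ind_cases A c a with e | e <;> rw [e]
        exacts [one_mem _, mul_mem he0 he1]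
      calc ind (zpowers d.ρ1) e0 a * ind (zpowers d.ρ1) e0 b * (ind A c a * ind A c b)
          = ind (zpowers d.ρ1) e0 a * (ind (zpowers d.ρ1) e0 b * ind A c a) * ind A c b := by group
        _ = ind (zpowers d.ρ1) e0 a * (ind A c a * ind (zpowers d.ρ1) e0 b) * ind A c b := by
            rw [hcen0 b _ hm]
        _ = _ := by simp only [hχ]; group
    · show ind _ e0 a * ind A c a * b = b * _
      rw [mul_assoc, hcen1 a b hb, ← mul_assoc, hcen0 a b hb, mul_assoc]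
  have hρ : d.ρ1 ∈ zpowers d.ρ1 := mem_zpowers _
  have hχρ : χ d.ρ1 * χ d.ρ1 = 1 := by
    have e : χ d.ρ1 = 1 ∨ χ d.ρ1 = c := by
      show ind _ e0 d.ρ1 * ind A c d.ρ1 = 1 ∨ ind _ e0 d.ρ1 * ind A c d.ρ1 = c
      rw [show ind (zpowers d.ρ1) e0 d.ρ1 = 1 from if_pos hρ, one_mul]
      exact ind_cases A c d.ρ1
    rcases e with e | e <;> rw [e]
    exacts [one_mul 1, hcc]
  have hz : hT.dd.z1 = d.z1 := hT.dd_z1 hk1 hχρ
  have hzsub : d.z1 ∈ hT.sub := by
    refine ⟨d.le1 d.dih1.z_mem, ?_⟩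
    rw [(d.pr_of_mem1 d.dih1.z_mem).2, (d.pr_of_mem1 d.dih1.z_mem).1]
    show 1 = ind _ e0 d.z1 * ind A c d.z1
    rw [ind, ind, if_pos Dih.z_mem_zpowers, if_pos (d.dih1.z_mem_half hk1 hs hs'), one_mul]
  refine ⟨hT.dd, rfl, rfl, rfl, ⟨hT.equiv⟩, fun s' t' h' => ?_⟩
  obtain ⟨s, hsD, hsR, t, htD, htR, hE⟩ :=
    d.E_eq_of_elem (hT.dd.E_elem h'.s_mem h'.s_refl h'.t_mem h'.t_refl)
  rw [hE, hz]
  change W (d.E s t) d.z1 ≤ hT.sub
  have hf : Frame d s t := ⟨hk1, hsD, hsR, htD, htR⟩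
  have hf0 : Frame d s t₀ := ⟨hk1, hsD, hsR, ht, ht'⟩
  rw [hf.W_indep hf0]
  have hkey : s * χ s ∈ W (d.E s t₀) d.z1 := by
    have cov : ∀ si ei : G, Frame d si t₀ → ei ∈ d.D2 → si * ei ∈ W (d.E si t₀) d.z1 →
        s * si ∈ Dih.sq d.ρ1 → s * ei ∈ W (d.E s t₀) d.z1 := by
      intro si ei hfi hei hmi hq
      obtain ⟨r, hr, hrs⟩ := d.dih1.exists_conj hfi.s_mem hfi.s_refl hq
      have hrD := d.dih1.zpowers_le hr
      have h := hfi.W_map hf0 (g := r) (hrs ▸ conj_E_iff hrD hfi.s_mem)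
        (.inr (.inl (by rw [← d.z1_comm (d.le1 hrD), mul_assoc, mul_inv_cancel, mul_one]))) hmi
      rwa [show r * (si * ei) * r⁻¹ = s * ei by
        rw [← hrs]
        calc r * (si * ei) * r⁻¹ = r * si * (ei * r⁻¹) := by group
          _ = r * si * (r⁻¹ * ei) := by rw [d.comm (inv_mem hrD) hei]
          _ = _ := by group] at h
    have hm : s * s₀ ∈ zpowers d.ρ1 :=
      (d.dih1.mul_mem_zpowers_iff hsD hs).mpr (iff_of_false hsR hs')
    show s * (ind _ e0 s * ind A c s) ∈ _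
    rw [show ind (zpowers d.ρ1) e0 s = e0 from if_neg hsR]
    by_cases hA1 : s * s₀ ∈ Dih.sq d.ρ1
    · rw [show ind A c s = 1 from if_pos ⟨hsD, .inr hA1⟩, mul_one]
      exact cov s₀ e0 h0 he0 hm0 hA1
    · have hnA : s ∉ A := fun hmA => hmA.2.elim (fun e => hsR (Dih.sq_le_zpowers e)) hA1
      rw [show ind A c s = c from if_neg hnA, hc, ← mul_assoc e0, hee0, one_mul]
      refine cov (s₀ * d.ρ1) e1 h1 he1 hm1 ?_
      rw [← mul_assoc]
      exact (Dih.sq_cases hm).resolve_left hA1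
  obtain ⟨w, hwE, hw1, -, hW, -⟩ := hf0.W_cases.resolve_left (fun hn => hn (active_all h2 hf0))
  have hsq : w * w = 1 := d.E_sq hf0.s_mem hf0.s_refl hf0.t_mem hf0.t_refl hwE
  rw [hW] at hkey ⊢
  have hsub : s * χ s ∈ hT.sub := hT.mul_mem_sub hsD
  refine four_le hzsub ?_
  rcases (mem_four_iff d.dih1.z_mul_self hsq (d.z1_comm hwE.1)).mp hkey with e | e | e | e
  · exfalso
    have := (d.pr_eq hsD (hmem s)).1
    rw [e, (d.pr_of_mem1 (one_mem _)).1] at this
    exact hsR (this ▸ one_mem _)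
  · exfalso
    have := (d.pr_eq hsD (hmem s)).1
    rw [e, (d.pr_of_mem1 d.dih1.z_mem).1] at this
    exact hsR (this ▸ Dih.z_mem_zpowers)
  · exact e ▸ hsub
  · have h3 := mul_mem hzsub (e ▸ hsub)
    rwa [← mul_assoc, d.dih1.z_mul_self, one_mul] at h3

theorem W_eq_four (h2 : ∀ N : Subgroup G, N.Normal → N.index ≠ 2) (hst : Straight d) {s t : G}
    (h : Frame d s t) : W (d.E s t) d.z1 = four d.z1 s := by
  obtain ⟨w, hwE, hw1, -, hW, -⟩ := h.W_cases.resolve_left (fun hn => hn (active_all h2 h))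
  have hwD : w ∈ d.D1 := hst s t h (hW ▸ right_mem_four _ _)
  have e := (d.pr_of_mem1 hwD).1
  rw [hW]
  rcases (mem_four_iff d.dih1.z_mul_self (d.dih1.refl_mul_self h.s_mem h.s_refl)
    (d.dih1.z_comm h.s_mem)).mp (e ▸ hwE.2.1) with e' | e' | e' | e'
  · exact absurd (by rw [e, e']; exact one_mem _) hw1
  · exact absurd (by rw [e, e']; exact Dih.z_mem_zpowers) hw1
  · rw [e']
  · refine le_antisymm (four_le (left_mem_four _ _) ?_) (four_le (left_mem_four _ _) ?_)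
    · rw [e']; exact mul_mem (left_mem_four _ _) (right_mem_four _ _)
    · have := mul_mem (left_mem_four d.z1 w) (right_mem_four d.z1 w)
      rw [e', ← mul_assoc, d.dih1.z_mul_self, one_mul] at this
      rwa [e']

/-- A straight first factor is strongly closed. -/
theorem closed_left (h2 : ∀ N : Subgroup G, N.Normal → N.index ≠ 2) (hk1 : 1 ≤ d.k1)
    (hst : Straight d) : Cfsg.IsStronglyClosed d.D1 (S : Subgroup G) := by
  classical
  have hstep : ∀ H, Step d H → ∀ g ∈ normalizer (H : Set G), ∀ x ∈ H, x ∈ d.D1 →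
      g * x * g⁻¹ ∈ d.D1 := by
    intro H hH g hg x hx hxD
    have hgood := (fix_of_step d hH hg).good hk1
    let J : Subgroup G :=
    { carrier := {y | y ∈ (S : Subgroup G) ∧ g * d.pr1 y * g⁻¹ ∈ d.D1}
      one_mem' := ⟨one_mem _, by rw [(d.pr_of_mem1 (one_mem _)).1]; simp⟩
      mul_mem' := fun {a b} ha hb => ⟨mul_mem ha.1 hb.1, by
        rw [d.pr1_hom ha.1 hb.1]
        have := mul_mem ha.2 hb.2
        rwa [show g * d.pr1 a * g⁻¹ * (g * d.pr1 b * g⁻¹) = g * (d.pr1 a * d.pr1 b) * g⁻¹ by group]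
          at this⟩
      inv_mem' := fun {a} ha => ⟨inv_mem ha.1, by
        rw [(d.pr_inv ha.1).1]
        have := inv_mem ha.2
        rwa [show (g * d.pr1 a * g⁻¹)⁻¹ = g * (d.pr1 a)⁻¹ * g⁻¹ by group] at this⟩ }
    have hgen : H ≤ J := hH.gen fun s hs hs' t ht ht' hle e he => by
      refine ⟨he.1, ?_⟩
      obtain ⟨s1, hs1, hs1', t1, ht1, ht1', hmap⟩ := exists_image d hs hs' ht ht'
        fun a ha => hH.le (Coprime.conj_mem hg (hle ha))
      have hf : Frame d s t := ⟨hk1, hs, hs', ht, ht'⟩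
      have hf1 : Frame d s1 t1 := ⟨hk1, hs1, hs1', ht1, ht1'⟩
      have hw : d.pr1 e ∈ W (d.E s t) d.z1 := by rw [W_eq_four d h2 hst hf]; exact he.2.1
      exact hst s1 t1 hf1 (hf.W_map hf1 hmap hgood hw)
    have := (hgen hx).2
    rwa [(d.pr_of_mem1 hxD).1] at this
  exact isStronglyClosed_of_steps d.le1
    (fun g hg x hx => hstep _ (.inl rfl) g hg x (d.le1 hx) hx)
    fun H hH g hg x hx hxD => hstep H (hH.cases d) g hg x hx hxD

end Cfsg.Agent.H52.DihSq
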