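import Cfsg.Agent.H52.DihSq.Dih
import Cfsg.Agent.H52.DihSq.Fusion

/-!
The essential subgroups of a Sylow 2-subgroup which is a product of two dihedral groups.
-/

set_option autoImplicit false

namespace Cfsg.Agent.H52.DihSq

open Subgroup
open Cfsg.Agent
open scoped commutatorElement

universe u

variable {G : Type u} [Group G] [Finite G]

namespace Dih

variable {D : Subgroup G} {ρ : G} {k : ℕ}

/-- A subgroup missing a rotation misses one whose square it contains. -/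
theorem exists_sq_mem {H : Subgroup G} {r : G} (h : Dih D ρ k) (hr : r ∈ zpowers ρ) (hrH : r ∉ H) :
    ∃ x ∈ zpowers ρ, x ∉ H ∧ x * x ∈ H := by
  have key : ∀ n : ℕ, ∀ r ∈ zpowers ρ, r ^ 2 ^ n = 1 → r ∉ H →
      ∃ x ∈ zpowers ρ, x ∉ H ∧ x * x ∈ H := by
    intro n
    induction n with
    | zero => exact fun r _ h1 h2 => absurd (by rw [pow_zero, pow_one] at h1; rw [h1]; exact one_mem H) h2
    | succ n ih =>
      intro r hr h1 h2
      by_cases hrr : r * r ∈ H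
      · exact ⟨r, hr, h2, hrr⟩
      · exact ih (r * r) (mul_mem hr hr) (by rw [← pow_two, ← pow_mul, ← pow_succ']; exact h1) hrr
  refine key (k + 1) r hr ?_ hrH
  obtain ⟨i, rfl⟩ := mem_zpowers_iff.mp hr
  rw [← h.ord, ← zpow_natCast, ← zpow_mul, mul_comm, zpow_mul, zpow_natCast, pow_orderOf_eq_one,
    one_zpow]

/-- A subgroup with a rotation of order at least 4 has a square root of the central involution. -/
theorem exists_sqrt_z {Q : Subgroup G} (h : Dih D ρ k) {r : G} (hr : r ∈ zpowers ρ) (hrQ : r ∈ Q)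
    (hrr : r * r ≠ 1) : ∃ a ∈ zpowers ρ, a ∈ Q ∧ a * a = zinv ρ k := by
  have key : ∀ n : ℕ, ∀ r ∈ zpowers ρ, r ∈ Q → r ^ 2 ^ n = 1 → r * r ≠ 1 →
      ∃ a ∈ zpowers ρ, a ∈ Q ∧ a * a = zinv ρ k := by
    intro n
    induction n with
    | zero => exact fun r _ _ h1 h2 => absurd (by simp at h1; simp [h1]) h2
    | succ n ih =>
      intro r hr hrQ h1 h2
      by_cases h4 : r * r * (r * r) = 1
      · exact ⟨r, hr, hrQ, (h.eq_one_or_z (mul_mem hr hr) h4).resolve_left h2⟩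
      · exact ih (r * r) (mul_mem hr hr) (mul_mem hrQ hrQ)
          (by rw [← pow_two, ← pow_mul, ← pow_succ']; exact h1) h4
  refine key (k + 1) r hr hrQ ?_ hrr
  obtain ⟨i, rfl⟩ := mem_zpowers_iff.mp hr
  rw [← h.ord, ← zpow_natCast, ← zpow_mul, mul_comm, zpow_mul, zpow_natCast, pow_orderOf_eq_one,
    one_zpow]

theorem not_mem_of_root (h : Dih D ρ k) {d a : G} (hd : d ∈ D) (ha : a ∈ zpowers ρ)
    (ha2 : a * a ≠ 1) (hc : d * a = a * d) : d ∈ zpowers ρ := by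
  by_contra hd'
  have h1 := h.conj_refl hd hd' ha
  rw [hc, mul_assoc, mul_inv_cancel, mul_one] at h1
  exact ha2 (by rw [← eq_inv_iff_mul_eq_one]; exact h1)

theorem pow_two_eq_one_four (h : Dih D ρ k) {s v : G} (hs : s ∈ D) (hs' : s ∉ zpowers ρ)
    (hv : v ∈ four (zinv ρ k) s) : v * v = 1 := by
  have hss := h.refl_mul_self hs hs'
  have hc := h.z_comm hs
  rcases (mem_four_iff h.z_mul_self hss hc).mp hv with rfl | rfl | rfl | rfl
  · exact one_mul 1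
  · exact h.z_mul_self
  · exact hss
  · rw [mul_assoc, ← mul_assoc s, ← hc, mul_assoc (zinv ρ k) s s, hss, mul_one, h.z_mul_self]

theorem four_comm (h : Dih D ρ k) {s v w : G} (hs : s ∈ D) (hs' : s ∉ zpowers ρ)
    (hv : v ∈ four (zinv ρ k) s) (hw : w ∈ four (zinv ρ k) s) : v * w = w * v := by
  have h1 := h.pow_two_eq_one_four hs hs' hv
  have h2 := h.pow_two_eq_one_four hs hs' hw
  have h3 := h.pow_two_eq_one_four hs hs' (mul_mem hv hw)
  rw [← inv_eq_of_mul_eq_one_right h3, mul_inv_rev, inv_eq_of_mul_eq_one_right h1,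
    inv_eq_of_mul_eq_one_right h2]

end Dih

namespace DD

variable {S : Subgroup G} (d : DD S)

/-- The elements of `S` with projections in `A` and `B`. -/
def prod (A B : Subgroup G) : Subgroup G where
  carrier := {x | x ∈ S ∧ d.pr1 x ∈ A ∧ d.pr2 x ∈ B}
  one_mem' := ⟨one_mem S, by rw [(d.pr_of_mem1 (one_mem _)).1]; exact one_mem A,
    by rw [(d.pr_of_mem1 (one_mem _)).2]; exact one_mem B⟩
  mul_mem' := fun ha hb => ⟨mul_mem ha.1 hb.1, by
    rw [d.pr1_hom ha.1 hb.1]; exact mul_mem ha.2.1 hb.2.1, by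
    rw [d.pr2_hom ha.1 hb.1]; exact mul_mem ha.2.2 hb.2.2⟩
  inv_mem' := fun ha => ⟨inv_mem ha.1, by rw [(d.pr_inv ha.1).1]; exact inv_mem ha.2.1, by
    rw [(d.pr_inv ha.1).2]; exact inv_mem ha.2.2⟩

theorem mem_prod {A B : Subgroup G} {x : G} :
    x ∈ d.prod A B ↔ x ∈ S ∧ d.pr1 x ∈ A ∧ d.pr2 x ∈ B := Iff.rfl

theorem prod_le (A B : Subgroup G) : d.prod A B ≤ S := fun _ h => h.1

theorem mem_prod_left {A B : Subgroup G} {a : G} (ha : a ∈ d.D1) (haA : a ∈ A) :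
    a ∈ d.prod A B :=
  ⟨d.le1 ha, by rwa [(d.pr_of_mem1 ha).1], by rw [(d.pr_of_mem1 ha).2]; exact one_mem B⟩

theorem mem_prod_right {A B : Subgroup G} {b : G} (hb : b ∈ d.D2) (hbB : b ∈ B) :
    b ∈ d.prod A B :=
  ⟨d.le2 hb, by rw [(d.pr_of_mem2 hb).1]; exact one_mem A, by rwa [(d.pr_of_mem2 hb).2]⟩

theorem prod_symm (A B : Subgroup G) : d.symm.prod A B = d.prod B A := by
  ext x
  refine ⟨fun ⟨h, h1, h2⟩ => ⟨h, d.pr2_symm h ▸ h2, d.pr1_symm h ▸ h1⟩,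
    fun ⟨h, h1, h2⟩ => ⟨h, ?_, ?_⟩⟩
  · rwa [d.pr1_symm h]
  · rwa [d.pr2_symm h]

/-- The elementary subgroup of order 16 through two reflections. -/
def E (s t : G) : Subgroup G := d.prod (four d.z1 s) (four d.z2 t)

/-- The subgroup `V × D₂`. -/
def T1 (s : G) : Subgroup G := d.prod (four d.z1 s) d.D2

/-- The subgroup `D₁ × V`. -/
def T2 (t : G) : Subgroup G := d.prod d.D1 (four d.z2 t)

theorem top_eq : d.prod d.D1 d.D2 = S :=
  le_antisymm (d.prod_le _ _) fun _ h => ⟨h, d.pr1_mem h, d.pr2_mem h⟩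

/-- The projection of a subgroup to the first factor. -/
def Q (H : Subgroup G) : Subgroup G where
  carrier := {a | ∃ h, h ∈ H ∧ h ∈ S ∧ d.pr1 h = a}
  one_mem' := ⟨1, one_mem H, one_mem S, (d.pr_of_mem1 (one_mem _)).1⟩
  mul_mem' := fun ⟨x, hx, hxS, e⟩ ⟨y, hy, hyS, e'⟩ =>
    ⟨x * y, mul_mem hx hy, mul_mem hxS hyS, by rw [d.pr1_hom hxS hyS, e, e']⟩
  inv_mem' := fun ⟨x, hx, hxS, e⟩ => ⟨x⁻¹, inv_mem hx, inv_mem hxS, by rw [(d.pr_inv hxS).1, e]⟩

theorem Q_le (H : Subgroup G) : d.Q H ≤ d.D1 := fun _ ⟨_, _, hxS, e⟩ => e ▸ d.pr1_mem hxS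

theorem pr1_mem_Q {H : Subgroup G} {h : G} (hh : h ∈ H) (hS : h ∈ S) : d.pr1 h ∈ d.Q H :=
  ⟨h, hh, hS, rfl⟩

theorem comm_rot {r h : G} (hr : r ∈ zpowers d.ρ1) (hh : h ∈ S) :
    (d.pr1 h ∈ zpowers d.ρ1 → ⁅r, h⁆ = 1) ∧ (d.pr1 h ∉ zpowers d.ρ1 → ⁅r, h⁆ = r * r) := by
  have hr1 : r ∈ d.D1 := d.dih1.zpowers_le hr
  have e : ⁅r, h⁆ = r * d.pr1 h * r⁻¹ * (d.pr1 h)⁻¹ := by
    conv_lhs => rw [← d.pr1_mul_pr2 h]
    rw [commutatorElement_def, mul_inv_rev]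
    calc r * (d.pr1 h * d.pr2 h) * r⁻¹ * ((d.pr2 h)⁻¹ * (d.pr1 h)⁻¹)
        = r * d.pr1 h * (d.pr2 h * r⁻¹) * (d.pr2 h)⁻¹ * (d.pr1 h)⁻¹ := by group
      _ = r * d.pr1 h * (r⁻¹ * d.pr2 h) * (d.pr2 h)⁻¹ * (d.pr1 h)⁻¹ := by
          rw [d.comm (inv_mem hr1) (d.pr2_mem hh)]
      _ = _ := by group
  constructor <;> intro h1
  · rw [e, Dih.comm_zpowers hr h1]; group
  · have h2 := d.dih1.conj_refl (d.pr1_mem hh) h1 (inv_mem hr)
    rw [inv_inv] at h2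
    rw [e]
    calc r * d.pr1 h * r⁻¹ * (d.pr1 h)⁻¹ = r * (d.pr1 h * r⁻¹ * (d.pr1 h)⁻¹) := by group
      _ = r * r := by rw [h2]

theorem comm_refl_elt {s h : G} (hs : s ∈ d.D1) (hs' : s ∉ zpowers d.ρ1) (hh : h ∈ S) :
    ⁅s, h⁆ ∈ zpowers d.ρ1 ∧ (d.pr1 h ∈ zpowers d.ρ1 → ⁅s, h⁆ = (d.pr1 h)⁻¹ * (d.pr1 h)⁻¹) := by
  have e : ⁅s, h⁆ = s * d.pr1 h * s⁻¹ * (d.pr1 h)⁻¹ := by
    conv_lhs => rw [← d.pr1_mul_pr2 h]
    rw [commutatorElement_def, mul_inv_rev]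
    calc s * (d.pr1 h * d.pr2 h) * s⁻¹ * ((d.pr2 h)⁻¹ * (d.pr1 h)⁻¹)
        = s * d.pr1 h * (d.pr2 h * s⁻¹) * (d.pr2 h)⁻¹ * (d.pr1 h)⁻¹ := by group
      _ = s * d.pr1 h * (s⁻¹ * d.pr2 h) * (d.pr2 h)⁻¹ * (d.pr1 h)⁻¹ := by
          rw [d.comm (inv_mem hs) (d.pr2_mem hh)]
      _ = _ := by group
  refine ⟨?_, fun h1 => by rw [e, d.dih1.conj_refl hs hs' h1]⟩
  rw [e]
  by_cases h1 : d.pr1 h ∈ zpowers d.ρ1
  · rw [d.dih1.conj_refl hs hs' h1]
    exact mul_mem (inv_mem h1) (inv_mem h1)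
  · rw [d.dih1.refl_inv hs hs', d.dih1.refl_inv (d.pr1_mem hh) h1, mul_assoc]
    exact mul_mem ((d.dih1.mul_mem_zpowers_iff hs (d.pr1_mem hh)).mpr (iff_of_false hs' h1))
      ((d.dih1.mul_mem_zpowers_iff hs (d.pr1_mem hh)).mpr (iff_of_false hs' h1))

end DD

variable {S : Sylow 2 G}

/-- An element of `S` acting on an essential subgroup as it acts on a 2-group lies in it. -/
theorem Ess.rule {H M : Subgroup G} (hH : Ess S H) (hM : M ≤ H)
    (hab : ∀ a ∈ M, ∀ b ∈ M, a * b = b * a)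
    (hinv : ∀ n ∈ normalizer (H : Set G), ∀ a ∈ M, n * a * n⁻¹ ∈ M)
    {x : G} (hx : x ∈ (S : Subgroup G)) (hxH : ∀ h ∈ H, ⁅x, h⁆ ∈ M)
    (hxM : ∀ a ∈ M, ∀ i : ℕ, a ^ 2 ^ (i + 1) = 1 → ⁅x, a⁆ ^ 2 ^ i = 1) : x ∈ H := by
  classical
  haveI : Fact (Nat.Prime 2) := ⟨Nat.prime_two⟩
  set N := normalizer (H : Set G) with hN
  have hconjc : ∀ (n a b : G), n * ⁅a, b⁆ * n⁻¹ = ⁅n * a * n⁻¹, n * b * n⁻¹⁆ := fun n a b => by
    simp only [commutatorElement_def]; group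
  have hinvc : ∀ n a : G, ⁅n⁻¹, a⁆ = n⁻¹ * ⁅n, a⁆⁻¹ * n⁻¹⁻¹ := fun n a => by
    simp only [commutatorElement_def]; group
  have hmulc : ∀ n m a : G, ⁅n * m, a⁆ = n * ⁅m, a⁆ * n⁻¹ * ⁅n, a⁆ := fun n m a => by
    simp only [commutatorElement_def]; group
  let P : Subgroup G :=
  { carrier := {n | n ∈ N ∧ (∀ h ∈ H, ⁅n, h⁆ ∈ M) ∧
      ∀ a ∈ M, ∀ i : ℕ, a ^ 2 ^ (i + 1) = 1 → ⁅n, a⁆ ^ 2 ^ i = 1}
    one_mem' := ⟨one_mem N, fun h _ => by rw [commutatorElement_one_left]; exact one_mem M,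
      fun a _ i _ => by rw [commutatorElement_one_left, one_pow]⟩
    mul_mem' := fun {n m} hn hm => ⟨mul_mem hn.1 hm.1, fun h hh => by
        rw [hmulc]; exact mul_mem (hinv n hn.1 _ (hm.2.1 h hh)) (hn.2.1 h hh), fun a ha i hi => by
        rw [hmulc, Commute.mul_pow (hab _ (hinv n hn.1 _ (hm.2.1 a (hM ha))) _ (hn.2.1 a (hM ha))),
          conj_pow, hm.2.2 a ha i hi, hn.2.2 a ha i hi]
        simp⟩
    inv_mem' := fun {n} hn => ⟨inv_mem hn.1, fun h hh => by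
        rw [hinvc]; exact hinv _ (inv_mem hn.1) _ (inv_mem (hn.2.1 h hh)), fun a ha i hi => by
        rw [hinvc, conj_pow, inv_pow, hn.2.2 a ha i hi]; simp⟩ }
  have hxN : x ∈ N := H48.mem_normalizer_of_cj_eq (H48.cj_eq_self_of_le (H48.cj_le.mpr fun h hh => by
    have := mul_mem (hM (hxH h hh)) hh
    simpa [commutatorElement_def] using this))
  refine hH.mem_of_normal (P := P) (fun n hn => hn.1) ?_ ?_ hx ⟨hxN, hxH, hxM⟩
  · intro g hg
    refine H48.mem_normalizer_of_cj_eq (H48.cj_eq_self_of_le (H48.cj_le.mpr fun n hn => ?_))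
    refine ⟨mul_mem (mul_mem hg hn.1) (inv_mem hg), fun h hh => ?_, fun a ha i hi => ?_⟩
    · have := hinv g hg _ (hn.2.1 _ (Coprime.conj_mem' hg hh))
      rwa [hconjc, show g * (g⁻¹ * h * g) * g⁻¹ = h by group] at this
    · have h1 := hn.2.2 (g⁻¹ * a * g) (by simpa using hinv g⁻¹ (inv_mem hg) a ha) i (by
        have e : g⁻¹ * a * g = g⁻¹ * a * g⁻¹⁻¹ := by rw [inv_inv]
        rw [e, conj_pow, hi]; simp)
      have h2 : (g * ⁅n, g⁻¹ * a * g⁆ * g⁻¹) ^ 2 ^ i = 1 := by rw [conj_pow, h1]; simp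
      rwa [hconjc, show g * (g⁻¹ * a * g) * g⁻¹ = a by group] at h2
  · intro n hn ho
    have hpow : ∀ (a m : G), n * a * n⁻¹ = m * a → n * m * n⁻¹ = m → ∀ j : ℕ,
        n ^ j * a * (n ^ j)⁻¹ = m ^ j * a := by
      intro a m h1 h2 j
      induction j with
      | zero => simp
      | succ j ih =>
        have h3 : n * m ^ j * n⁻¹ = m ^ j := by rw [← conj_pow, h2]
        calc n ^ (j + 1) * a * (n ^ (j + 1))⁻¹ = n * (n ^ j * a * (n ^ j)⁻¹) * n⁻¹ := by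
              rw [pow_succ']; group
          _ = (n * m ^ j * n⁻¹) * (n * a * n⁻¹) := by rw [ih]; group
          _ = m ^ (j + 1) * a := by rw [h3, h1, pow_succ, mul_assoc]
    have hone : ∀ (a m : G), n * a * n⁻¹ = m * a → n * m * n⁻¹ = m → m ∈ M → m = 1 := by
      intro a m h1 h2 hm
      have h3 := hpow a m h1 h2 (orderOf n)
      rw [pow_orderOf_eq_one] at h3
      have h4 : m ^ orderOf n = 1 := by simpa using h3.symm
      obtain ⟨j, hj⟩ := S.isPGroup' ⟨m, hH.le (hM hm)⟩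
      have h5 : m ^ 2 ^ j = 1 := congrArg Subtype.val hj
      have h6 := Nat.dvd_gcd (orderOf_dvd_of_pow_eq_one h4) (orderOf_dvd_of_pow_eq_one h5)
      rw [Nat.Coprime.gcd_eq_one ((Nat.coprime_two_right.mpr ho).pow_right j), Nat.dvd_one,
        orderOf_eq_one_iff] at h6
      exact h6
    have hfix : ∀ i : ℕ, ∀ a ∈ M, a ^ 2 ^ i = 1 → n * a * n⁻¹ = a := by
      intro i
      induction i with
      | zero => intro a _ h; rw [pow_zero, pow_one] at h; simp [h]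
      | succ i ih =>
        intro a ha h
        have h1 := hn.2.1 a (hM ha)
        have e : n * a * n⁻¹ = ⁅n, a⁆ * a := by simp [commutatorElement_def]
        rw [e, hone a _ e (ih _ h1 (hn.2.2 a ha i h)) h1, one_mul]
    refine mem_centralizer_iff.mpr fun h hh => ?_
    have h1 := hn.2.1 h hh
    have e : n * h * n⁻¹ = ⁅n, h⁆ * h := by simp [commutatorElement_def]
    obtain ⟨j, hj⟩ := S.isPGroup' ⟨⁅n, h⁆, hH.le (hM h1)⟩
    rw [hone h _ e (hfix j _ h1 (congrArg Subtype.val hj)) h1, one_mul] at e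
    exact (mul_inv_eq_iff_eq_mul.mp e).symm

variable (d : DD (S : Subgroup G))

theorem Ess.mem_of_comm {H : Subgroup G} (hH : Ess S H) {a : G} (ha : a ∈ d.D1)
    (hc : ∀ q ∈ d.Q H, a * q = q * a) : a ∈ H := by
  refine hH.cent ⟨d.le1 ha, mem_centralizer_iff.mpr fun h hh => ?_⟩
  refine ((d.commute_iff (d.le1 ha) (hH.le hh)).mpr ⟨?_, ?_⟩).symm
  · rw [(d.pr_of_mem1 ha).1]
    exact hc _ (d.pr1_mem_Q hh (hH.le hh))
  · rw [(d.pr_of_mem1 ha).2, one_mul, mul_one]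

theorem Ess.z1_mem {H : Subgroup G} (hH : Ess S H) : d.z1 ∈ H :=
  hH.mem_of_comm d d.dih1.z_mem fun _ hq => d.dih1.z_comm (d.Q_le H hq)

theorem Ess.exists_refl {H : Subgroup G} (hH : Ess S H) :
    ∃ s ∈ d.Q H, s ∉ zpowers d.ρ1 := by
  by_contra hc
  push Not at hc
  obtain ⟨s, hs, hs'⟩ := d.dih1.exists_refl
  have hR : ∀ r ∈ zpowers d.ρ1, r ∈ H := fun r hr =>
    hH.mem_of_comm d (d.dih1.zpowers_le hr) fun q hq => Dih.comm_zpowers hr (hc q hq)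
  let M : Subgroup G := H ⊓ centralizer (H : Set G)
  have hM : M ≤ H := inf_le_left
  have hRM : ∀ r ∈ zpowers d.ρ1, r ∈ M := fun r hr => ⟨hR r hr, mem_centralizer_iff.mpr fun h hh => by
    refine ((d.commute_iff (d.le1 (d.dih1.zpowers_le hr)) (hH.le hh)).mpr ⟨?_, ?_⟩).symm
    · rw [(d.pr_of_mem1 (d.dih1.zpowers_le hr)).1]
      exact Dih.comm_zpowers hr (hc _ (d.pr1_mem_Q hh (hH.le hh)))
    · rw [(d.pr_of_mem1 (d.dih1.zpowers_le hr)).2, one_mul, mul_one]⟩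
  have hx := hH.rule hM (fun a ha b hb => (mem_centralizer_iff.mp hb.2 a ha.1))
    (fun n hn a ha => ⟨Coprime.conj_mem hn ha.1, mem_centralizer_iff.mpr fun h hh => by
      have := mem_centralizer_iff.mp ha.2 _ (Coprime.conj_mem' hn hh)
      calc h * (n * a * n⁻¹) = n * ((n⁻¹ * h * n) * a) * n⁻¹ := by group
        _ = n * (a * (n⁻¹ * h * n)) * n⁻¹ := by rw [this]
        _ = _ := by group⟩)
    (d.le1 hs) (fun h hh => hRM _ (d.comm_refl_elt hs hs' (hH.le hh)).1)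
    (fun a ha i hi => by
      have haS := hH.le ha.1
      have h1 := hc _ (d.pr1_mem_Q ha.1 haS)
      rw [(d.comm_refl_elt hs hs' haS).2 h1, ← pow_two, ← pow_mul, ← pow_succ', inv_pow]
      have h2 : (d.pr1 a) ^ 2 ^ (i + 1) = 1 := by
        have key : ∀ j : ℕ, d.pr1 (a ^ j) = d.pr1 a ^ j := by
          intro j
          induction j with
          | zero => simp [(d.pr_of_mem1 (one_mem _)).1]
          | succ j ih => rw [pow_succ, pow_succ, d.pr1_hom (pow_mem haS j) haS, ih]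
        rw [← key, hi, (d.pr_of_mem1 (one_mem _)).1]
      rw [h2, inv_one])
  exact hs' (hc s ⟨s, hx, d.le1 hs, (d.pr_of_mem1 hs).1⟩)

theorem Ess.rule_rot {H M : Subgroup G} (hH : Ess S H) (hM : M ≤ H)
    (hab : ∀ a ∈ M, ∀ b ∈ M, a * b = b * a)
    (hinv : ∀ n ∈ normalizer (H : Set G), ∀ a ∈ M, n * a * n⁻¹ ∈ M)
    {r : G} (hr : r ∈ zpowers d.ρ1) (hrr : r * r ∈ M)
    (hc : ∀ a ∈ M, d.pr1 a ∈ zpowers d.ρ1) : r ∈ H := by
  refine hH.rule hM hab hinv (d.le1 (d.dih1.zpowers_le hr)) (fun h hh => ?_) fun a ha i _ => ?_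
  · by_cases h1 : d.pr1 h ∈ zpowers d.ρ1
    · rw [(d.comm_rot hr (hH.le hh)).1 h1]; exact one_mem M
    · rw [(d.comm_rot hr (hH.le hh)).2 h1]; exact hrr
  · rw [(d.comm_rot hr (hH.le (hM ha))).1 (hc a ha), one_pow]

theorem Ess.four_case {H : Subgroup G} (hH : Ess S H) {s : G} (hs : s ∈ d.Q H)
    (hs' : s ∉ zpowers d.ρ1) (hsmall : ∀ r ∈ zpowers d.ρ1, r ∈ d.Q H → r * r = 1) :
    H = d.prod (four d.z1 s) (d.symm.Q H) ∧ four d.z1 s ≤ H := by
  have hsD := d.Q_le H hs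
  have hQ : ∀ q ∈ d.Q H, q ∈ four d.z1 s := by
    intro q hq
    have hqD := d.Q_le H hq
    by_cases hq' : q ∈ zpowers d.ρ1
    · rcases d.dih1.eq_one_or_z hq' (hsmall q hq' hq) with rfl | rfl
      exacts [one_mem _, left_mem_four _ _]
    · have hm : s * q ∈ zpowers d.ρ1 :=
        (d.dih1.mul_mem_zpowers_iff hsD hqD).mpr (iff_of_false hs' hq')
      have h1 : s * q ∈ four d.z1 s := by
        rcases d.dih1.eq_one_or_z hm (hsmall _ hm (mul_mem hs hq)) with h1 | h1 <;> rw [h1]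
        exacts [one_mem _, left_mem_four _ _]
      simpa using mul_mem (inv_mem (right_mem_four d.z1 s)) h1
  have hle : four d.z1 s ≤ H := fun v hv =>
    hH.mem_of_comm d (four_le d.dih1.z_mem hsD hv) fun q hq => d.dih1.four_comm hsD hs' hv (hQ q hq)
  refine ⟨le_antisymm (fun h hh => ?_) fun x ⟨hxS, h1, h2⟩ => ?_, hle⟩
  · have hhS := hH.le hh
    exact ⟨hhS, hQ _ (d.pr1_mem_Q hh hhS), by
      rw [← d.pr1_symm hhS]; exact d.symm.pr1_mem_Q hh hhS⟩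
  · obtain ⟨h, hh, hhS, e⟩ := h2
    rw [d.pr1_symm hhS] at e
    rw [← d.pr1_mul_pr2 x, ← e, DD.pr2]
    exact mul_mem (hle h1) (mul_mem (inv_mem (hle (hQ _ (d.pr1_mem_Q hh hhS)))) hh)

/-- `E` is not essential if both factors are non-abelian. -/
theorem Ess.not_E (hk1 : 1 ≤ d.k1) (hk2 : 1 ≤ d.k2) {s t : G} (hs : s ∈ d.D1)
    (hs' : s ∉ zpowers d.ρ1) (ht : t ∈ d.D2) (ht' : t ∉ zpowers d.ρ2) : ¬ Ess S (d.E s t) := by
  classical
  haveI : Fact (Nat.Prime 2) := ⟨Nat.prime_two⟩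
  intro hH
  set H := d.E s t with hHdef
  set N := normalizer (H : Set G) with hN
  have hsq : ∀ {D : Subgroup G} {ρ : G} {k : ℕ}, Dih D ρ k → 1 ≤ k →
      ρ ^ 2 ^ (k - 1) * ρ ^ 2 ^ (k - 1) = zinv ρ k := fun {D ρ k} _ hk => by
    rw [zinv, ← pow_add, ← two_mul, ← pow_succ', Nat.sub_add_cancel hk]
  set x := d.ρ1 ^ 2 ^ (d.k1 - 1) with hx
  set y := d.ρ2 ^ 2 ^ (d.k2 - 1) with hy
  have hxx : x * x = d.z1 := hsq d.dih1 hk1
  have hyy : y * y = d.z2 := hsq d.dih2 hk2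
  have hxR : x ∈ zpowers d.ρ1 := pow_mem (mem_zpowers _) _
  have hyR : y ∈ zpowers d.ρ2 := pow_mem (mem_zpowers _) _
  have hxD := d.dih1.zpowers_le hxR
  have hyD := d.dih2.zpowers_le hyR
  have hz1 : d.z1 ∈ H := d.mem_prod_left d.dih1.z_mem (left_mem_four _ _)
  have hz2 : d.z2 ∈ H := d.mem_prod_right d.dih2.z_mem (left_mem_four _ _)
  have htH : t ∈ H := d.mem_prod_right ht (right_mem_four _ _)
  have hab : ∀ a ∈ H, ∀ b ∈ H, a * b = b * a := fun a ha b hb =>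
    (d.commute_iff ha.1 hb.1).mpr ⟨d.dih1.four_comm hs hs' ha.2.1 hb.2.1,
      d.dih2.four_comm ht ht' ha.2.2 hb.2.2⟩
  have hnorm : ∀ (d' : DD (S : Subgroup G)) (r : G), r ∈ zpowers d'.ρ1 → r * r = d'.z1 →
      d'.z1 ∈ H → r ∈ N := fun d' r hr hrr hz =>
    H48.mem_normalizer_of_cj_eq (H48.cj_eq_self_of_le (H48.cj_le.mpr fun h hh => by
      have e : r * h * r⁻¹ = ⁅r, h⁆ * h := by simp [commutatorElement_def]
      rw [e]
      refine mul_mem ?_ hh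
      by_cases h1 : d'.pr1 h ∈ zpowers d'.ρ1
      · rw [(d'.comm_rot hr (hH.le hh)).1 h1]; exact one_mem H
      · rw [(d'.comm_rot hr (hH.le hh)).2 h1, hrr]; exact hz))
  have hxN : x ∈ N := hnorm d x hxR hxx hz1
  have hyN : y ∈ N := hnorm d.symm y hyR hyy hz2
  have hxy : x * y ∈ N := mul_mem hxN hyN
  have hzne : d.z1 * d.z1 = 1 := d.dih1.z_mul_self
  have hxnot : x ∉ H := fun h => by
    have h1 := d.dih1.pow_two_eq_one_four hs hs' h.2.1
    rw [(d.pr_of_mem1 hxD).1, hxx] at h1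
    exact d.dih1.z_ne_one h1
  have hxynot : x * y ∉ H := fun h => by
    have h1 := d.dih1.pow_two_eq_one_four hs hs' h.2.1
    rw [(d.pr_eq hxD hyD).1, hxx] at h1
    exact d.dih1.z_ne_one h1
  haveI hn' : (H.subgroupOf N).Normal :=
    (normal_subgroupOf_iff_le_normalizer le_normalizer).mpr le_rfl
  let P : Sylow 2 N := IsPGroup.toSylow (P := ((S : Subgroup G) ⊓ N).subgroupOf N)
    ((S.isPGroup'.to_le inf_le_left).comap_of_injective N.subtype N.subtype_injective) hH.sylow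
  let f := QuotientGroup.mk' (H.subgroupOf N)
  have hord : ∀ a : N, (a : G) ∉ H → (a : G) * a ∈ H → orderOf (f a) = 2 := fun a h1 h2 =>
    orderOf_eq_prime (by rw [← map_pow, pow_two]; exact (QuotientGroup.eq_one_iff _).mpr h2)
      fun e => h1 ((QuotientGroup.eq_one_iff a).mp e)
  have hPmem : ∀ a : N, (a : G) ∈ (S : Subgroup G) → f a ∈
      (P.mapSurjective (QuotientGroup.mk'_surjective (H.subgroupOf N))) := fun a ha =>
    ⟨a, show (a : G) ∈ (S : Subgroup G) ⊓ N from ⟨ha, a.2⟩, rfl⟩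
  obtain ⟨c, hc⟩ := isConj_iff.mp (isConj_of_not_connected hH.disc _
    (hPmem ⟨x, hxN⟩ (d.le1 hxD)) (hPmem ⟨x * y, hxy⟩ (mul_mem (d.le1 hxD) (d.le2 hyD)))
    (hord ⟨x, hxN⟩ hxnot (by rw [hxx]; exact hz1))
    (hord ⟨x * y, hxy⟩ hxynot (by
      show x * y * (x * y) ∈ H
      rw [mul_assoc, ← mul_assoc y, ← d.comm hxD hyD, mul_assoc x y y, ← mul_assoc, hxx, hyy]
      exact mul_mem hz1 hz2)))
  obtain ⟨n, rfl⟩ := QuotientGroup.mk'_surjective _ c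
  have he : (x * y)⁻¹ * ((n : G) * x * (n : G)⁻¹) ∈ H := by
    have h1 : f (n * ⟨x, hxN⟩ * n⁻¹) = f ⟨x * y, hxy⟩ := by rw [map_mul, map_mul, map_inv]; exact hc
    have h2 : (⟨x * y, hxy⟩ : N)⁻¹ * (n * ⟨x, hxN⟩ * n⁻¹) ∈ H.subgroupOf N :=
      QuotientGroup.eq.mp h1.symm
    exact h2
  set K := four d.z1 d.z2 with hK
  have hKfix : ∀ a ∈ H, x * a = a * x → (n : G) * a * (n : G)⁻¹ ∈ K := by
    intro a ha hca
    have hb : (n : G) * a * (n : G)⁻¹ ∈ H := Coprime.conj_mem n.2 ha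
    set b := (n : G) * a * (n : G)⁻¹ with hbdef
    have h1 : (n : G) * x * (n : G)⁻¹ * b = b * ((n : G) * x * (n : G)⁻¹) := by
      rw [hbdef]
      calc (n : G) * x * (n : G)⁻¹ * ((n : G) * a * (n : G)⁻¹)
          = (n : G) * (x * a) * (n : G)⁻¹ := by group
        _ = _ := by rw [hca]; group
    have h2 := hab _ he b hb
    have h3 : x * y * b = b * (x * y) := by
      have e : (n : G) * x * (n : G)⁻¹ = x * y * ((x * y)⁻¹ * ((n : G) * x * (n : G)⁻¹)) := by group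
      rw [e, mul_assoc, h2, ← mul_assoc, ← mul_assoc b] at h1
      exact mul_right_cancel h1
    obtain ⟨c1, c2⟩ := (d.commute_iff (mul_mem (d.le1 hxD) (d.le2 hyD)) hb.1).mp h3
    rw [(d.pr_eq hxD hyD).1] at c1
    rw [(d.pr_eq hxD hyD).2] at c2
    have h4 := d.dih1.not_mem_of_root (d.pr1_mem hb.1) hxR (hxx ▸ d.dih1.z_ne_one) c1.symm
    have h5 := d.dih2.not_mem_of_root (d.pr2_mem hb.1) hyR (hyy ▸ d.dih2.z_ne_one) c2.symm
    rw [← d.pr1_mul_pr2 b]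
    refine mul_mem ?_ ?_
    · rcases d.dih1.eq_one_or_z h4 (d.dih1.pow_two_eq_one_four hs hs' hb.2.1) with e | e <;> rw [e]
      exacts [one_mem _, left_mem_four _ _]
    · rcases d.dih2.eq_one_or_z h5 (d.dih2.pow_two_eq_one_four ht ht' hb.2.2) with e | e <;> rw [e]
      exacts [one_mem _, right_mem_four _ _]
  have hxz2 : x * d.z2 = d.z2 * x := (d.z2_comm (d.le1 hxD)).symm
  have hKmap : ∀ a ∈ K, (n : G) * a * (n : G)⁻¹ ∈ K := by
    intro a ha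
    refine hKfix a (four_le hz1 hz2 ha) ?_
    rcases (mem_four_iff d.dih1.z_mul_self d.dih2.z_mul_self (d.comm d.dih1.z_mem d.dih2.z_mem)).mp
      ha with rfl | rfl | rfl | rfl
    · simp
    · exact (d.z1_comm (d.le1 hxD)).symm
    · exact hxz2
    · rw [← mul_assoc, ← d.z1_comm (d.le1 hxD), mul_assoc, hxz2, mul_assoc]
  have hsurj : Function.Surjective (fun a : K => (⟨_, hKmap a a.2⟩ : K)) :=
    Finite.surjective_of_injective fun a b e => Subtype.ext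
      (by simpa using congrArg Subtype.val e)
  obtain ⟨a, ha⟩ := hsurj ⟨_, hKfix t htH (d.comm hxD ht)⟩
  have h1 : (a : G) = t := by simpa using congrArg Subtype.val ha
  have h2 : t ∈ K := h1 ▸ a.2
  rcases (mem_four_iff d.dih1.z_mul_self d.dih2.z_mul_self (d.comm d.dih1.z_mem d.dih2.z_mem)).mp
    h2 with e | e | e | e
  · exact ht' (e ▸ one_mem _)
  · have := (d.pr_of_mem2 ht).2
    rw [e, (d.pr_of_mem1 d.dih1.z_mem).2] at this
    exact d.dih1.z_ne_one this.symm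
  · exact ht' (e ▸ Dih.z_mem_zpowers)
  · have := (d.pr_of_mem2 ht).1
    rw [e, (d.pr_eq d.dih1.z_mem d.dih2.z_mem).1] at this
    exact d.dih1.z_ne_one this

/-- A four-group in one factor forces the whole other factor. -/
theorem Ess.four_big {H : Subgroup G} (hH : Ess S H) {s t a : G} (hs : s ∈ d.Q H)
    (hs' : s ∉ zpowers d.ρ1) (hsmall : ∀ r ∈ zpowers d.ρ1, r ∈ d.Q H → r * r = 1)
    (ht : t ∈ d.symm.Q H) (ht' : t ∉ zpowers d.ρ2)
    (ha : a ∈ zpowers d.ρ2) (haQ : a ∈ d.symm.Q H) (ha2 : a * a = d.z2) :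
    d.symm.Q H = d.D2 := by
  classical
  obtain ⟨heq, hle⟩ := hH.four_case d hs hs' hsmall
  have hsD := d.Q_le H hs
  have hQ2 : d.symm.Q H ≤ d.D2 := d.symm.Q_le H
  have hmem : ∀ {x : G}, x ∈ H ↔
      x ∈ (S : Subgroup G) ∧ d.pr1 x ∈ four d.z1 s ∧ d.pr2 x ∈ d.symm.Q H := by
    intro x
    conv_lhs => rw [heq]
    exact Iff.rfl
  refine le_antisymm hQ2 ?_
  suffices hR : d.ρ2 ∈ d.symm.Q H by
    intro b hb
    by_cases hb' : b ∈ zpowers d.ρ2
    · exact Subgroup.zpowers_le.mpr hR hb'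
    · have hm := (d.dih2.mul_mem_zpowers_iff hb (hQ2 ht)).mpr (iff_of_false hb' ht')
      simpa using mul_mem (Subgroup.zpowers_le.mpr hR hm) (inv_mem ht)
  by_contra hR
  obtain ⟨r, hr, hrQ, hrr⟩ := d.dih2.exists_sq_mem (mem_zpowers _) hR
  let M : Subgroup G := closure {h | h ∈ H ∧ h * h ≠ 1}
  have hM : M ≤ H := (closure_le _).mpr fun h hh => hh.1
  have hMR : ∀ m ∈ M, d.pr2 m ∈ zpowers d.ρ2 := by
    have h0 : M ≤ d.prod d.D1 (zpowers d.ρ2) := by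
      refine (closure_le _).mpr fun h hh => ?_
      have hhS := hH.le hh.1
      refine ⟨hhS, d.pr1_mem hhS, by_contra fun hc => hh.2 ?_⟩
      refine d.ext ?_ ?_
      · rw [d.pr1_hom hhS hhS, (d.pr_of_mem1 (one_mem _)).1]
        exact d.dih1.pow_two_eq_one_four hsD hs' (hmem.mp hh.1).2.1
      · rw [d.pr2_hom hhS hhS, (d.pr_of_mem1 (one_mem _)).2]
        exact d.dih2.refl_mul_self (d.pr2_mem hhS) hc
    exact fun m hm => (h0 hm).2.2
  have hab : ∀ m ∈ M, ∀ m' ∈ M, m * m' = m' * m := fun m hm m' hm' =>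
    (d.commute_iff (hH.le (hM hm)) (hH.le (hM hm'))).mpr
      ⟨d.dih1.four_comm hsD hs' (hmem.mp (hM hm)).2.1 (hmem.mp (hM hm')).2.1,
        Dih.comm_zpowers (hMR m hm) (hMR m' hm')⟩
  have hinv : ∀ n ∈ normalizer (H : Set G), ∀ m ∈ M, n * m * n⁻¹ ∈ M := by
    intro n hn
    have h0 : M ≤ M.comap (MulAut.conj n).toMonoidHom := (closure_le _).mpr fun h hh =>
      subset_closure ⟨Coprime.conj_mem hn hh.1, fun e => hh.2 (by simpa using e)⟩
    exact fun m hm => h0 hm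
  have hQH : ∀ q ∈ d.symm.Q H, q ∈ H := fun q hq =>
    hmem.mpr ⟨d.le2 (hQ2 hq), by rw [(d.pr_of_mem2 (hQ2 hq)).1]; exact one_mem _, by
      rw [(d.pr_of_mem2 (hQ2 hq)).2]; exact hq⟩
  have hgen : ∀ q ∈ zpowers d.ρ2, q ∈ d.symm.Q H → q ∈ M := by
    intro q hq hqQ
    by_cases hqq : q * q = 1
    · have h1 : a ∈ M := subset_closure ⟨hQH a haQ, ha2 ▸ d.dih2.z_ne_one⟩
      have h2 : q * a ∈ M := subset_closure ⟨mul_mem (hQH q hqQ) (hQH a haQ), fun e => by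
        rw [mul_assoc, ← mul_assoc a, Dih.comm_zpowers ha hq, mul_assoc q a a, ← mul_assoc, hqq,
          one_mul, ha2] at e
        exact d.dih2.z_ne_one e⟩
      simpa using mul_mem h2 (inv_mem h1)
    · exact subset_closure ⟨hQH q hqQ, hqq⟩
  have hx := hH.rule_rot d.symm hM hab hinv hr (hgen _ (mul_mem hr hr) hrr) fun m hm => by
    rw [d.pr1_symm (hH.le (hM hm))]; exact hMR m hm
  exact hrQ ⟨r, hx, d.le2 (d.dih2.zpowers_le hr), (d.symm.pr_of_mem1 (d.dih2.zpowers_le hr)).1⟩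

theorem Ess.big_diag {H : Subgroup G} (hH : Ess S H) {a : G}
    (ha : a ∈ zpowers d.ρ1) (haQ : a ∈ d.Q H) (ha2 : a * a = d.z1)
    (hdiag : ∀ h ∈ H, d.pr1 h ∈ zpowers d.ρ1 ↔ d.pr2 h ∈ zpowers d.ρ2) : False := by
  classical
  let M : Subgroup G := closure {h | h ∈ H ∧ h * h ≠ 1}
  have hM : M ≤ H := (closure_le _).mpr fun h hh => hh.1
  have hMR : ∀ m ∈ M, d.pr1 m ∈ zpowers d.ρ1 ∧ d.pr2 m ∈ zpowers d.ρ2 := by
    have h0 : M ≤ d.prod (zpowers d.ρ1) (zpowers d.ρ2) := by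
      refine (closure_le _).mpr fun h hh => ?_
      have hhS := hH.le hh.1
      suffices h1 : d.pr1 h ∈ zpowers d.ρ1 from ⟨hhS, h1, (hdiag h hh.1).mp h1⟩
      refine by_contra fun hc => hh.2 (d.ext ?_ ?_)
      · rw [d.pr1_hom hhS hhS, (d.pr_of_mem1 (one_mem _)).1]
        exact d.dih1.refl_mul_self (d.pr1_mem hhS) hc
      · rw [d.pr2_hom hhS hhS, (d.pr_of_mem1 (one_mem _)).2]
        exact d.dih2.refl_mul_self (d.pr2_mem hhS) (mt (hdiag h hh.1).mpr hc)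
    exact fun m hm => (h0 hm).2
  have hab : ∀ m ∈ M, ∀ m' ∈ M, m * m' = m' * m := fun m hm m' hm' =>
    (d.commute_iff (hH.le (hM hm)) (hH.le (hM hm'))).mpr
      ⟨Dih.comm_zpowers (hMR m hm).1 (hMR m' hm').1, Dih.comm_zpowers (hMR m hm).2 (hMR m' hm').2⟩
  have hinv : ∀ n ∈ normalizer (H : Set G), ∀ m ∈ M, n * m * n⁻¹ ∈ M := by
    intro n hn
    have h0 : M ≤ M.comap (MulAut.conj n).toMonoidHom := (closure_le _).mpr fun h hh =>
      subset_closure ⟨Coprime.conj_mem hn hh.1, fun e => hh.2 (by simpa using e)⟩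
    exact fun m hm => h0 hm
  obtain ⟨u, hu, huS, hua⟩ := haQ
  have hsq : ∀ h : G, h ∈ H → d.pr1 h ∈ zpowers d.ρ1 → d.pr1 h * d.pr1 h ≠ 1 → h ∈ M := by
    refine fun h hh _ hne => subset_closure ⟨hh, fun e => hne ?_⟩
    rw [← d.pr1_hom (hH.le hh) (hH.le hh), e, (d.pr_of_mem1 (one_mem _)).1]
  have huM : u ∈ M := hsq u hu (hua ▸ ha) (by rw [hua, ha2]; exact d.dih1.z_ne_one)
  have hall : ∀ h ∈ H, d.pr1 h ∈ zpowers d.ρ1 → h ∈ M := by
    intro h hh h1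
    by_cases hhh : d.pr1 h * d.pr1 h = 1
    · have h2 : h * u ∈ M := by
        refine hsq _ (mul_mem hh hu) ?_ ?_
        · rw [d.pr1_hom (hH.le hh) huS, hua]; exact mul_mem h1 ha
        · rw [d.pr1_hom (hH.le hh) huS, hua, mul_assoc, ← mul_assoc a, Dih.comm_zpowers ha h1,
            mul_assoc (d.pr1 h) a a, ← mul_assoc, hhh, one_mul, ha2]
          exact d.dih1.z_ne_one
      simpa using mul_mem h2 (inv_mem huM)
    · exact hsq h hh h1 hhh
  have hR1 : ∀ r ∈ zpowers d.ρ1, r ∈ H := by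
    intro r hr
    by_contra hrH
    obtain ⟨x, hx, hxH, hxx⟩ := d.dih1.exists_sq_mem hr hrH
    refine hxH (hH.rule_rot d hM hab hinv hx (hall _ hxx ?_) fun m hm => (hMR m hm).1)
    rw [(d.pr_of_mem1 (d.dih1.zpowers_le (mul_mem hx hx))).1]; exact mul_mem hx hx
  have hR2 : ∀ r ∈ zpowers d.ρ2, r ∈ H := by
    intro r hr
    by_contra hrH
    obtain ⟨x, hx, hxH, hxx⟩ := d.dih2.exists_sq_mem hr hrH
    refine hxH (hH.rule_rot d.symm hM hab hinv hx (hall _ hxx ?_) fun m hm => by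
      rw [d.pr1_symm (hH.le (hM hm))]; exact (hMR m hm).2)
    rw [(d.pr_of_mem2 (d.dih2.zpowers_le (mul_mem hx hx))).1]; exact one_mem _
  obtain ⟨s, hs, hs'⟩ := d.dih1.exists_refl
  have hsM : ∀ r ∈ zpowers d.ρ1, r ∈ M := fun r hr => hall r (hR1 r hr) (by
    rw [(d.pr_of_mem1 (d.dih1.zpowers_le hr)).1]; exact hr)
  have hsH := hH.rule hM hab hinv (d.le1 hs)
    (fun h hh => hsM _ (d.comm_refl_elt hs hs' (hH.le hh)).1) fun m hm i hi => by
      have hmS := hH.le (hM hm)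
      rw [(d.comm_refl_elt hs hs' hmS).2 (hMR m hm).1, ← pow_two, ← pow_mul, ← pow_succ', inv_pow]
      have key : ∀ j : ℕ, d.pr1 (m ^ j) = d.pr1 m ^ j := by
        intro j
        induction j with
        | zero => simp [(d.pr_of_mem1 (one_mem _)).1]
        | succ j ih => rw [pow_succ, pow_succ, d.pr1_hom (pow_mem hmS j) hmS, ih]
      rw [← key, hi, (d.pr_of_mem1 (one_mem _)).1, inv_one]
  have := hdiag s hsH
  rw [(d.pr_of_mem1 hs).1, (d.pr_of_mem1 hs).2] at this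
  exact hs' (this.mpr (one_mem _))

/-- Parities of the elements of a subdirect subgroup which is not diagonal. -/
theorem exists_parity {H : Subgroup G} (hH : H ≤ (S : Subgroup G)) {s t : G} (hs : s ∈ d.Q H)
    (hs' : s ∉ zpowers d.ρ1) (ht : t ∈ d.symm.Q H) (ht' : t ∉ zpowers d.ρ2)
    (hnd : ∃ h ∈ H, ¬ (d.pr1 h ∈ zpowers d.ρ1 ↔ d.pr2 h ∈ zpowers d.ρ2)) :
    ∃ h ∈ H, d.pr1 h ∉ zpowers d.ρ1 ∧ d.pr2 h ∈ zpowers d.ρ2 := by
  obtain ⟨h0, hh0, hne⟩ := hnd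
  by_cases h1 : d.pr1 h0 ∈ zpowers d.ρ1
  · have h2 : d.pr2 h0 ∉ zpowers d.ρ2 := fun h2 => hne (iff_of_true h1 h2)
    obtain ⟨k, hk, hkS, hks⟩ := hs
    by_cases h3 : d.pr2 k ∈ zpowers d.ρ2
    · exact ⟨k, hk, hks ▸ hs', h3⟩
    · refine ⟨k * h0, mul_mem hk hh0, fun hc => ?_, ?_⟩
      · rw [d.pr1_hom hkS (hH hh0), d.dih1.mul_mem_zpowers_iff (d.pr1_mem hkS)
          (d.pr1_mem (hH hh0))] at hc
        exact hs' (hks ▸ hc.mpr h1)
      · rw [d.pr2_hom hkS (hH hh0), d.dih2.mul_mem_zpowers_iff (d.pr2_mem hkS)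
          (d.pr2_mem (hH hh0))]
        exact iff_of_false h3 h2
  · exact ⟨h0, hh0, h1, by_contra fun h2 => hne (iff_of_false h1 h2)⟩

theorem squares_mem {H : Subgroup G} (hH : H ≤ (S : Subgroup G)) {h1 : G} (hh1 : h1 ∈ H)
    (h11 : d.pr1 h1 ∉ zpowers d.ρ1) (h12 : d.pr2 h1 ∈ zpowers d.ρ2)
    {q : G} (hq : q ∈ zpowers d.ρ2) (hqQ : q ∈ d.symm.Q H) :
    q * q ∈ closure {x | ∃ h ∈ H, h * h = x} := by
  have key : ∀ h ∈ H, d.pr1 h ∉ zpowers d.ρ1 →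
      d.pr2 h * d.pr2 h ∈ closure {x | ∃ h ∈ H, h * h = x} := fun h hh hc => by
    refine subset_closure ⟨h, hh, d.ext ?_ ?_⟩
    · rw [d.pr1_hom (hH hh) (hH hh), (d.pr_of_mem2 (mul_mem (d.pr2_mem (hH hh))
        (d.pr2_mem (hH hh)))).1]
      exact d.dih1.refl_mul_self (d.pr1_mem (hH hh)) hc
    · rw [d.pr2_hom (hH hh) (hH hh), (d.pr_of_mem2 (mul_mem (d.pr2_mem (hH hh))
        (d.pr2_mem (hH hh)))).2]
  obtain ⟨h, hh, hhS, e⟩ := hqQ
  rw [d.pr1_symm hhS] at e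
  by_cases hc : d.pr1 h ∈ zpowers d.ρ1
  · have h3 := key (h * h1) (mul_mem hh hh1) (fun hc' => by
      rw [d.pr1_hom hhS (hH hh1), d.dih1.mul_mem_zpowers_iff (d.pr1_mem hhS)
        (d.pr1_mem (hH hh1))] at hc'
      exact h11 (hc'.mp hc))
    rw [d.pr2_hom hhS (hH hh1), e] at h3
    have h4 := key h1 hh1 h11
    have := mul_mem h3 (inv_mem h4)
    rw [show q * d.pr2 h1 * (q * d.pr2 h1) * (d.pr2 h1 * d.pr2 h1)⁻¹ = q * q by
      rw [mul_assoc q, ← mul_assoc (d.pr2 h1) q, Dih.comm_zpowers h12 hq]; group] at this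
    exact this
  · have := key h hh hc
    rwa [e] at this

/-- If neither factor is met in a four-group, the subgroup is the whole of `S`. -/
theorem Ess.big_eq {H : Subgroup G} (hH : Ess S H) {s t a b : G} (hs : s ∈ d.Q H)
    (hs' : s ∉ zpowers d.ρ1) (ht : t ∈ d.symm.Q H) (ht' : t ∉ zpowers d.ρ2)
    (ha : a ∈ zpowers d.ρ1) (haQ : a ∈ d.Q H) (ha2 : a * a = d.z1)
    (hb : b ∈ zpowers d.ρ2) (hbQ : b ∈ d.symm.Q H) (hb2 : b * b = d.z2) :
    H = (S : Subgroup G) := by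
  classical
  by_cases hdiag : ∀ h ∈ H, d.pr1 h ∈ zpowers d.ρ1 ↔ d.pr2 h ∈ zpowers d.ρ2
  · exact (hH.big_diag d ha haQ ha2 hdiag).elim
  push Not at hdiag
  obtain ⟨h0, hh0, hne⟩ := hdiag
  have hnd : ∃ h ∈ H, ¬ (d.pr1 h ∈ zpowers d.ρ1 ↔ d.pr2 h ∈ zpowers d.ρ2) :=
    ⟨h0, hh0, fun e => by tauto⟩
  have hnd' : ∃ h ∈ H, ¬ (d.symm.pr1 h ∈ zpowers d.ρ2 ↔ d.symm.pr2 h ∈ zpowers d.ρ1) := by
    obtain ⟨h, hh, hne⟩ := hnd
    exact ⟨h, hh, by rw [d.pr1_symm (hH.le hh), d.pr2_symm (hH.le hh)]; tauto⟩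
  obtain ⟨h1, hh1, h11, h12⟩ := exists_parity d hH.le hs hs' ht ht' hnd
  obtain ⟨h2, hh2, h21, h22⟩ := exists_parity d.symm hH.le ht ht' hs hs' hnd'
  let M : Subgroup G := closure {x | ∃ h ∈ H, h * h = x}
  have hM : M ≤ H := (closure_le _).mpr (by rintro x ⟨h, hh, rfl⟩; exact mul_mem hh hh)
  have hMR : ∀ m ∈ M, d.pr1 m ∈ zpowers d.ρ1 ∧ d.pr2 m ∈ zpowers d.ρ2 := by
    have h0 : M ≤ d.prod (zpowers d.ρ1) (zpowers d.ρ2) := by
      refine (closure_le _).mpr ?_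
      rintro x ⟨h, hh, rfl⟩
      have hhS := hH.le hh
      refine ⟨mul_mem hhS hhS, ?_, ?_⟩
      · rw [d.pr1_hom hhS hhS]
        by_cases hc : d.pr1 h ∈ zpowers d.ρ1
        · exact mul_mem hc hc
        · rw [d.dih1.refl_mul_self (d.pr1_mem hhS) hc]; exact one_mem _
      · rw [d.pr2_hom hhS hhS]
        by_cases hc : d.pr2 h ∈ zpowers d.ρ2
        · exact mul_mem hc hc
        · rw [d.dih2.refl_mul_self (d.pr2_mem hhS) hc]; exact one_mem _
    exact fun m hm => (h0 hm).2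
  have hab : ∀ m ∈ M, ∀ m' ∈ M, m * m' = m' * m := fun m hm m' hm' =>
    (d.commute_iff (hH.le (hM hm)) (hH.le (hM hm'))).mpr
      ⟨Dih.comm_zpowers (hMR m hm).1 (hMR m' hm').1, Dih.comm_zpowers (hMR m hm).2 (hMR m' hm').2⟩
  have hinv : ∀ n ∈ normalizer (H : Set G), ∀ m ∈ M, n * m * n⁻¹ ∈ M := by
    intro n hn
    have h0 : M ≤ M.comap (MulAut.conj n).toMonoidHom := (closure_le _).mpr (by
      rintro x ⟨h, hh, rfl⟩
      exact subset_closure ⟨n * h * n⁻¹, Coprime.conj_mem hn hh, by simp⟩)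
    exact fun m hm => h0 hm
  have hQ1 : ∀ q ∈ zpowers d.ρ1, q ∈ d.Q H → q ∈ H := fun q hq hqQ =>
    hH.rule_rot d hM hab hinv hq (squares_mem d.symm hH.le hh2 h21 h22 hq hqQ)
      fun m hm => (hMR m hm).1
  have hQ2 : ∀ q ∈ zpowers d.ρ2, q ∈ d.symm.Q H → q ∈ H := fun q hq hqQ =>
    hH.rule_rot d.symm hM hab hinv hq (squares_mem d hH.le hh1 h11 h12 hq hqQ)
      fun m hm => by rw [d.pr1_symm (hH.le (hM hm))]; exact (hMR m hm).2
  have hs1 : d.pr1 h1 ∈ H := by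
    have h3 : d.pr2 h1 ∈ H := hQ2 _ h12 ⟨h1, hh1, hH.le hh1, d.pr1_symm (hH.le hh1)⟩
    have := mul_mem hh1 (inv_mem h3)
    rwa [show h1 * (d.pr2 h1)⁻¹ = d.pr1 h1 by simp [DD.pr2]] at this
  have hproj : ∀ h ∈ H, d.pr1 h ∈ H ∧ d.pr2 h ∈ H := by
    intro h hh
    have hhS := hH.le hh
    have h3 : d.pr1 h ∈ H := by
      by_cases hc : d.pr1 h ∈ zpowers d.ρ1
      · exact hQ1 _ hc (d.pr1_mem_Q hh hhS)
      · have hS1 := hH.le hh1
        have hm : d.pr1 h * d.pr1 h1 ∈ zpowers d.ρ1 :=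
          (d.dih1.mul_mem_zpowers_iff (d.pr1_mem hhS) (d.pr1_mem hS1)).mpr (iff_of_false hc h11)
        have := mul_mem (hQ1 _ hm (mul_mem (d.pr1_mem_Q hh hhS) (d.pr1_mem_Q hh1 hS1)))
          (inv_mem hs1)
        simpa using this
    exact ⟨h3, mul_mem (inv_mem h3) hh⟩
  have haH : a ∈ H := hQ1 a ha haQ
  have hbH : b ∈ H := hQ2 b hb hbQ
  have haD := d.dih1.zpowers_le ha
  have hbD := d.dih2.zpowers_le hb
  have hz1 : d.z1 ∈ H := hH.z1_mem d
  have hz2 : d.z2 ∈ H := hH.z1_mem d.symm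
  have hzz : d.z1 * d.z2 = d.z2 * d.z1 := d.comm d.dih1.z_mem d.dih2.z_mem
  let Split : G → Prop := fun z => ∃ u ∈ H, (∃ v ∈ H, u * v ≠ v * u) ∧
    ∀ v ∈ H, ⁅u, v⁆ = 1 ∨ ⁅u, v⁆ = z
  have hsplit_conj : ∀ n ∈ normalizer (H : Set G), ∀ z, Split z → Split (n * z * n⁻¹) := by
    rintro n hn z ⟨u, hu, ⟨v0, hv0, hne⟩, hall⟩
    refine ⟨n * u * n⁻¹, Coprime.conj_mem hn hu, ⟨n * v0 * n⁻¹, Coprime.conj_mem hn hv0,
      fun e => hne (by simpa using e)⟩, fun v hv => ?_⟩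
    have e : ⁅n * u * n⁻¹, v⁆ = n * ⁅u, n⁻¹ * v * n⁆ * n⁻¹ := by
      simp only [commutatorElement_def]; group
    rcases hall _ (Coprime.conj_mem' hn hv) with h | h <;> rw [e, h]
    · left; simp
    · right; rfl
  have hsplit1 : Split d.z1 := by
    refine ⟨a, haH, ⟨d.pr1 h1, hs1, fun e => h11 (d.dih1.not_mem_of_root (d.pr1_mem (hH.le hh1)) ha
      (ha2 ▸ d.dih1.z_ne_one) e.symm)⟩, fun v hv => ?_⟩
    by_cases hc : d.pr1 v ∈ zpowers d.ρ1
    · exact .inl ((d.comm_rot ha (hH.le hv)).1 hc)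
    · exact .inr (((d.comm_rot ha (hH.le hv)).2 hc).trans ha2)
  have hsplit2 : Split d.z2 := by
    have h3 : d.pr2 h2 ∈ H := (hproj h2 hh2).2
    rw [d.pr1_symm (hH.le hh2)] at h21
    refine ⟨b, hbH, ⟨d.pr2 h2, h3, fun e => h21 (d.dih2.not_mem_of_root (d.pr2_mem (hH.le hh2)) hb
      (hb2 ▸ d.dih2.z_ne_one) e.symm)⟩, fun v hv => ?_⟩
    by_cases hc : d.symm.pr1 v ∈ zpowers d.ρ2
    · exact .inl ((d.symm.comm_rot hb (hH.le hv)).1 hc)
    · exact .inr (((d.symm.comm_rot hb (hH.le hv)).2 hc).trans hb2)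
  have hnsplit : ¬ Split (d.z1 * d.z2) := by
    rintro ⟨u, hu, ⟨v, hv, hne⟩, hall⟩
    have huS := hH.le hu
    have hvS := hH.le hv
    rw [Ne, d.commute_iff huS hvS, not_and_or] at hne
    rcases hne with hne | hne
    · rcases hall _ (hproj v hv).1 with h | h
      · rw [commutatorElement_eq_one_iff_mul_comm, d.commute_iff huS (d.le1 (d.pr1_mem hvS)),
          (d.pr_of_mem1 (d.pr1_mem hvS)).1] at h
        exact hne h.1
      · have h3 := congrArg d.pr2 h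
        rw [(d.pr_eq d.dih1.z_mem d.dih2.z_mem).2, commutatorElement_def,
          d.pr2_hom (mul_mem (mul_mem huS (d.le1 (d.pr1_mem hvS))) (inv_mem huS))
            (inv_mem (d.le1 (d.pr1_mem hvS))),
          d.pr2_hom (mul_mem huS (d.le1 (d.pr1_mem hvS))) (inv_mem huS),
          d.pr2_hom huS (d.le1 (d.pr1_mem hvS)), (d.pr_inv (d.le1 (d.pr1_mem hvS))).2,
          (d.pr_inv huS).2, (d.pr_of_mem1 (d.pr1_mem hvS)).2] at h3
        exact d.dih2.z_ne_one (by simpa using h3.symm)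
    · rcases hall _ (hproj v hv).2 with h | h
      · rw [commutatorElement_eq_one_iff_mul_comm, d.commute_iff huS (d.le2 (d.pr2_mem hvS)),
          (d.pr_of_mem2 (d.pr2_mem hvS)).2] at h
        exact hne h.2
      · have h3 := congrArg d.pr1 h
        rw [(d.pr_eq d.dih1.z_mem d.dih2.z_mem).1, commutatorElement_def,
          d.pr1_hom (mul_mem (mul_mem huS (d.le2 (d.pr2_mem hvS))) (inv_mem huS))
            (inv_mem (d.le2 (d.pr2_mem hvS))),
          d.pr1_hom (mul_mem huS (d.le2 (d.pr2_mem hvS))) (inv_mem huS),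
          d.pr1_hom huS (d.le2 (d.pr2_mem hvS)), (d.pr_inv (d.le2 (d.pr2_mem hvS))).1,
          (d.pr_inv huS).1, (d.pr_of_mem2 (d.pr2_mem hvS)).1] at h3
        exact d.dih1.z_ne_one (by simpa using h3.symm)
  have hzfix : ∀ n ∈ normalizer (H : Set G), n * (d.z1 * d.z2) * n⁻¹ = d.z1 * d.z2 := by
    intro n hn
    set c := n * (d.z1 * d.z2) * n⁻¹ with hc
    have hcH : c ∈ H := Coprime.conj_mem hn (mul_mem hz1 hz2)
    have hcS := hH.le hcH
    have hcen : ∀ v ∈ H, c * v = v * c := by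
      intro v hv
      have hw := hH.le (Coprime.conj_mem' hn hv)
      calc c * v = n * (d.z1 * d.z2 * (n⁻¹ * v * n)) * n⁻¹ := by rw [hc]; group
        _ = n * ((n⁻¹ * v * n) * (d.z1 * d.z2)) * n⁻¹ := by
            rw [mul_assoc d.z1, d.z2_comm hw, ← mul_assoc d.z1, d.z1_comm hw, mul_assoc _ d.z1]
        _ = v * c := by rw [hc]; group
    have hk1 : d.pr1 c = 1 ∨ d.pr1 c = d.z1 := by
      have e1 := ((d.commute_iff hcS (hH.le haH)).mp (hcen a haH)).1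
      rw [(d.pr_of_mem1 haD).1] at e1
      have h3 := d.dih1.not_mem_of_root (d.pr1_mem hcS) ha (ha2 ▸ d.dih1.z_ne_one) e1
      have e2 := ((d.commute_iff hcS (hH.le hh1)).mp (hcen h1 hh1)).1
      rcases d.dih1.comm_refl (d.pr1_mem (hH.le hh1)) h11 (d.pr1_mem hcS) e2 with e | e | e | e
      · exact .inl e
      · exact .inr e
      · exact absurd (e ▸ h3) h11
      · refine absurd ?_ h11
        have := mul_mem (inv_mem (Dih.z_mem_zpowers (ρ := d.ρ1) (k := d.k1))) (e ▸ h3)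
        simpa using this
    have hk2 : d.pr2 c = 1 ∨ d.pr2 c = d.z2 := by
      rw [d.pr1_symm (hH.le hh2)] at h21
      have e1 := ((d.commute_iff hcS (hH.le hbH)).mp (hcen b hbH)).2
      rw [(d.pr_of_mem2 hbD).2] at e1
      have h3 := d.dih2.not_mem_of_root (d.pr2_mem hcS) hb (hb2 ▸ d.dih2.z_ne_one) e1
      have e2 := ((d.commute_iff hcS (hH.le hh2)).mp (hcen h2 hh2)).2
      rcases d.dih2.comm_refl (d.pr2_mem (hH.le hh2)) h21 (d.pr2_mem hcS) e2 with e | e | e | e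
      · exact .inl e
      · exact .inr e
      · exact absurd (e ▸ h3) h21
      · refine absurd ?_ h21
        have := mul_mem (inv_mem (Dih.z_mem_zpowers (ρ := d.ρ2) (k := d.k2))) (e ▸ h3)
        show d.pr2 h2 ∈ zpowers d.ρ2
        simpa using this
    have hne : ∀ z, Split z → c ≠ z := fun z hz e => hnsplit (by
      have h := hsplit_conj n⁻¹ (inv_mem hn) z hz
      rwa [← e, hc, show n⁻¹ * (n * (d.z1 * d.z2) * n⁻¹) * n⁻¹⁻¹ = d.z1 * d.z2 by group] at h)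
    have hc' := (d.pr1_mul_pr2 c).symm
    rcases hk1 with e | e <;> rcases hk2 with e' | e' <;> rw [e, e'] at hc'
    · exfalso
      have h1 := congrArg d.pr1 ((by
        rw [hc'] at hc; simpa using hc.symm : d.z1 * d.z2 = 1))
      rw [(d.pr_eq d.dih1.z_mem d.dih2.z_mem).1, (d.pr_of_mem1 (one_mem _)).1] at h1
      exact d.dih1.z_ne_one h1
    · exact absurd (hc'.trans (one_mul _)) (hne _ hsplit2)
    · exact absurd (hc'.trans (mul_one _)) (hne _ hsplit1)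
    · exact hc'
  let T : Set G := {u | u ∈ H ∧ ∃ n : ℕ, u ^ 2 ^ (n + 1) = d.z1 * d.z2}
  let M' : Subgroup G := H ⊓ centralizer T
  have hTR : ∀ u ∈ T, d.pr1 u ∈ zpowers d.ρ1 ∧ d.pr2 u ∈ zpowers d.ρ2 := by
    rintro u ⟨hu, n, hn⟩
    have huS := hH.le hu
    have key : ∀ j : ℕ, d.pr1 (u ^ j) = d.pr1 u ^ j ∧ d.pr2 (u ^ j) = d.pr2 u ^ j := by
      intro j
      induction j with
      | zero => simp [(d.pr_of_mem1 (one_mem _)).1, (d.pr_of_mem1 (one_mem _)).2]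
      | succ j ih =>
        rw [pow_succ, pow_succ, pow_succ, d.pr1_hom (pow_mem huS j) huS,
          d.pr2_hom (pow_mem huS j) huS, ih.1, ih.2]
        exact ⟨rfl, rfl⟩
    obtain ⟨k1, k2⟩ := key (2 ^ (n + 1))
    rw [hn, (d.pr_eq d.dih1.z_mem d.dih2.z_mem).1, pow_succ', pow_mul] at k1
    rw [hn, (d.pr_eq d.dih1.z_mem d.dih2.z_mem).2, pow_succ', pow_mul] at k2
    refine ⟨by_contra fun hc => d.dih1.z_ne_one ?_, by_contra fun hc => d.dih2.z_ne_one ?_⟩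
    · rw [k1, pow_two, d.dih1.refl_mul_self (d.pr1_mem huS) hc, one_pow]
    · rw [k2, pow_two, d.dih2.refl_mul_self (d.pr2_mem huS) hc, one_pow]
  have hM'R : ∀ m ∈ M', d.pr1 m ∈ zpowers d.ρ1 ∧ d.pr2 m ∈ zpowers d.ρ2 := by
    rintro m ⟨hm, hmT⟩
    have hmS := hH.le hm
    have hab2 : a * b ∈ T := ⟨mul_mem haH hbH, 0, by
      rw [zero_add, pow_one, pow_two, mul_assoc, ← mul_assoc b, ← d.comm haD hbD, mul_assoc a b b,
        ← mul_assoc, ha2, hb2]⟩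
    obtain ⟨c1, c2⟩ := (d.commute_iff (hH.le hab2.1) hmS).mp (mem_centralizer_iff.mp hmT _ hab2)
    rw [(d.pr_eq haD hbD).1] at c1
    rw [(d.pr_eq haD hbD).2] at c2
    exact ⟨d.dih1.not_mem_of_root (d.pr1_mem hmS) ha (ha2 ▸ d.dih1.z_ne_one) c1.symm,
      d.dih2.not_mem_of_root (d.pr2_mem hmS) hb (hb2 ▸ d.dih2.z_ne_one) c2.symm⟩
  have hinM' : ∀ q ∈ H, d.pr1 q ∈ zpowers d.ρ1 → d.pr2 q ∈ zpowers d.ρ2 → q ∈ M' :=
    fun q hq h3 h4 => ⟨hq, mem_centralizer_iff.mpr fun u hu =>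
      (d.commute_iff (hH.le hu.1) (hH.le hq)).mpr
        ⟨Dih.comm_zpowers (hTR u hu).1 h3, Dih.comm_zpowers (hTR u hu).2 h4⟩⟩
  have hab' : ∀ m ∈ M', ∀ m' ∈ M', m * m' = m' * m := fun m hm m' hm' =>
    (d.commute_iff (hH.le hm.1) (hH.le hm'.1)).mpr
      ⟨Dih.comm_zpowers (hM'R m hm).1 (hM'R m' hm').1, Dih.comm_zpowers (hM'R m hm).2 (hM'R m' hm').2⟩
  have hinv' : ∀ n ∈ normalizer (H : Set G), ∀ m ∈ M', n * m * n⁻¹ ∈ M' := by
    rintro n hn m ⟨hm, hmT⟩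
    refine ⟨Coprime.conj_mem hn hm, mem_centralizer_iff.mpr fun u hu => ?_⟩
    obtain ⟨huH, j, hj⟩ := hu
    have hu' : n⁻¹ * u * n ∈ T := ⟨Coprime.conj_mem' hn huH, j, by
      have h := hzfix n⁻¹ (inv_mem hn)
      rw [show n⁻¹ * u * n = n⁻¹ * u * n⁻¹⁻¹ by rw [inv_inv], conj_pow, hj, h]⟩
    have := mem_centralizer_iff.mp hmT _ hu'
    calc u * (n * m * n⁻¹) = n * ((n⁻¹ * u * n) * m) * n⁻¹ := by group
      _ = n * (m * (n⁻¹ * u * n)) * n⁻¹ := by rw [this]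
      _ = _ := by group
  refine le_antisymm hH.le ?_
  have hrho1 : ∀ r ∈ zpowers d.ρ1, r ∈ H := by
    intro r hr
    by_contra hrH
    obtain ⟨x, hx, hxH, hxx⟩ := d.dih1.exists_sq_mem hr hrH
    refine hxH (hH.rule_rot d inf_le_left hab' hinv' hx (hinM' _ hxx ?_ ?_) fun m hm => (hM'R m hm).1)
    · rw [(d.pr_of_mem1 (d.dih1.zpowers_le (mul_mem hx hx))).1]; exact mul_mem hx hx
    · rw [(d.pr_of_mem1 (d.dih1.zpowers_le (mul_mem hx hx))).2]; exact one_mem _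
  have hrho2 : ∀ r ∈ zpowers d.ρ2, r ∈ H := by
    intro r hr
    by_contra hrH
    obtain ⟨x, hx, hxH, hxx⟩ := d.dih2.exists_sq_mem hr hrH
    refine hxH (hH.rule_rot d.symm inf_le_left hab' hinv' hx (hinM' _ hxx ?_ ?_) fun m hm => by
      rw [d.pr1_symm (hH.le hm.1)]; exact (hM'R m hm).2)
    · rw [(d.pr_of_mem2 (d.dih2.zpowers_le (mul_mem hx hx))).1]; exact one_mem _
    · rw [(d.pr_of_mem2 (d.dih2.zpowers_le (mul_mem hx hx))).2]; exact mul_mem hx hx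
  have hgen : ∀ {D : Subgroup G} {ρ : G} {k : ℕ}, Dih D ρ k → (∀ r ∈ zpowers ρ, r ∈ H) →
      ∀ u : G, u ∈ D → u ∉ zpowers ρ → u ∈ H → ∀ v ∈ D, v ∈ H := by
    intro D ρ k hD hR u huD hu huH v hv
    by_cases hc : v ∈ zpowers ρ
    · exact hR v hc
    · simpa using mul_mem (hR _ ((hD.mul_mem_zpowers_iff hv huD).mpr (iff_of_false hc hu)))
        (inv_mem huH)
  intro v hv
  rw [← d.pr1_mul_pr2 v]
  rw [d.pr1_symm (hH.le hh2)] at h21
  exact mul_mem (hgen d.dih1 hrho1 _ (d.pr1_mem (hH.le hh1)) h11 hs1 _ (d.pr1_mem hv))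
    (hgen d.dih2 hrho2 _ (d.pr2_mem (hH.le hh2)) h21 (hproj h2 hh2).2 _ (d.pr2_mem hv))

/-- The essential subgroups. -/
theorem Ess.cases {H : Subgroup G} (hH : Ess S H) :
    H = (S : Subgroup G) ∨ (1 ≤ d.k1 ∧ ∃ s ∈ d.D1, s ∉ zpowers d.ρ1 ∧ H = d.T1 s) ∨
      (1 ≤ d.k2 ∧ ∃ t ∈ d.D2, t ∉ zpowers d.ρ2 ∧ H = d.T2 t) := by
  classical
  obtain ⟨s, hs, hs'⟩ := hH.exists_refl d
  obtain ⟨t, ht, ht'⟩ := hH.exists_refl d.symm
  have hsD := d.Q_le H hs
  have htD := d.symm.Q_le H ht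
  by_cases h1 : ∀ r ∈ zpowers d.ρ1, r ∈ d.Q H → r * r = 1
  · obtain ⟨heq, hle⟩ := hH.four_case d hs hs' h1
    by_cases h2 : ∀ r ∈ zpowers d.ρ2, r ∈ d.symm.Q H → r * r = 1
    · obtain ⟨heq2, hle2⟩ := hH.four_case d.symm ht ht' h2
      have hE : H = d.E s t := by
        ext x
        constructor
        · intro hx
          have a1 : x ∈ d.prod (four d.z1 s) (d.symm.Q H) := heq ▸ hx
          have a2 : x ∈ d.symm.prod (four d.z2 t) (d.Q H) := by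
            have : x ∈ d.symm.prod (four d.symm.z1 t) (d.symm.symm.Q H) := heq2 ▸ hx
            exact this
          rw [d.prod_symm] at a2
          exact ⟨a1.1, a1.2.1, a2.2.2⟩
        · rintro ⟨hxS, a1, a2⟩
          rw [← d.pr1_mul_pr2 x]
          exact mul_mem (hle a1) (hle2 a2)
      by_cases hk1 : d.k1 = 0
      · by_cases hk2 : d.k2 = 0
        · left
          rw [hE, DD.E]
          have e1 : four d.z1 s = d.D1 := by
            have hd := d.dih1; rw [hk1] at hd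
            have := hd.four_eq hsD hs'
            rwa [DD.z1, hk1]
          have e2 : four d.z2 t = d.D2 := by
            have hd := d.dih2; rw [hk2] at hd
            have := hd.four_eq htD ht'
            rwa [DD.z2, hk2]
          rw [e1, e2, d.top_eq]
        · refine .inr (.inr ⟨by omega, t, htD, ht', ?_⟩)
          rw [hE, DD.E, DD.T2]
          have hd := d.dih1; rw [hk1] at hd
          have := hd.four_eq hsD hs'
          rw [show four d.z1 s = d.D1 by rwa [DD.z1, hk1]]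
      · by_cases hk2 : d.k2 = 0
        · refine .inr (.inl ⟨by omega, s, hsD, hs', ?_⟩)
          rw [hE, DD.E, DD.T1]
          have hd := d.dih2; rw [hk2] at hd
          have := hd.four_eq htD ht'
          rw [show four d.z2 t = d.D2 by rwa [DD.z2, hk2]]
        · exact absurd (hE ▸ hH) (Ess.not_E d (by omega) (by omega) hsD hs' htD ht')
    · push Not at h2
      obtain ⟨r, hr, hrQ, hrr⟩ := h2
      obtain ⟨a, ha, haQ, ha2⟩ := d.dih2.exists_sqrt_z (Q := d.symm.Q H) hr hrQ hrr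
      have hQ := hH.four_big d hs hs' h1 ht ht' ha haQ ha2
      by_cases hk1 : d.k1 = 0
      · left
        rw [heq, hQ]
        have hd := d.dih1; rw [hk1] at hd
        have := hd.four_eq hsD hs'
        rw [show four d.z1 s = d.D1 by rwa [DD.z1, hk1], d.top_eq]
      · exact .inr (.inl ⟨by omega, s, hsD, hs', by rw [heq, hQ, DD.T1]⟩)
  · push Not at h1
    obtain ⟨r, hr, hrQ, hrr⟩ := h1
    obtain ⟨a, ha, haQ, ha2⟩ := d.dih1.exists_sqrt_z (Q := d.Q H) hr hrQ hrr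
    by_cases h2 : ∀ r ∈ zpowers d.ρ2, r ∈ d.symm.Q H → r * r = 1
    · obtain ⟨heq, -⟩ := hH.four_case d.symm ht ht' h2
      have hQ : d.Q H = d.D1 := hH.four_big d.symm ht ht' h2 hs hs' ha haQ ha2
      have e : H = d.prod d.D1 (four d.z2 t) := by
        calc H = d.symm.prod (four d.symm.z1 t) (d.symm.symm.Q H) := heq
          _ = d.prod (d.Q H) (four d.z2 t) := d.prod_symm _ _
          _ = _ := by rw [hQ]
      by_cases hk2 : d.k2 = 0
      · left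
        rw [e]
        have hd := d.dih2; rw [hk2] at hd
        have := hd.four_eq htD ht'
        rw [show four d.z2 t = d.D2 by rwa [DD.z2, hk2], d.top_eq]
      · exact .inr (.inr ⟨by omega, t, htD, ht', e⟩)
    · push Not at h2
      obtain ⟨r', hr', hrQ', hrr'⟩ := h2
      obtain ⟨b, hb, hbQ, hb2⟩ := d.dih2.exists_sqrt_z (Q := d.symm.Q H) hr' hrQ' hrr'
      exact .inl (hH.big_eq d hs hs' ht ht' ha haQ ha2 hb hbQ hb2)

end Cfsg.Agent.H52.DihSq
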