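import Cfsg.Agent.H52.DihSq.AllActive

/-!
Change of one factor of the product by a homomorphism into the centre of the other.
-/

set_option autoImplicit false

namespace Cfsg.Agent.H52.DihSq

open Subgroup
open Cfsg.Agent

universe u

variable {G : Type u} [Group G] [Finite G]

theorem Dih.map {D : Subgroup G} {ρ : G} {k : ℕ} (h : Dih D ρ k) {D' : Subgroup G} (e : D ≃* D') :
    Dih D' (e ⟨ρ, h.mem⟩ : G) k := by
  set r : D := ⟨ρ, h.mem⟩ with hr
  have hord : orderOf (e r : G) = 2 ^ (k + 1) := by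
    rw [Subgroup.orderOf_coe, MulEquiv.orderOf_eq, hr, Subgroup.orderOf_mk, h.ord]
  refine ⟨(e r).2, hord, ?_, fun s hs hs' => ?_⟩
  · have h1 := relIndex_mul_relIndex ⊥ (zpowers (e r : G)) D' bot_le
      (Subgroup.zpowers_le.mpr (e r).2)
    rw [relIndex_bot_left, relIndex_bot_left, Nat.card_zpowers, hord,
      ← Nat.card_congr e.toEquiv, h.card, pow_succ 2 (k + 1)] at h1
    exact Nat.eq_of_mul_eq_mul_left (by positivity) h1
  · have hs2 : ((e.symm ⟨s, hs⟩ : D) : G) ∉ zpowers ρ := fun hc => hs' (by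
      obtain ⟨j, hj⟩ := mem_zpowers_iff.mp hc
      have : r ^ j = e.symm ⟨s, hs⟩ := Subtype.ext (by simpa [hr] using hj)
      refine mem_zpowers_iff.mpr ⟨j, ?_⟩
      have h2 := congrArg (fun q => ((e q : D') : G)) this
      simpa [map_zpow] using h2)
    have h3 := h.invol _ (e.symm ⟨s, hs⟩).2 hs2
    rw [Subgroup.orderOf_coe, MulEquiv.orderOf_eq, Subgroup.orderOf_mk] at h3
    exact h3

namespace DD

variable {S : Subgroup G} (d : DD S)

/-- The data of a twist of the first factor. -/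
structure TwistData (χ : G → G) : Prop where
  hom : ∀ a ∈ d.D1, ∀ b ∈ d.D1, χ (a * b) = χ a * χ b
  mem : ∀ a ∈ d.D1, χ a ∈ d.D2
  cen : ∀ a ∈ d.D1, ∀ b ∈ d.D2, χ a * b = b * χ a

variable {d} {χ : G → G}

theorem TwistData.map_one (h : d.TwistData χ) : χ 1 = 1 := by
  have := h.hom 1 (one_mem _) 1 (one_mem _)
  rw [one_mul] at this
  exact (left_eq_mul.mp this)

/-- The twisted first factor. -/
def TwistData.sub (h : d.TwistData χ) : Subgroup G where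
  carrier := {x | x ∈ S ∧ d.pr2 x = χ (d.pr1 x)}
  one_mem' := ⟨one_mem S, by
    rw [(d.pr_of_mem1 (one_mem _)).1, (d.pr_of_mem1 (one_mem _)).2, h.map_one]⟩
  mul_mem' := fun {x y} hx hy => ⟨mul_mem hx.1 hy.1, by
    rw [d.pr2_hom hx.1 hy.1, d.pr1_hom hx.1 hy.1, h.hom _ (d.pr1_mem hx.1) _ (d.pr1_mem hy.1),
      hx.2, hy.2]⟩
  inv_mem' := fun {x} hx => ⟨inv_mem hx.1, by
    rw [(d.pr_inv hx.1).2, (d.pr_inv hx.1).1, hx.2]
    refine (eq_inv_of_mul_eq_one_left ?_).symm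
    rw [← h.hom _ (inv_mem (d.pr1_mem hx.1)) _ (d.pr1_mem hx.1), inv_mul_cancel, h.map_one]⟩

theorem TwistData.mem_sub (h : d.TwistData χ) {x : G} :
    x ∈ h.sub ↔ x ∈ S ∧ d.pr2 x = χ (d.pr1 x) := Iff.rfl

theorem TwistData.mul_mem_sub (h : d.TwistData χ) {a : G} (ha : a ∈ d.D1) : a * χ a ∈ h.sub := by
  obtain ⟨e1, e2⟩ := d.pr_eq ha (h.mem a ha)
  exact ⟨mul_mem (d.le1 ha) (d.le2 (h.mem a ha)), by rw [e1, e2]⟩

/-- The isomorphism to the twisted factor. -/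
noncomputable def TwistData.equiv (h : d.TwistData χ) : d.D1 ≃* h.sub where
  toFun a := ⟨a * χ a, h.mul_mem_sub a.2⟩
  invFun x := ⟨d.pr1 x, d.pr1_mem x.2.1⟩
  left_inv a := Subtype.ext (d.pr_eq a.2 (h.mem a a.2)).1
  right_inv x := Subtype.ext (by
    show d.pr1 x * χ (d.pr1 x) = x
    rw [← x.2.2, d.pr1_mul_pr2])
  map_mul' a b := Subtype.ext (by
    show (a : G) * b * χ (a * b : G) = a * χ a * (b * χ b)
    rw [h.hom a a.2 b b.2]
    calc (a : G) * b * (χ a * χ b) = a * (b * χ a) * χ b := by group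
      _ = a * (χ a * b) * χ b := by rw [d.comm b.2 (h.mem a a.2)]
      _ = _ := by group)

/-- The twisted product. -/
noncomputable def TwistData.dd (h : d.TwistData χ) : DD S where
  D1 := h.sub
  D2 := d.D2
  ρ1 := d.ρ1 * χ d.ρ1
  ρ2 := d.ρ2
  k1 := d.k1
  k2 := d.k2
  dih1 := d.dih1.map h.equiv
  dih2 := d.dih2
  idp := by
    refine ⟨fun x hx => hx.1, d.idp.2.1, fun a ha b hb => ?_, ?_, le_antisymm ?_ ?_⟩
    · rw [d.commute_iff ha.1 (d.le2 hb), (d.pr_of_mem2 hb).1, (d.pr_of_mem2 hb).2, ha.2]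
      exact ⟨by simp, h.cen _ (d.pr1_mem ha.1) b hb⟩
    · rw [eq_bot_iff]
      rintro x ⟨hx, hx2⟩
      have e := hx.2
      rw [(d.pr_of_mem2 hx2).1, (d.pr_of_mem2 hx2).2, h.map_one] at e
      exact mem_bot.mpr e
    · exact sup_le (fun x hx => hx.1) d.idp.2.1
    · intro x hx
      have h1 : d.pr1 x * χ (d.pr1 x) ∈ h.sub := h.mul_mem_sub (d.pr1_mem hx)
      have e : x = d.pr1 x * χ (d.pr1 x) * ((χ (d.pr1 x))⁻¹ * d.pr2 x) := by
        rw [mul_assoc, mul_inv_cancel_left, d.pr1_mul_pr2]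
      rw [e]
      exact mul_mem_sup h1 (mul_mem (inv_mem (h.mem _ (d.pr1_mem hx))) (d.pr2_mem hx))

theorem TwistData.dd_D2 (h : d.TwistData χ) : h.dd.D2 = d.D2 := rfl

theorem TwistData.dd_z1 (h : d.TwistData χ) (hk : 1 ≤ d.k1) (h2 : χ d.ρ1 * χ d.ρ1 = 1) :
    h.dd.z1 = d.z1 := by
  show (d.ρ1 * χ d.ρ1) ^ 2 ^ d.k1 = d.ρ1 ^ 2 ^ d.k1
  rw [(show Commute d.ρ1 (χ d.ρ1) from d.comm d.dih1.mem (h.mem _ d.dih1.mem)).mul_pow,
    ← Nat.sub_add_cancel hk, pow_succ', pow_mul (χ d.ρ1), pow_two, h2, one_pow, mul_one]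

end DD

end Cfsg.Agent.H52.DihSq
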